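import Cfsg.Agent.Lib.Invol.Embedded
import Cfsg.Agent.Lib.Block.PrincipalColumns
import Cfsg.Agent.Lib.Block.DihedralColumns
import Cfsg.Agent.Lib.Block.DefectApps
import Cfsg.Agent.Lib.Char.Formulas
import Cfsg.Agent.Lib.Linear.MinDegree.Proj
import Cfsg.Agent.Lib.Block.RegInt
import Cfsg.Agent.Lib.Core.Cores
import Cfsg.Agent.S0942

/-!
A simple group with a strongly embedded subgroup whose involutions commute and centralise the normal
2-complement of an involution centraliser has trivial such complement.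

The proof weighs the characters of the principal 2-block by their fixed points on the centraliser, on the
strongly embedded subgroup and on a Sylow 2-subgroup.
-/

set_option autoImplicit false
set_option linter.style.haveILetI false
set_option linter.unusedSectionVars false
set_option maxHeartbeats 400000

namespace Cfsg.Lib.StrongEmb.TwoNilp

open Subgroup Cfsg Cfsg.Lib.Invol Cfsg.Lib.Block
open scoped ComplexConjugate Classical

universe u

variable {G : Type u} [Group G]

/-- A representation affording an irreducible character. -/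
noncomputable def rep (χ : IrrCharacter G) : Representation ℂ G (Fin χ.2.choose → ℂ) :=
  χ.2.choose_spec.choose

theorem rep_char (χ : IrrCharacter G) : (rep χ).character = (χ : G → ℂ) :=
  χ.2.choose_spec.choose_spec.2

/-- The restriction of the representation to a subgroup. -/
noncomputable def resRep (K : Subgroup G) (χ : IrrCharacter G) : Representation ℂ K (Fin χ.2.choose → ℂ) :=
  MonoidHom.comp (rep χ) K.subtype

/-- The dimension of the fixed points of a subgroup. -/
noncomputable def fixDim (K : Subgroup G) (χ : IrrCharacter G) : ℕ :=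
  Module.finrank ℂ (resRep K χ).invariants

theorem fixDim_anti {K L : Subgroup G} (h : K ≤ L) (χ : IrrCharacter G) : fixDim L χ ≤ fixDim K χ :=
  Submodule.finrank_mono fun v hv => (Representation.mem_invariants _ _).2 fun k =>
    ((Representation.mem_invariants _ _).1 hv ⟨k, h k.2⟩ :)

theorem avg_eq [Finite G] (K : Subgroup G) [Fintype K] (χ : IrrCharacter G) :
    (Nat.card K : ℂ)⁻¹ * ∑ h : K, (χ : G → ℂ) h = fixDim K χ := by
  rw [fixDim, ← Cfsg.Lib.Linear.MinDegree.sum_char_eq_finrank_invariants]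
  exact congrArg _ (Finset.sum_congr rfl fun h _ => (congrFun (rep_char χ) (h : G)).symm)

theorem apply_one_eq_dim (χ : IrrCharacter G) : (χ : G → ℂ) 1 = (χ.2.choose : ℂ) := by
  conv_lhs => rw [← rep_char χ]
  rw [Representation.char_one, Module.finrank_fin_fun]

/-- The centraliser of an element. -/
abbrev cen (t : G) : Subgroup G := centralizer ({t} : Set G)

variable [Fintype G]

open Classical in
/-- The permutation character on the cosets of a subgroup. -/
noncomputable def permChar (K : Subgroup G) (g : G) : ℂ :=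
  (Nat.card K : ℂ)⁻¹ * ∑ x : G, if x * g * x⁻¹ ∈ K then 1 else 0

theorem isClassFunction_permChar (K : Subgroup G) : IsClassFunction G (permChar K) := fun g h => by
  classical
  simp only [permChar]
  congr 1
  refine Fintype.sum_equiv (Equiv.mulRight h) _ _ fun x => ?_
  simp only [Equiv.coe_mulRight]
  refine if_congr ?_ rfl rfl
  rw [mul_inv_rev, show x * (h * g * h⁻¹) * x⁻¹ = x * h * g * (h⁻¹ * x⁻¹) by group]

theorem classInner_permChar (K : Subgroup G) [Fintype K] (χ : IrrCharacter G) :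
    classInner (permChar K) (χ : G → ℂ) = fixDim K χ := by
  classical
  have h1 : ∑ g : G, permChar K g * conj ((χ : G → ℂ) g) =
      (Nat.card G : ℂ) * ((Nat.card K : ℂ)⁻¹ * ∑ h : K, conj ((χ : G → ℂ) h)) := by
    simp only [permChar, mul_assoc (Nat.card K : ℂ)⁻¹, Finset.sum_mul, ite_mul, one_mul, zero_mul, ← Finset.mul_sum]
    rw [Finset.sum_comm]
    have h2 : ∀ x : G, ∑ g : G, (if x * g * x⁻¹ ∈ K then conj ((χ : G → ℂ) g) else 0) =
        ∑ h : K, conj ((χ : G → ℂ) h) := by
      intro x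
      rw [Fintype.sum_equiv (MulAut.conj x).toEquiv _
        (fun g => if g ∈ K then conj ((χ : G → ℂ) g) else 0) fun g => by
          show _ = if x * g * x⁻¹ ∈ K then conj ((χ : G → ℂ) (x * g * x⁻¹)) else 0
          rw [χ.2.isClassFunction g x], ← Finset.sum_filter]
      exact Finset.sum_subtype _ (by simp) _
    simp only [h2, Finset.sum_const, Finset.card_univ, nsmul_eq_mul, Nat.card_eq_fintype_card]
    ring
  rw [classInner, h1, inv_mul_cancel_left₀ Char.card_cast_ne_zero, ← map_sum,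
    show (Nat.card K : ℂ)⁻¹ = conj ((Nat.card K : ℂ)⁻¹) by simp, ← map_mul, avg_eq, Complex.conj_natCast]

theorem sum_degree_fixDim (K : Subgroup G) [Fintype K] :
    ∑ χ : IrrCharacter G, (χ : G → ℂ) 1 * fixDim K χ = (Nat.card G : ℂ) / Nat.card K := by
  classical
  simp only [← avg_eq]
  calc _ = (Nat.card K : ℂ)⁻¹ * ∑ h : K, ∑ χ : IrrCharacter G, (χ : G → ℂ) 1 * (χ : G → ℂ) h := by
        rw [Finset.sum_comm, Finset.mul_sum]
        exact Finset.sum_congr rfl fun χ _ => by rw [← Finset.mul_sum]; ring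
    _ = _ := by
        simp only [Char.sum_degree_mul]
        simp only [OneMemClass.coe_eq_one, Finset.sum_ite_eq', Finset.mem_univ, if_true, inv_mul_eq_div]

/-- Strongly embedded data: the involutions commute and centralise the complement. -/
structure Data (H : Subgroup G) (t : G) (S : Sylow 2 (cen t)) (N : Subgroup (cen t)) : Prop where
  se : IsStronglyEmbedded H
  mem : t ∈ H
  invol : orderOf t = 2
  comm : ∀ a b : G, a ∈ H → b ∈ H → orderOf a = 2 → orderOf b = 2 → Commute a b
  normal : N.Normal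
  compl : N.IsComplement' (S : Subgroup (cen t))
  centI : ∀ y ∈ N, ∀ s ∈ H, orderOf s = 2 → Commute (y : G) s

namespace Data

variable {H : Subgroup G} {t : G} {S : Sylow 2 (cen t)} {N : Subgroup (cen t)}


variable (h : Data H t S N)
include h

theorem le : (cen t) ≤ H := fun _ hg => se_centralizer h.se h.mem h.invol (mem_centralizer_singleton_iff.1 hg)

theorem commuteT (c : (cen t)) : Commute t (c : G) := (mem_centralizer_singleton_iff.1 c.2).symm

theorem mem_cent {s : G} (hs : s ∈ H) (hs2 : orderOf s = 2) : s ∈ (cen t) :=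
  mem_centralizer_singleton_iff.2 (h.comm s t hs h.mem hs2 h.invol).eq

theorem odd : ¬ 2 ∣ Nat.card N := by
  have := h.compl.index_eq_card
  exact this ▸ S.not_dvd_index

theorem index : ∃ a : ℕ, N.index = 2 ^ a := by
  obtain ⟨a, ha⟩ := IsPGroup.iff_card.1 S.2
  exact ⟨a, by rw [h.compl.symm.index_eq_card]; exact ha⟩

theorem card_eq : Nat.card N * Nat.card (S : Subgroup (cen t)) = Nat.card (cen t) := h.compl.card_mul

theorem decomp (c : (cen t)) : ∃ y ∈ N, ∃ s ∈ (S : Subgroup (cen t)), y * s = c :=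
  let ⟨z, hz, _⟩ := h.compl.existsUnique c
  ⟨z.1, z.1.2, z.2, z.2.2, hz⟩

theorem eq_one_of_mem {s : (cen t)} (hs : s ∈ (S : Subgroup (cen t))) (hN : s ∈ N) : s = 1 :=
  mem_bot.1 (h.compl.disjoint.le_bot (mem_inf.2 ⟨hN, hs⟩))

/-- Elements of the Sylow subgroup congruent modulo the complement are equal. -/
theorem eq_of_mem {a b : (cen t)} (ha : a ∈ (S : Subgroup (cen t))) (hb : b ∈ (S : Subgroup (cen t))) (hab : a * b⁻¹ ∈ N) :
    a = b :=
  mul_inv_eq_one.1 (h.eq_one_of_mem (mul_mem ha (inv_mem hb)) hab)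

/-- A 2-element of the centraliser is conjugate to the representative of its coset in the Sylow subgroup. -/
theorem isConj_proj {c s : (cen t)} {k : ℕ} (hc : orderOf c = 2 ^ k) (hs : s ∈ (S : Subgroup (cen t))) (hcs : c * s⁻¹ ∈ N) :
    IsConj c s := by
  haveI := h.normal
  obtain ⟨P, hP⟩ := (IsPGroup.of_card (by rw [Nat.card_zpowers, hc]) : IsPGroup 2 (zpowers c)).exists_le_sylow
  obtain ⟨d, hd⟩ := MulAction.exists_smul_eq (cen t) P S
  have hcS : d * c * d⁻¹ ∈ (S : Subgroup (cen t)) := by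
    rw [← hd, Sylow.coe_subgroup_smul]
    exact Subgroup.smul_mem_pointwise_smul _ _ _ (hP (mem_zpowers c))
  obtain ⟨y, hy, r, hr, rfl⟩ := h.decomp d
  have e : r⁻¹ * (y * r * c * (y * r)⁻¹) * r = s := by
    refine h.eq_of_mem (mul_mem (mul_mem (inv_mem hr) hcS) hr) hs ?_
    rw [show r⁻¹ * (y * r * c * (y * r)⁻¹) * r * s⁻¹ =
      (r⁻¹ * y * r⁻¹⁻¹) * ((c * r⁻¹) * y⁻¹ * (c * r⁻¹)⁻¹) * (c * s⁻¹) by group]
    exact mul_mem (mul_mem (‹N.Normal›.conj_mem _ hy _) (‹N.Normal›.conj_mem _ (inv_mem hy) _)) hcs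
  exact isConj_iff.2 ⟨r⁻¹ * (y * r), by rw [← e]; group⟩

theorem invol_mem {e : (cen t)} (he : orderOf (e : G) = 2) : e ∈ (S : Subgroup (cen t)) := by
  haveI := h.normal
  obtain ⟨y, hy, s, hs, hys⟩ := h.decomp e
  have hc : Commute y e := Subtype.ext (h.centI y hy e (h.le e.2) he).eq
  have hsq : s * s ∈ N := by
    have h2 : e * e = 1 := Subtype.ext (inv_mul_self he)
    have h3 : s = y⁻¹ * e := by rw [← hys]; group
    rw [h3, hc.inv_left.symm.mul_mul_mul_comm, h2, mul_one]
    exact mul_mem (inv_mem hy) (inv_mem hy)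
  have h4 : y * y = 1 := by
    have h2 : e * e = 1 := Subtype.ext (inv_mul_self he)
    have h3 : s = y⁻¹ * e := by rw [← hys]; group
    have h5 := h.eq_one_of_mem (mul_mem hs hs) hsq
    rw [h3, hc.inv_left.symm.mul_mul_mul_comm, h2, mul_one, ← mul_inv_rev, inv_eq_one] at h5
    exact h5
  have h6 : y = 1 := by
    by_contra hy1
    exact h.odd (orderOf_eq_two_of hy1 h4 ▸ Subgroup.orderOf_dvd_natCard _ hy)
  rw [← hys, h6, one_mul]; exact hs

open Classical in
/-- The involutions of the strongly embedded subgroup. -/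
noncomputable def involSet (_h : Data H t S N) : Finset G :=
  Finset.univ.filter fun e => orderOf e = 2 ∧ e ∈ H

theorem mem_involSet {e : G} : e ∈ h.involSet ↔ orderOf e = 2 ∧ e ∈ H := by
  classical
  simp [involSet]

theorem exists_conj {e : G} (he : e ∈ H) (he2 : orderOf e = 2) : ∃ d ∈ H, d * t * d⁻¹ = e := by
  obtain ⟨v, hv, hv2⟩ := se_exists_outside h.se
  obtain ⟨d, hd, hdt⟩ := se_transitive h.se hv2 hv h.invol h.mem he2 he
  exact ⟨d, hd.1, hdt⟩

theorem card_H : h.involSet.card * Nat.card (cen t) = Nat.card H := by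
  classical
  choose d hd hdt using fun e : {e // e ∈ h.involSet} =>
    h.exists_conj (h.mem_involSet.1 e.2).2 (h.mem_involSet.1 e.2).1
  rw [← Nat.card_eq_finsetCard, ← Nat.card_prod]
  refine Nat.card_congr (Equiv.ofBijective
    (fun p : {e // e ∈ h.involSet} × (cen t) => (⟨d p.1 * p.2, mul_mem (hd p.1) (h.le p.2.2)⟩ : H)) ⟨?_, ?_⟩)
  · rintro ⟨e, c⟩ ⟨e', c'⟩ heq
    have h1 : d e * c = d e' * c' := congrArg Subtype.val heq
    have key : ∀ (e : {e // e ∈ h.involSet}) (c : (cen t)), d e * c * t * (d e * c)⁻¹ = e := fun e c => by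
      rw [mul_assoc (d e) (c : G), ← (h.commuteT c).eq]
      simpa [mul_assoc] using hdt e
    obtain rfl : e = e' := Subtype.ext (by rw [← key e c, h1, key e' c'])
    rw [Prod.mk.injEq]
    exact ⟨rfl, Subtype.ext (mul_left_cancel h1)⟩
  · intro g
    have he : (g : G) * t * (g : G)⁻¹ ∈ h.involSet :=
      h.mem_involSet.2 ⟨by rw [Invol.orderOf_conj_eq, h.invol], mul_mem (mul_mem g.2 h.mem) (inv_mem g.2)⟩
    have hc : (d ⟨_, he⟩)⁻¹ * g ∈ (cen t) := by
      have e := hdt ⟨_, he⟩
      simp only at e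
      rw [mem_centralizer_singleton_iff]
      calc (d ⟨_, he⟩)⁻¹ * g * t = (d ⟨_, he⟩)⁻¹ * ((g : G) * t * (g : G)⁻¹) * g := by group
        _ = (d ⟨_, he⟩)⁻¹ * (d ⟨_, he⟩ * t * (d ⟨_, he⟩)⁻¹) * g := by rw [e]
        _ = t * ((d ⟨_, he⟩)⁻¹ * g) := by group
    exact ⟨(⟨_, he⟩, ⟨_, hc⟩), Subtype.ext (mul_inv_cancel_left _ _)⟩

/-- An involution inverts no element of even order other than an involution. -/
theorem sq_eq_one {v v' : G} (hv : orderOf v = 2) (hv' : orderOf v' = 2) (he : Even (orderOf (v * v'))) :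
    v * v' * (v * v') = 1 := by
  obtain ⟨he2, hev, hev'⟩ := central_involution hv hv' he
  set e := (v * v') ^ (orderOf (v * v') / 2)
  obtain ⟨g, hg⟩ := isConj_iff.1 (se_isConj h.se he2 h.invol)
  have key : ∀ a : G, orderOf a = 2 → Commute e a → g * a * g⁻¹ ∈ H ∧ orderOf (g * a * g⁻¹) = 2 := by
    intro a ha hea
    refine ⟨se_centralizer h.se h.mem h.invol ?_, by rw [Invol.orderOf_conj_eq, ha]⟩
    rw [← hg]
    exact hea.symm.map (MulAut.conj g).toMonoidHom
  obtain ⟨h1, h1'⟩ := key v hv hev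
  obtain ⟨h2, h2'⟩ := key v' hv' hev'
  have hc : Commute v v' := Commute.of_map (f := (MulAut.conj g).toMonoidHom) (MulAut.conj g).injective
    (h.comm _ _ h1 h2 h1' h2')
  rw [hc.symm.mul_mul_mul_comm, inv_mul_self hv, inv_mul_self hv', one_mul]

/-- The principal block is constant on the coset of the complement at a non-identity 2-element. -/
theorem apply_eq {M : Ideal AlgInt} (hM : IsPModular 2 M) {χ : IrrCharacter G} (hχ : χ ∈ principalBlock M G)
    {u w : (cen t)} {k : ℕ} (hu : orderOf u = 2 ^ k) (hu1 : u ≠ 1) (hw : w ∈ N) (huw : Commute u w) :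
    (χ : G → ℂ) ((u : G) * w) = (χ : G → ℂ) (u : G) := by
  haveI := h.normal
  haveI : Fact (Nat.Prime 2) := ⟨Nat.prime_two⟩
  have huG : orderOf (u : G) = 2 ^ k := by rw [orderOf_submonoid, hu]
  refine Cfsg.Agent.S0942.result 2 M hM (u : G) ⟨k, huG⟩ (w : G) ?_ χ hχ
  -- the involution below `u`
  obtain ⟨j, rfl⟩ : ∃ j, k = j + 1 := Nat.exists_eq_succ_of_ne_zero fun e => hu1 (orderOf_eq_one_iff.1 (by rw [hu, e, pow_zero]))
  set e := (u : G) ^ 2 ^ j with he
  have he2 : orderOf e = 2 := by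
    rw [he, orderOf_pow_of_dvd (pow_ne_zero _ two_ne_zero) (huG ▸ Dvd.intro _ (pow_succ 2 j).symm), huG, pow_succ,
      Nat.mul_div_cancel_left _ (pow_pos two_pos j)]
  obtain ⟨d, -, hd⟩ := h.exists_conj (pow_mem (h.le u.2) _ : e ∈ H) he2
  have hconj : ∀ c : centralizer ({(u : G)} : Set G), d⁻¹ * (c : G) * d ∈ (cen t) := fun c => by
    have h1 : Commute (c : G) e := Commute.pow_right (mem_centralizer_singleton_iff.1 c.2) _
    replace hd : d * t * d⁻¹ = e := hd
    rw [← hd] at h1
    rw [mem_centralizer_singleton_iff]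
    have := h1.map (MulAut.conj d⁻¹).toMonoidHom
    simpa [mul_assoc, Commute, SemiconjBy] using this
  let φ : centralizer ({(u : G)} : Set G) →* (cen t) :=
    { toFun := fun c => ⟨d⁻¹ * (c : G) * d, hconj c⟩
      map_one' := Subtype.ext (by simp)
      map_mul' := fun a b => Subtype.ext (by simp [mul_assoc]) }
  have hφ : Function.Injective φ := fun a b hab =>
    Subtype.ext (mul_left_cancel (mul_right_cancel (congrArg Subtype.val hab : d⁻¹ * (a : G) * d = d⁻¹ * b * d)))
  have hodd : (Nat.card (N.comap φ)).Coprime 2 := by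
    rw [Nat.coprime_comm, Nat.prime_two.coprime_iff_not_dvd]
    exact fun h2 => h.odd (h2.trans (card_comap_dvd_of_injective N φ hφ))
  have hwc : (w : G) ∈ centralizer ({(u : G)} : Set G) :=
    mem_centralizer_singleton_iff.2 (congrArg Subtype.val huw.eq).symm
  refine ⟨⟨w, hwc⟩, Cfsg.Lib.Core.le_pPrimeCore' (inferInstance : (N.comap φ).Normal) hodd ?_, rfl⟩
  show φ ⟨w, hwc⟩ ∈ N
  refine (mem_iff_isPRegular hM h.odd h.index _).2 ?_
  rw [IsPRegular, orderOf_injective φ hφ, Subgroup.orderOf_mk, Subgroup.orderOf_coe]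
  exact fun h2 => h.odd (h2.trans (Subgroup.orderOf_dvd_natCard N hw))

/-- The principal block sees only the projection on the Sylow subgroup. -/
theorem apply_proj {M : Ideal AlgInt} (hM : IsPModular 2 M) {χ : IrrCharacter G} (hχ : χ ∈ principalBlock M G)
    {y s : (cen t)} (hy : y ∈ N) (hs : s ∈ (S : Subgroup (cen t))) (hs1 : s ≠ 1) :
    (χ : G → ℂ) ((y * s : (cen t)) : G) = (χ : G → ℂ) (s : G) := by
  haveI := h.normal
  haveI : Fact (Nat.Prime 2) := ⟨Nat.prime_two⟩
  set u := pPt 2 (y * s) with hu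
  set w := pReg 2 (y * s) with hw
  obtain ⟨k, hk⟩ := exists_orderOf_pPt (p := 2) (y * s)
  have hwN : w ∈ N := (mem_iff_isPRegular hM h.odd h.index _).2 (not_dvd_orderOf_pReg _)
  have hus : u * s⁻¹ ∈ N := by
    rw [show u * s⁻¹ = (u * w * s⁻¹) * (s * w⁻¹ * s⁻¹) by group, hu, hw, pPt_mul_pReg,
      mul_inv_cancel_right]
    exact mul_mem hy (‹N.Normal›.conj_mem _ (inv_mem hwN) _)
  have hu1 : u ≠ 1 := fun e => hs1 (h.eq_one_of_mem hs (inv_mem_iff.1 (by simpa [e] using hus)))
  obtain ⟨c, hc⟩ := isConj_iff.1 (h.isConj_proj hk hs hus)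
  rw [← pPt_mul_pReg (p := 2) (y * s), Subgroup.coe_mul, h.apply_eq hM hχ hk hu1 hwN (pPt_commute_pReg _),
    ← hu, ← hc, Subgroup.coe_mul, Subgroup.coe_mul, InvMemClass.coe_inv, χ.2.isClassFunction]

/-- A character of the block fixing nothing on the Sylow subgroup has the complement in its kernel. -/
theorem fix_pos [IsSimpleGroup G] {M : Ideal AlgInt} (hM : IsPModular 2 M) {χ : IrrCharacter G}
    (hχ : χ ∈ principalBlock M G) (hN : N ≠ ⊥) : 0 < fixDim ((S : Subgroup (cen t)).map (cen t).subtype) χ := by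
  classical
  by_contra h0
  rw [not_lt, Nat.le_zero] at h0
  set S' := (S : Subgroup (cen t)).map (cen t).subtype with hS'
  set N' := N.map (cen t).subtype with hN'
  have hS0 : fixDim (cen t) χ = 0 := Nat.le_zero.1 (h0 ▸ fixDim_anti (map_subtype_le _) χ)
  have hsumS : ∑ s : (S : Subgroup (cen t)), (χ : G → ℂ) ((s : (cen t)) : G) = 0 := by
    have h1 := avg_eq S' χ
    rw [h0, Nat.cast_zero, mul_eq_zero, or_iff_right (inv_ne_zero (Nat.cast_ne_zero.2 Nat.card_pos.ne'))] at h1
    rw [← h1]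
    exact Fintype.sum_equiv (equivMapOfInjective _ _ (subtype_injective (cen t))).toEquiv _ _ fun _ => rfl
  have hsumC : ∑ c : (cen t), (χ : G → ℂ) c = 0 := by
    have h1 := avg_eq (cen t) χ
    rw [hS0, Nat.cast_zero, mul_eq_zero, or_iff_right (inv_ne_zero (Nat.cast_ne_zero.2 Nat.card_pos.ne'))] at h1
    exact h1
  have hprod : ∑ c : (cen t), (χ : G → ℂ) c =
      ∑ y : N, (χ : G → ℂ) ((y : (cen t)) : G) - (Nat.card N : ℂ) * (χ : G → ℂ) 1 := by
    rw [← Fintype.sum_equiv (Equiv.ofBijective (fun p : N × (S : Subgroup (cen t)) => (p.1 : (cen t)) * p.2) h.compl)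
      (fun p => (χ : G → ℂ) (((p.1 : (cen t)) * p.2 : (cen t)) : G)) _ fun _ => rfl, Fintype.sum_prod_type]
    dsimp only
    refine (Finset.sum_congr rfl (g := fun y : N => (χ : G → ℂ) ((y : (cen t)) : G) - (χ : G → ℂ) 1)
      fun y _ => ?_).trans ?_
    swap
    · rw [Finset.sum_sub_distrib]
      simp [Nat.card_eq_fintype_card]
    rw [← Finset.add_sum_erase _ _ (Finset.mem_univ (1 : (S : Subgroup (cen t)))),
      Finset.sum_congr rfl (g := fun s : (S : Subgroup (cen t)) => (χ : G → ℂ) ((s : (cen t)) : G)) fun s hs =>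
        h.apply_proj hM hχ y.2 s.2 fun e => (Finset.mem_erase.1 hs).1 (Subtype.ext e),
      eq_sub_iff_add_eq, add_assoc]
    conv_rhs => rw [← add_zero ((χ : G → ℂ) ((y : (cen t)) : G)), ← hsumS,
      ← Finset.add_sum_erase _ _ (Finset.mem_univ (1 : (S : Subgroup (cen t))))]
    simp [add_comm]
  have hfull : (fixDim N' χ : ℂ) = (χ.2.choose : ℂ) := by
    rw [← avg_eq, ← Fintype.sum_equiv (equivMapOfInjective N _ (subtype_injective (cen t))).toEquiv
      (fun y => (χ : G → ℂ) ((y : (cen t)) : G)) _ fun _ => rfl, eq_add_of_sub_eq' (hprod.symm.trans hsumC), add_zero,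
      apply_one_eq_dim, hN', card_map_of_injective (subtype_injective (cen t)),
      inv_mul_cancel_left₀ (Nat.cast_ne_zero.2 Nat.card_pos.ne')]
  have hker : N' ≤ MonoidHom.ker (rep χ) := fun y hy => by
    have htop : (resRep N' χ).invariants = ⊤ :=
      Submodule.eq_top_of_finrank_eq (by rw [Module.finrank_fin_fun]; exact_mod_cast hfull)
    rw [MonoidHom.mem_ker]
    exact LinearMap.ext fun v => (Representation.mem_invariants _ v).1
      (htop.symm ▸ Submodule.mem_top : v ∈ (resRep N' χ).invariants) ⟨y, hy⟩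
  rcases (inferInstance : (MonoidHom.ker (rep χ)).Normal).eq_bot_or_eq_top with e | e
  · exact hN ((map_eq_bot_iff_of_injective _ (subtype_injective (cen t))).1 (eq_bot_iff.2 (e ▸ hker)))
  · have h1 := avg_eq S' χ
    rw [h0, Finset.sum_congr rfl (g := fun _ => (χ.2.choose : ℂ)) fun s _ => ?_] at h1
    · simp [← apply_one_eq_dim, χ.2.apply_one_ne_zero, Nat.card_eq_fintype_card] at h1
    have hs : (rep χ) (s : G) = (rep χ) 1 := by
      rw [map_one, MonoidHom.mem_ker.1 (e ▸ mem_top (s : G) : (s : G) ∈ MonoidHom.ker (rep χ))]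
    rw [← apply_one_eq_dim, ← rep_char χ, Representation.character, Representation.character, hs]

/-- The values at the section of the involution, summed over the block. -/
theorem sum_block_section {M : Ideal AlgInt}
    (hM : IsPModular 2 M) [Fintype (principalBlock M G)] {F : G → ℂ} (hF : IsClassFunction G F) :
    ∑ χ ∈ (principalBlock M G).toFinset, (χ : G → ℂ) t * classInner F (χ : G → ℂ) =
      (Nat.card N : ℂ)⁻¹ * ∑ y : N, F (t * ((y : (cen t)) : G)) := by
  classical
  haveI : Fact (Nat.Prime 2) := ⟨Nat.prime_two⟩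
  haveI := h.normal
  have ht : ∃ k : ℕ, orderOf t = 2 ^ k := ⟨1, by rw [h.invol, pow_one]⟩
  set B := (principalBlock M G).toFinset
  set K : G → ℂ := fun g => ∑ χ ∈ B, (χ : G → ℂ) t * conj ((χ : G → ℂ) g)
  set f : G × N → G := fun p => p.1 * (t * ((p.2 : (cen t)) : G)) * p.1⁻¹
  have hpy : ∀ y : N, IsPRegular 2 ((y : (cen t)) : G) := fun y => by
    rw [IsPRegular, orderOf_submonoid]
    exact fun h2 => h.odd (h2.trans (Subgroup.orderOf_dvd_natCard N y.2))
  have hppt : ∀ (x : G) (y : N), pPt 2 (f (x, y)) = x * t * x⁻¹ := fun x y => by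
    rw [pPt_conj, pPt_mul_reg ht (h.commuteT y) (hpy y)]
  have htC : t ∈ (cen t) := h.mem_cent h.mem h.invol
  have hKf : ∀ p, K (f p) = Nat.card (S : Subgroup (cen t)) := by
    rintro ⟨x, y⟩
    have h1 := principal_column hM (u := t) (v := t) ht ht
    rw [if_pos (IsConj.refl t), principalDegSq_of_complement hM ⟨S, N, h.normal, h.compl⟩ S,
      finsum_mem_eq_toFinset_sum] at h1
    rw [← h1]
    refine Finset.sum_congr rfl fun χ hχ => ?_
    have := h.apply_eq hM (Set.mem_toFinset.1 hχ) (u := ⟨t, htC⟩) (w := (y : (cen t))) (k := 1)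
      (by rw [Subgroup.orderOf_mk, h.invol, pow_one]) (fun e => Invol.ne_one h.invol (congrArg Subtype.val e))
      y.2 (Subtype.ext (h.commuteT y).eq)
    simp only [f, χ.2.isClassFunction (t * ((y : (cen t)) : G)) x, this]
  have hfib : ∀ g, ((Finset.univ.filter fun p => f p = g).card : ℂ) * (K g * F g) =
      (Nat.card (cen t) : ℂ) * (K g * F g) := by
    intro g
    by_cases hg : IsConj (pPt 2 g) t
    swap
    · have : K g = 0 := by
        show ∑ χ ∈ B, (χ : G → ℂ) t * conj ((χ : G → ℂ) g) = 0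
        rw [← finsum_mem_eq_toFinset_sum]
        refine sum_block_mul_conj_eq_zero hM (vInt_indVec hM isPBlock_principal) ?_
        rw [(eq_pPt (p := 2) (y := 1) (mul_one t) (Commute.one_right t) (k := 1)
          (by rw [h.invol, pow_one]) (by simp)).symm]
        exact fun e => hg e.symm
      rw [this, zero_mul, mul_zero, mul_zero]
    congr 1
    norm_cast
    rw [← Fintype.card_subtype, ← Nat.card_eq_fintype_card]
    obtain ⟨x, hx⟩ := isConj_iff.1 hg.symm
    have hyC : x⁻¹ * pReg 2 g * x ∈ (cen t) := by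
      rw [mem_centralizer_singleton_iff]
      calc x⁻¹ * pReg 2 g * x * t = x⁻¹ * (pReg 2 g * (x * t * x⁻¹)) * x := by group
        _ = x⁻¹ * (x * t * x⁻¹ * pReg 2 g) * x := by rw [hx, (pPt_commute_pReg g).eq]
        _ = t * (x⁻¹ * pReg 2 g * x) := by group
    have hord : ∀ (a : (cen t)) (c : G), orderOf (a : G) = orderOf (c) → ¬ 2 ∣ orderOf c → a ∈ N :=
      fun a c e hc => (mem_iff_isPRegular hM h.odd h.index _).2 (by
        rw [IsPRegular, ← orderOf_submonoid, e]; exact hc)
    have hyN := hord ⟨_, hyC⟩ (pReg 2 g)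
      (show orderOf (x⁻¹ * pReg 2 g * x) = _ by
        simpa [mul_assoc] using Invol.orderOf_conj_eq x⁻¹ (pReg 2 g)) (not_dvd_orderOf_pReg g)
    set y₀ : N := ⟨⟨_, hyC⟩, hyN⟩
    have h0 : f (x, y₀) = g := by
      show x * (t * (x⁻¹ * pReg 2 g * x)) * x⁻¹ = g
      calc _ = x * t * x⁻¹ * pReg 2 g := by group
        _ = g := by rw [hx, pPt_mul_pReg]
    refine Nat.card_congr (Equiv.ofBijective (fun p : {p // f p = g} => (⟨x⁻¹ * p.1.1, ?_⟩ : (cen t))) ⟨?_, ?_⟩)
    · obtain ⟨⟨x', y⟩, hp⟩ := p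
      have e := hppt x' y
      rw [hp, ← hx] at e
      rw [mem_centralizer_singleton_iff]
      calc x⁻¹ * x' * t = x⁻¹ * (x' * t * x'⁻¹) * x' := by group
        _ = x⁻¹ * (x * t * x⁻¹) * x' := by rw [← e]
        _ = t * (x⁻¹ * x') := by group
    · rintro ⟨⟨a, y⟩, hp⟩ ⟨⟨a', y'⟩, hp'⟩ e
      have ha : a = a' := mul_left_cancel (congrArg Subtype.val e)
      subst ha
      have := hp.trans hp'.symm
      simp only [f, mul_left_inj, mul_right_inj] at this
      obtain rfl : y = y' := Subtype.ext (Subtype.ext this)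
      rfl
    · intro c
      refine ⟨⟨(x * c, ⟨c⁻¹ * (y₀ : (cen t)) * c, by simpa using ‹N.Normal›.conj_mem _ y₀.2 c⁻¹⟩), ?_⟩,
        Subtype.ext (inv_mul_cancel_left _ _)⟩
      rw [← h0]
      show x * c * (t * ((c : G)⁻¹ * ((y₀ : (cen t)) : G) * c)) * (x * c)⁻¹ = _
      rw [show t * ((c : G)⁻¹ * ((y₀ : (cen t)) : G) * c) = (c : G)⁻¹ * (t * ((y₀ : (cen t)) : G)) * c by
        rw [← mul_assoc, ← mul_assoc, (h.commuteT c).inv_right.eq]; group]
      show _ = x * (t * ((y₀ : (cen t)) : G)) * x⁻¹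
      group
  have key : (Nat.card (cen t) : ℂ) * ∑ g, K g * F g =
      (Nat.card G : ℂ) * (Nat.card (S : Subgroup (cen t)) * ∑ y : N, F (t * ((y : (cen t)) : G))) := by
    calc (Nat.card (cen t) : ℂ) * ∑ g, K g * F g
        = ∑ g, ((Finset.univ.filter fun p => f p = g).card : ℂ) * (K g * F g) := by
          rw [Finset.mul_sum]; exact Finset.sum_congr rfl fun g _ => (hfib g).symm
      _ = ∑ p, K (f p) * F (f p) := by
          rw [← Finset.sum_fiberwise Finset.univ f]
          refine Finset.sum_congr rfl fun g _ => ?_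
          rw [Finset.sum_congr rfl (g := fun _ => K g * F g) fun p hp => by rw [(Finset.mem_filter.1 hp).2],
            Finset.sum_const, nsmul_eq_mul]
      _ = _ := by
          simp only [hKf, f, hF]
          rw [← Finset.mul_sum, Fintype.sum_prod_type]
          dsimp only
          simp only [hF _ _]
          rw [Finset.sum_const, nsmul_eq_mul, Finset.card_univ,
            Nat.card_eq_fintype_card (α := G)]
          ring
  have hK : ∑ χ ∈ B, (χ : G → ℂ) t * classInner F (χ : G → ℂ) = (Nat.card G : ℂ)⁻¹ * ∑ g, K g * F g := by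
    simp only [K, classInner, Finset.mul_sum, Finset.sum_mul]
    rw [Finset.sum_comm]
    exact Finset.sum_congr rfl fun g _ => Finset.sum_congr rfl fun χ _ => by ring
  have hcard : (Nat.card (cen t) : ℂ) = Nat.card N * Nat.card (S : Subgroup (cen t)) := by exact_mod_cast h.card_eq.symm
  have hN0 : (Nat.card N : ℂ) ≠ 0 := Nat.cast_ne_zero.2 Nat.card_pos.ne'
  have hS0 : (Nat.card (S : Subgroup (cen t)) : ℂ) ≠ 0 := Nat.cast_ne_zero.2 Nat.card_pos.ne'
  have hG0 : (Nat.card G : ℂ) ≠ 0 := Char.card_cast_ne_zero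
  rw [hK]
  rw [hcard] at key
  field_simp
  refine mul_left_cancel₀ hS0 ?_
  linear_combination key

theorem conj_apply_invol (χ : IrrCharacter G) : conj ((χ : G → ℂ) t) = (χ : G → ℂ) t := by
  rw [← χ.2.isCharacter.apply_inv, Invol.inv_eq_self h.invol]

theorem mem_class {v : G} : v ∈ Char.classFinset t ↔ orderOf v = 2 := by
  rw [Char.mem_classFinset]
  refine ⟨fun hc => ?_, fun hv => se_isConj h.se h.invol hv⟩
  obtain ⟨g, rfl⟩ := isConj_iff.1 hc
  rw [Invol.orderOf_conj_eq, h.invol]

/-- The number of ways of writing an element as a product of two involutions. -/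
noncomputable def pairs (_h : Data H t S N) (z : G) : ℕ :=
  ((Char.classFinset t ×ˢ Char.classFinset t).filter fun p => p.1 * p.2 = z).card

/-- The class function of products of two involutions. -/
noncomputable def sqFn (_h : Data H t S N) (z : G) : ℂ :=
  ∑ χ : IrrCharacter G, (χ : G → ℂ) t * (χ : G → ℂ) t / (χ : G → ℂ) 1 * (χ : G → ℂ) z

theorem isClassFunction_sqFn : IsClassFunction G h.sqFn := fun g x => by
  simp only [sqFn]
  exact Finset.sum_congr rfl fun χ _ => by rw [χ.2.isClassFunction g x]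

theorem classInner_sqFn (η : IrrCharacter G) :
    classInner h.sqFn (η : G → ℂ) = (η : G → ℂ) t * (η : G → ℂ) t / (η : G → ℂ) 1 := by
  have e : classInner h.sqFn (η : G → ℂ) = ∑ χ : IrrCharacter G,
      (χ : G → ℂ) t * (χ : G → ℂ) t / (χ : G → ℂ) 1 * classInner (χ : G → ℂ) (η : G → ℂ) := by
    simp only [classInner, sqFn, Finset.mul_sum, Finset.sum_mul]
    rw [Finset.sum_comm]
    exact Finset.sum_congr rfl fun χ _ => Finset.sum_congr rfl fun g _ => by ring
  rw [e, Finset.sum_eq_single η]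
  · rw [Char.classInner_irr_self η.2, mul_one]
  · intro χ _ hne
    rw [Char.classInner_irr_ne χ.2 η.2 fun e => hne (Subtype.ext e), mul_zero]
  · exact fun e => absurd (Finset.mem_univ _) e

theorem class_mul : ((Char.classFinset t).card : ℂ) * Nat.card (cen t) = Nat.card G := by
  rw [Char.card_classFinset]
  exact_mod_cast index_mul_card (cen t)

theorem sqFn_eq (z : G) :
    h.sqFn z = (Nat.card (cen t) : ℂ) ^ 2 / (Nat.card G : ℂ) * h.pairs z⁻¹ := by
  have h1 := Char.card_class_product t t z⁻¹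
  have h2 : ∑ χ : IrrCharacter G, (χ : G → ℂ) t * (χ : G → ℂ) t * conj ((χ : G → ℂ) z⁻¹) / (χ : G → ℂ) 1 =
      h.sqFn z :=
    Finset.sum_congr rfl fun χ _ => by rw [χ.2.isCharacter.apply_inv, Complex.conj_conj]; ring
  rw [h2] at h1
  have hcl := h.class_mul
  have hG : (Nat.card G : ℂ) ≠ 0 := Char.card_cast_ne_zero
  unfold pairs
  rw [h1]
  field_simp
  linear_combination (-((h.sqFn z) * ((Char.classFinset t).card * (Nat.card (cen t) : ℂ) + Nat.card G))) * hcl

theorem pairs_eq_zero {z : G} (he : Even (orderOf z)) (hne : orderOf z ≠ 2) : h.pairs z = 0 := by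
  refine Finset.card_eq_zero.2 (Finset.filter_eq_empty_iff.2 fun p hp e => hne ?_)
  obtain ⟨h1, h2⟩ := Finset.mem_product.1 hp
  have := h.sq_eq_one (h.mem_class.1 h1) (h.mem_class.1 h2) (by rwa [e])
  rw [e] at this
  refine orderOf_eq_two_of (fun e1 => ?_) this
  rw [e1, orderOf_one] at he
  exact absurd he (by decide)

theorem pairs_invol : h.pairs t = (h.involSet.erase t).card := by
  refine Finset.card_bij (fun p _ => p.1) (fun p hp => ?_) (fun p hp q hq e => ?_) fun v hv => ?_
  · obtain ⟨hm, e⟩ := Finset.mem_filter.1 hp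
    obtain ⟨h1, h2⟩ := Finset.mem_product.1 hm
    have hv1 := h.mem_class.1 h1
    have hv2 := h.mem_class.1 h2
    have hne : p.1 ≠ t := fun e1 => Invol.ne_one hv2 (mul_left_cancel (a := t) (by rw [mul_one]; rwa [e1] at e))
    have hc : p.1 * t = t * p.1 := by
      have := congrArg Inv.inv e
      rw [mul_inv_rev, Invol.inv_eq_self hv1, Invol.inv_eq_self hv2, Invol.inv_eq_self h.invol] at this
      calc p.1 * t = p.1 * (p.1 * p.2) := by rw [e]
        _ = p.2 := by rw [← mul_assoc, Invol.inv_mul_self hv1, one_mul]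
        _ = p.2 * p.1 * p.1 := by rw [mul_assoc, Invol.inv_mul_self hv1, mul_one]
        _ = t * p.1 := by rw [this]
    exact Finset.mem_erase.2 ⟨hne, h.mem_involSet.2 ⟨hv1, se_centralizer h.se h.mem h.invol hc⟩⟩
  · obtain ⟨-, e1⟩ := Finset.mem_filter.1 hp
    obtain ⟨-, e2⟩ := Finset.mem_filter.1 hq
    exact Prod.ext e (mul_left_cancel (a := p.1) (by rw [e1]; rw [e]; exact e2.symm))
  · obtain ⟨hne, hv'⟩ := Finset.mem_erase.1 hv
    obtain ⟨hv2, hvH⟩ := h.mem_involSet.1 hv'
    have hc := h.comm v t hvH h.mem hv2 h.invol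
    refine ⟨(v, v * t), Finset.mem_filter.2 ⟨Finset.mem_product.2 ⟨h.mem_class.2 hv2, h.mem_class.2 ?_⟩, ?_⟩, rfl⟩
    · refine orderOf_eq_two_of (fun e => hne ?_) ?_
      · rw [eq_inv_of_mul_eq_one_left e, Invol.inv_eq_self h.invol]
      · rw [hc.symm.mul_mul_mul_comm, Invol.inv_mul_self hv2, Invol.inv_mul_self h.invol, mul_one]
    · show v * (v * t) = t
      rw [← mul_assoc, Invol.inv_mul_self hv2, one_mul]

/-- The class function at the section of the involution. -/
theorem sqFn_section (y : N) : h.sqFn (t * ((y : cen t) : G)) =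
    if y = 1 then (Nat.card (cen t) : ℂ) ^ 2 / (Nat.card G : ℂ) * ((h.involSet.card : ℂ) - 1) else 0 := by
  haveI : Fact (Nat.Prime 2) := ⟨Nat.prime_two⟩
  rw [h.sqFn_eq]
  split_ifs with hy
  · subst hy
    simp only [OneMemClass.coe_one, mul_one, Invol.inv_eq_self h.invol, h.pairs_invol,
      Finset.card_erase_of_mem (h.mem_involSet.2 ⟨h.invol, h.mem⟩)]
    rw [Nat.cast_sub (Finset.card_pos.2 ⟨t, h.mem_involSet.2 ⟨h.invol, h.mem⟩⟩), Nat.cast_one]
  · have hyo : ¬ 2 ∣ orderOf ((y : cen t) : G) := by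
      rw [orderOf_submonoid]
      exact fun h2 => h.odd (h2.trans (Subgroup.orderOf_dvd_natCard N y.2))
    rw [h.pairs_eq_zero, Nat.cast_zero, mul_zero] <;> rw [orderOf_inv]
    · rw [even_iff_two_dvd]
      by_contra h2
      have h1 := pPt_mul_reg (p := 2) (u := t) ⟨1, by rw [h.invol, pow_one]⟩ (h.commuteT y) hyo
      rw [(pPt_eq_one_iff _).2 h2] at h1
      exact Invol.ne_one h.invol h1.symm
    · intro h2
      have h3 : ((y : cen t) : G) * ((y : cen t) : G) = 1 := by
        have := Invol.inv_mul_self h2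
        rwa [(h.commuteT y).symm.mul_mul_mul_comm, Invol.inv_mul_self h.invol, one_mul] at this
      by_cases hy1 : ((y : cen t) : G) = 1
      · exact hy (Subtype.ext (Subtype.ext hy1))
      · exact hyo (orderOf_eq_two_of hy1 h3 ▸ dvd_rfl)

/-- The weights of the fixed points of the Sylow subgroup. -/
theorem sum_sylow {M : Ideal AlgInt} (hM : IsPModular 2 M) :
    ∑ χ ∈ (principalBlock M G).toFinset, (χ : G → ℂ) t * (χ : G → ℂ) t / (χ : G → ℂ) 1 *
        fixDim ((S : Subgroup (cen t)).map (cen t).subtype) χ =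
      1 + ((h.involSet.card : ℂ) - 1) / H.index := by
  haveI : Fact (Nat.Prime 2) := ⟨Nat.prime_two⟩
  set S' := (S : Subgroup (cen t)).map (cen t).subtype
  set B := (principalBlock M G).toFinset
  set F0 := (Nat.card (cen t) : ℂ) ^ 2 / (Nat.card G : ℂ) * ((h.involSet.card : ℂ) - 1)
  have hcol : ∀ s : S', ∑ χ ∈ B, (χ : G → ℂ) t * (χ : G → ℂ) t / (χ : G → ℂ) 1 * (χ : G → ℂ) (s : G) =
      if (s : G) = 1 then (Nat.card (S : Subgroup (cen t)) : ℂ)
        else if orderOf (s : G) = 2 then (Nat.card N : ℂ)⁻¹ * F0 else 0 := by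
    intro s
    obtain ⟨j, hj⟩ : ∃ j, orderOf (s : G) = 2 ^ j := by
      rw [Subgroup.orderOf_coe]; exact IsPGroup.iff_orderOf.1 (S.2.map _) s
    split_ifs with h1 h2
    · rw [h1]
      have hc := principal_column hM (u := t) (v := t) ⟨1, by rw [h.invol, pow_one]⟩ ⟨1, by rw [h.invol, pow_one]⟩
      rw [if_pos (IsConj.refl t), principalDegSq_of_complement hM ⟨S, N, h.normal, h.compl⟩ S,
        finsum_mem_eq_toFinset_sum] at hc
      rw [← hc]
      exact Finset.sum_congr rfl fun χ _ => by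
        rw [h.conj_apply_invol, div_mul_cancel₀ _ χ.2.apply_one_ne_zero]
    · obtain ⟨g, hg⟩ := isConj_iff.1 (se_isConj h.se h.invol h2)
      have hsec := h.sum_block_section hM h.isClassFunction_sqFn
      simp only [h.sqFn_section, Finset.sum_ite_eq', Finset.mem_univ, if_true] at hsec
      rw [← hsec]
      exact Finset.sum_congr rfl fun χ _ => by
        rw [h.classInner_sqFn, ← hg, χ.2.isClassFunction t g, mul_comm]
    · have hsp : pPt 2 (s : G) = s :=
        (eq_pPt (mul_one _) (Commute.one_right _) hj (by simp)).symm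
      have hz : ∀ g : G, (∑ χ ∈ B, (χ : G → ℂ) (s : G) * conj ((χ : G → ℂ) g)) * h.sqFn g = 0 := by
        intro g
        by_cases hg : IsConj (pPt 2 (s : G)) (pPt 2 g)
        swap
        · rw [← finsum_mem_eq_toFinset_sum, sum_block_mul_conj_eq_zero hM (vInt_indVec hM isPBlock_principal) hg,
            zero_mul]
        rw [hsp] at hg
        obtain ⟨x, hx⟩ := isConj_iff.1 hg
        have hsg : orderOf (pPt 2 g) = orderOf (s : G) := by rw [← hx, Invol.orderOf_conj_eq]
        rw [h.sqFn_eq, h.pairs_eq_zero, Nat.cast_zero, mul_zero, mul_zero] <;> rw [orderOf_inv]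
        · rw [even_iff_two_dvd]
          by_contra h3
          rw [(pPt_eq_one_iff g).2 h3, orderOf_one, eq_comm, orderOf_eq_one_iff] at hsg
          exact h1 hsg
        · intro h3
          rw [← eq_pPt (p := 2) (mul_one g) (Commute.one_right g) (k := 1) (by rw [h3, pow_one]) (by simp), h3]
            at hsg
          exact h2 hsg.symm
      have hK : ∑ χ ∈ B, (χ : G → ℂ) (s : G) * classInner h.sqFn (χ : G → ℂ) =
          (Nat.card G : ℂ)⁻¹ * ∑ g, (∑ χ ∈ B, (χ : G → ℂ) (s : G) * conj ((χ : G → ℂ) g)) * h.sqFn g := by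
        simp only [classInner, Finset.mul_sum, Finset.sum_mul]
        rw [Finset.sum_comm]
        exact Finset.sum_congr rfl fun g _ => Finset.sum_congr rfl fun χ _ => by ring
      simp only [hz, Finset.sum_const_zero, mul_zero, h.classInner_sqFn] at hK
      rw [← hK]
      exact Finset.sum_congr rfl fun χ _ => mul_comm _ _
  have hinv : ((Finset.univ.filter fun s : S' => orderOf (s : G) = 2).card) = h.involSet.card := by
    refine Finset.card_bij (fun s _ => (s : G)) (fun s hs => ?_) (fun a _ b _ e => Subtype.ext e) fun e he => ?_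
    · exact h.mem_involSet.2 ⟨(Finset.mem_filter.1 hs).2, h.le (map_subtype_le _ s.2)⟩
    · obtain ⟨he2, heH⟩ := h.mem_involSet.1 he
      exact ⟨⟨e, ⟨e, h.mem_cent heH he2⟩, h.invol_mem he2, rfl⟩, Finset.mem_filter.2 ⟨Finset.mem_univ _, he2⟩, rfl⟩
  have hsum : ∑ s : S', (if (s : G) = 1 then (Nat.card (S : Subgroup (cen t)) : ℂ)
        else if orderOf (s : G) = 2 then (Nat.card N : ℂ)⁻¹ * F0 else 0) =
      Nat.card (S : Subgroup (cen t)) + h.involSet.card * ((Nat.card N : ℂ)⁻¹ * F0) := by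
    rw [Finset.sum_ite, Finset.sum_ite, Finset.sum_const_zero, add_zero, Finset.sum_const, Finset.sum_const,
      nsmul_eq_mul, nsmul_eq_mul, Finset.filter_filter,
      Finset.filter_congr (q := fun s : S' => orderOf (s : G) = 2) fun s _ =>
        ⟨And.right, fun e => ⟨Invol.ne_one e, e⟩⟩, hinv]
    congr 1
    simp [Finset.filter_eq']
  simp only [← avg_eq S', Finset.mul_sum]
  rw [Finset.sum_comm]
  simp only [mul_left_comm _ (Nat.card S' : ℂ)⁻¹, ← Finset.mul_sum, hcol, hsum]
  rw [card_map_of_injective (subtype_injective (cen t))]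
  have hS0 : (Nat.card (S : Subgroup (cen t)) : ℂ) ≠ 0 := Nat.cast_ne_zero.2 Nat.card_pos.ne'
  have hN0 : (Nat.card N : ℂ) ≠ 0 := Nat.cast_ne_zero.2 Nat.card_pos.ne'
  have hG0 : (Nat.card G : ℂ) ≠ 0 := Char.card_cast_ne_zero
  have hC : (Nat.card (cen t) : ℂ) = Nat.card N * Nat.card (S : Subgroup (cen t)) := by
    exact_mod_cast h.card_eq.symm
  have hn : (H.index : ℂ) * ((h.involSet.card : ℂ) * Nat.card (cen t)) = Nat.card G := by
    rw [← index_mul_card H, ← h.card_H]
    push_cast
    ring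
  have hn0 : (H.index : ℂ) ≠ 0 := Nat.cast_ne_zero.2 index_ne_zero_of_finite
  simp only [F0]
  field_simp
  rw [← hn, hC]
  ring

/-- Conjugates of the section of the involution meet `H`, and the centraliser, exactly at `H`. -/
theorem section_mem_iff {K : Subgroup G} (hCK : cen t ≤ K) (hKH : K ≤ H) (y : N) (g : G) :
    g * (t * ((y : cen t) : G)) * g⁻¹ ∈ K ↔ g ∈ H := by
  have hyo : Odd (orderOf ((y : cen t) : G)) := by
    rw [← Nat.not_even_iff_odd, even_iff_two_dvd, orderOf_submonoid]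
    exact fun h2 => h.odd (h2.trans (Subgroup.orderOf_dvd_natCard N y.2))
  refine ⟨fun hg => ?_, fun hg => hCK (mem_centralizer_singleton_iff.2 ?_)⟩
  · have h1 := pow_mem (hKH hg) (orderOf ((y : cen t) : G))
    rw [conj_pow, (h.commuteT y).mul_pow, pow_orderOf_eq_one, mul_one] at h1
    obtain ⟨i, hi⟩ := hyo
    rw [hi, pow_succ, pow_mul, pow_two, Invol.inv_mul_self h.invol, one_pow, one_mul] at h1
    exact se_mem h.se h.mem h.invol h1
  · have hs : g⁻¹ * t * g ∈ H := mul_mem (mul_mem (inv_mem hg) h.mem) hg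
    have hs2 : orderOf (g⁻¹ * t * g) = 2 := by
      simpa [mul_assoc, h.invol] using Invol.orderOf_conj_eq g⁻¹ t
    have hc : Commute (t * ((y : cen t) : G)) (g⁻¹ * t * g) :=
      (h.comm t _ h.mem hs h.invol hs2).mul_left (h.centI y y.2 _ hs hs2)
    have := hc.map (MulAut.conj g).toMonoidHom
    simpa [mul_assoc, Commute, SemiconjBy] using this

theorem sum_fix {M : Ideal AlgInt} (hM : IsPModular 2 M) {K : Subgroup G} (hCK : cen t ≤ K) (hKH : K ≤ H) :
    ∑ χ ∈ (principalBlock M G).toFinset, (χ : G → ℂ) t * fixDim K χ = (Nat.card H : ℂ) / Nat.card K := by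
  have h1 := h.sum_block_section hM (isClassFunction_permChar K)
  simp only [classInner_permChar] at h1
  rw [h1]
  have h2 : ∀ y : N, permChar K (t * ((y : cen t) : G)) = (Nat.card H : ℂ) / Nat.card K := fun y => by
    rw [permChar, inv_mul_eq_div]
    congr 1
    rw [Finset.sum_boole, ← Fintype.card_subtype, ← Nat.card_eq_fintype_card, Nat.cast_inj]
    exact Nat.card_congr (Equiv.subtypeEquivRight fun g => h.section_mem_iff hCK hKH y g)
  simp [h2, Nat.card_eq_fintype_card]

theorem eq_bot [IsSimpleGroup G] : N = ⊥ := by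
  by_contra hN
  haveI : Fact (Nat.Prime 2) := ⟨Nat.prime_two⟩
  obtain ⟨M, hM⟩ := exists_isPModular (q := 2) Nat.prime_two
  set B := (principalBlock M G).toFinset with hB
  set S' := (S : Subgroup (cen t)).map (cen t).subtype
  set k : ℝ := (h.involSet.card : ℝ)
  set n : ℝ := (H.index : ℝ) with hndef
  set x : IrrCharacter G → ℝ := fun χ => ((χ : G → ℂ) t).re
  set f : IrrCharacter G → ℝ := fun χ => (χ.2.choose : ℝ)
  set a : IrrCharacter G → ℝ := fun χ => (fixDim (cen t) χ : ℝ) - fixDim H χ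
  set d : IrrCharacter G → ℝ := fun χ => (fixDim S' χ : ℝ)
  have hx : ∀ χ : IrrCharacter G, (χ : G → ℂ) t = (x χ : ℂ) := fun χ =>
    (Complex.conj_eq_iff_re.1 (h.conj_apply_invol χ)).symm
  have hf : ∀ χ, 0 < f χ := fun χ => by
    have : χ.2.choose ≠ 0 := fun e => χ.2.apply_one_ne_zero (by rw [apply_one_eq_dim, e, Nat.cast_zero])
    simp only [f]; positivity
  have hn : 0 < n := by
    have : H.index ≠ 0 := index_ne_zero_of_finite
    simp only [n]; positivity
  have ha : ∀ χ, 0 ≤ a χ := fun χ => sub_nonneg.2 (Nat.cast_le.2 (fixDim_anti h.le χ))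
  have had : ∀ χ, a χ ≤ d χ := fun χ => by
    have h1 : (fixDim (cen t) χ : ℝ) ≤ d χ := Nat.cast_le.2 (fixDim_anti (map_subtype_le _) χ)
    have h2 : (0 : ℝ) ≤ fixDim H χ := Nat.cast_nonneg _
    simp only [a]; linarith
  -- the five sums
  have hkC : (Nat.card H : ℂ) / Nat.card (cen t) = (h.involSet.card : ℂ) := by
    rw [← h.card_H, Nat.cast_mul, mul_div_assoc, div_self (Nat.cast_ne_zero.2 Nat.card_pos.ne'), mul_one]
  have e1 : ∑ χ ∈ B, x χ * x χ / f χ * d χ = 1 + (k - 1) / n := by
    have := h.sum_sylow hM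
    simp only [hx, apply_one_eq_dim] at this
    apply Complex.ofReal_injective
    push_cast [k, n, f, d]
    exact this
  have e2 : ∑ χ ∈ B, a χ * x χ = k - 1 := by
    have h2 := h.sum_fix hM le_rfl h.le
    have h3 := h.sum_fix hM h.le le_rfl
    rw [hkC] at h2
    rw [div_self (Nat.cast_ne_zero.2 Nat.card_pos.ne')] at h3
    simp only [hx] at h2 h3
    apply Complex.ofReal_injective
    push_cast [k, a]
    rw [Finset.sum_congr rfl (g := fun χ => (x χ : ℂ) * fixDim (cen t) χ - (x χ : ℂ) * fixDim H χ)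
      fun χ _ => by ring, Finset.sum_sub_distrib, h2, h3]
  have e4 : ∑ χ ∈ B, x χ * f χ = 0 := by
    have h1 : ∑ᶠ χ ∈ principalBlock M G, (χ : G → ℂ) t * conj ((χ : G → ℂ) 1) = 0 := by
      refine sum_block_mul_conj_eq_zero hM (vInt_indVec hM isPBlock_principal) ?_
      rw [(pPt_eq_one_iff (p := 2) (1 : G)).2 (by simp), isConj_one_left]
      intro e
      rw [pPt_eq_one_iff, h.invol] at e
      exact e dvd_rfl
    rw [finsum_mem_eq_toFinset_sum] at h1
    simp only [hx, apply_one_eq_dim, Complex.conj_natCast] at h1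
    apply Complex.ofReal_injective
    push_cast [f]
    exact h1
  have e5 : ∑ χ ∈ B, a χ * f χ ≤ n * (k - 1) := by
    refine le_trans (Finset.sum_le_sum_of_subset_of_nonneg (Finset.subset_univ _)
      fun χ _ _ => mul_nonneg (ha χ) (hf χ).le) (le_of_eq ?_)
    have h1 := sum_degree_fixDim (cen t)
    have h2 := sum_degree_fixDim H
    have hidx : (Nat.card G : ℂ) / Nat.card H = H.index := by
      rw [← index_mul_card H, Nat.cast_mul, mul_div_assoc, div_self (Nat.cast_ne_zero.2 Nat.card_pos.ne'), mul_one]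
    have hidx' : (Nat.card G : ℂ) / Nat.card (cen t) = H.index * h.involSet.card := by
      rw [← hkC, ← hidx]
      field_simp [Nat.cast_ne_zero.2 (Nat.card_pos (α := H)).ne']
    rw [hidx'] at h1
    rw [hidx] at h2
    simp only [apply_one_eq_dim] at h1 h2
    apply Complex.ofReal_injective
    push_cast [k, n, a, f]
    rw [Finset.sum_congr rfl (g := fun χ : IrrCharacter G => ((χ.2.choose : ℕ) : ℂ) * fixDim (cen t) χ -
      ((χ.2.choose : ℕ) : ℂ) * fixDim H χ) fun χ _ => by ring, Finset.sum_sub_distrib, h1, h2]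
    ring
  -- the nonnegative weights
  set T : IrrCharacter G → ℝ := fun χ =>
    a χ * (n * x χ - f χ) ^ 2 / f χ + n ^ 2 * (d χ - a χ) * x χ ^ 2 / f χ
  have hT : ∀ χ, T χ = a χ * f χ - 2 * n * (a χ * x χ) + n ^ 2 * (x χ * x χ / f χ * d χ) := fun χ => by
    have := (hf χ).ne'
    simp only [T]
    field_simp
    ring
  have hT0 : ∀ χ, 0 ≤ T χ := fun χ => add_nonneg (div_nonneg (mul_nonneg (ha χ) (sq_nonneg _)) (hf χ).le)
    (div_nonneg (mul_nonneg (mul_nonneg (sq_nonneg _) (sub_nonneg.2 (had χ))) (sq_nonneg _)) (hf χ).le)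
  have hsumT : ∑ χ ∈ B, T χ ≤ n ^ 2 := by
    simp only [hT, Finset.sum_add_distrib, Finset.sum_sub_distrib, ← Finset.mul_sum, e1, e2]
    have : n ^ 2 * (1 + (k - 1) / n) = n ^ 2 + n * (k - 1) := by field_simp
    linarith
  have htriv : ∀ (K : Subgroup G), fixDim K (trivChar G) = 1 := fun K => by
    have := avg_eq K (trivChar G)
    simp only [trivChar_coe, Finset.sum_const, Finset.card_univ, nsmul_eq_mul, mul_one] at this
    rw [← Nat.card_eq_fintype_card, inv_mul_cancel₀ (Nat.cast_ne_zero.2 Nat.card_pos.ne')] at this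
    exact_mod_cast this.symm
  have h1B : trivChar G ∈ B := Set.mem_toFinset.2 (trivChar_mem_principal hM)
  have hx1 : x (trivChar G) = 1 := by simp [x, trivChar_coe]
  have hf1 : f (trivChar G) = 1 := by
    have e : ((trivChar G : IrrCharacter G) : G → ℂ) 1 = 1 := by simp [trivChar_coe]
    have := e.symm.trans (apply_one_eq_dim (trivChar G))
    simp only [f]; exact_mod_cast this.symm
  have hT1 : T (trivChar G) = n ^ 2 := by
    simp only [T, a, d, htriv, hx1, hf1, Nat.cast_one]
    ring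
  rw [← Finset.add_sum_erase _ _ h1B, hT1, add_le_iff_nonpos_right] at hsumT
  have hzero : ∀ χ ∈ B.erase (trivChar G), T χ = 0 :=
    (Finset.sum_eq_zero_iff_of_nonneg fun χ _ => hT0 χ).1
      (le_antisymm hsumT (Finset.sum_nonneg fun χ _ => hT0 χ))
  have hpos : ∀ χ ∈ B.erase (trivChar G), 0 ≤ x χ * f χ := by
    intro χ hχ
    rcases eq_or_ne (x χ) 0 with e | e
    · simp [e]
    have hd : 0 < d χ := Nat.cast_pos.2 (h.fix_pos hM (Set.mem_toFinset.1 (Finset.mem_of_mem_erase hχ)) hN)
    obtain ⟨z1, z2⟩ := (add_eq_zero_iff_of_nonneg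
      (div_nonneg (mul_nonneg (ha χ) (sq_nonneg _)) (hf χ).le)
      (div_nonneg (mul_nonneg (mul_nonneg (sq_nonneg _) (sub_nonneg.2 (had χ))) (sq_nonneg _)) (hf χ).le)).1
      (hzero χ hχ)
    simp only [div_eq_zero_iff, (hf χ).ne', or_false, mul_eq_zero, pow_eq_zero_iff two_ne_zero, hn.ne', e,
      false_or, sub_eq_zero] at z1 z2
    rcases z1 with z | z
    · linarith
    · refine mul_nonneg ?_ (hf χ).le
      rw [← mul_le_mul_iff_right₀ hn, mul_zero, z]
      exact (hf χ).le
  rw [← Finset.add_sum_erase _ _ h1B, hx1, hf1] at e4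
  linarith [Finset.sum_nonneg hpos]

end Data

end Cfsg.Lib.StrongEmb.TwoNilp
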