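import Cfsg.Agent.Lib.StrongEmb.Transitive
import Cfsg.Agent.Lib.Core.Layer
import Cfsg.Agent.S0205

/-!
When the involutions of a strongly embedded subgroup `H` commute modulo an odd normal subgroup `X`,
they commute, and centralise `X`.
-/

set_option autoImplicit false
set_option linter.style.haveILetI false
set_option linter.unusedSectionVars false

namespace Cfsg.Lib.StrongEmb

open Subgroup Cfsg Cfsg.Lib.Invol MulAction

variable {G : Type*} [Group G] [Finite G] {H X : Subgroup G}

/-- `H` strongly embedded, its involutions commuting modulo the odd normal subgroup `X`, 2-rank at least two. -/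
structure ModData (H X : Subgroup G) : Prop where
  se : IsStronglyEmbedded H
  faith : ∀ g : G, (∀ x : G ⧸ H, g • x = x) → g = 1
  le : X ≤ H
  norm : H ≤ normalizer (X : Set G)
  odd : Odd (Nat.card X)
  comm : ∀ s t : G, s ∈ H → t ∈ H → orderOf s = 2 → orderOf t = 2 → s * t * (s * t) ∈ X
  four : ∃ s t : G, s ∈ H ∧ t ∈ H ∧ orderOf s = 2 ∧ orderOf t = 2 ∧ s ≠ t ∧ Commute s t

theorem normalizer_le_map_char (K : Subgroup G) (C : Subgroup K) [hC : C.Characteristic] :
    normalizer (K : Set G) ≤ normalizer ((C.map K.subtype : Subgroup G) : Set G) := by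
  intro g hg
  have hmap : K.map (MulAut.conj g).toMonoidHom = K := Coprime.map_conj_eq_self hg
  let φ : K ≃* K := ((MulAut.conj g).subgroupMap K).trans (MulEquiv.subgroupCongr hmap)
  have h := congrArg (Subgroup.map K.subtype) (characteristic_iff_map_eq.1 hC φ)
  rw [mem_normalizer_iff_map_conj_eq]
  show (C.map K.subtype).map (MulAut.conj g).toMonoidHom = C.map K.subtype
  conv_rhs => rw [← h]
  rw [Subgroup.map_map, Subgroup.map_map]
  rfl

/-- The involutions of a strongly embedded subgroup form one class of it. -/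
theorem kInv_eq_index (hse : IsStronglyEmbedded H) {u : G} (hu : u ∈ H) (hu2 : orderOf u = 2) :
    kInv H = ((centralizer ({u} : Set G)).subgroupOf H).index := by
  set C := (centralizer ({u} : Set G)).subgroupOf H
  have hC : ∀ a b : H, a⁻¹ * b ∈ C ↔ (a : G) * u * (a : G)⁻¹ = (b : G) * u * (b : G)⁻¹ := by
    intro a b
    rw [mem_subgroupOf, mem_centralizer_singleton_iff]
    simp only [Subgroup.coe_mul, InvMemClass.coe_inv]
    constructor <;> intro e
    · calc (a : G) * u * (a : G)⁻¹ = (a : G) * (u * ((a : G)⁻¹ * b)) * (b : G)⁻¹ := by group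
        _ = (a : G) * ((a : G)⁻¹ * b * u) * (b : G)⁻¹ := by rw [e]
        _ = b * u * (b : G)⁻¹ := by group
    · calc (a : G)⁻¹ * b * u = (a : G)⁻¹ * ((b : G) * u * (b : G)⁻¹) * b := by group
        _ = (a : G)⁻¹ * ((a : G) * u * (a : G)⁻¹) * b := by rw [e]
        _ = u * ((a : G)⁻¹ * b) := by group
  let f : H ⧸ C → {t : G // orderOf t = 2 ∧ t ∈ H} := Quotient.lift (fun a : H =>
      (⟨(a : G) * u * (a : G)⁻¹, by rw [Invol.orderOf_conj_eq, hu2],
        mul_mem (mul_mem a.2 hu) (inv_mem a.2)⟩ : {t : G // orderOf t = 2 ∧ t ∈ H}))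
    fun a b hab => Subtype.ext ((hC a b).1 (QuotientGroup.leftRel_apply.1 hab))
  refine (Nat.card_eq_of_bijective f ⟨?_, ?_⟩).symm
  · intro a b
    induction a using QuotientGroup.induction_on
    induction b using QuotientGroup.induction_on
    intro e
    rw [QuotientGroup.eq]
    exact (hC _ _).2 (congrArg Subtype.val e)
  · rintro ⟨t, ht2, ht⟩
    obtain ⟨v, hv, hv2⟩ := se_exists_outside hse
    obtain ⟨d, ⟨hd, -⟩, hdt⟩ := se_transitive hse hv2 hv hu2 hu ht2 ht
    exact ⟨QuotientGroup.mk ⟨d, hd⟩, Subtype.ext hdt⟩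

namespace ModData

variable (h : ModData H X)
include h

theorem exists_conj {u t : G} (hu : u ∈ H) (hu2 : orderOf u = 2) (ht : t ∈ H) (ht2 : orderOf t = 2) :
    ∃ d ∈ H, d * u * d⁻¹ = t := by
  obtain ⟨v, hv, hv2⟩ := se_exists_outside h.se
  obtain ⟨d, hd, hdt⟩ := se_transitive h.se hv2 hv hu2 hu ht2 ht
  exact ⟨d, hd.1, hdt⟩

theorem kInv_eq {u : G} (hu : u ∈ H) (hu2 : orderOf u = 2) :
    kInv H = ((centralizer ({u} : Set G)).subgroupOf H).index := kInv_eq_index h.se hu hu2

theorem ncard_invSet_core {u t : G} (hu : u ∈ H) (hu2 : orderOf u = 2) (ht : t ∈ H) (ht2 : orderOf t = 2) :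
    (invSet t X).ncard = (invSet u X).ncard := by
  obtain ⟨d, hd, rfl⟩ := h.exists_conj hu hu2 ht ht2
  have himg : invSet (d * u * d⁻¹) X = (fun j => d * j * d⁻¹) '' invSet u X := by
    ext j
    constructor
    · rintro ⟨hj, hi⟩
      refine ⟨d⁻¹ * j * d, ⟨by simpa using conj_mem_of_norm (h.norm (inv_mem hd)) hj, ?_⟩, by group⟩
      calc u * (d⁻¹ * j * d) * u⁻¹ = d⁻¹ * (d * u * d⁻¹ * j * (d * u * d⁻¹)⁻¹) * d := by group
        _ = (d⁻¹ * j * d)⁻¹ := by rw [hi]; group
    · rintro ⟨i, ⟨hi, hi'⟩, rfl⟩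
      refine ⟨conj_mem_of_norm (h.norm hd) hi, ?_⟩
      calc d * u * d⁻¹ * (d * i * d⁻¹) * (d * u * d⁻¹)⁻¹ = d * (u * i * u⁻¹) * d⁻¹ := by group
        _ = (d * i * d⁻¹)⁻¹ := by rw [hi']; group
  rw [himg]
  exact Set.ncard_image_of_injective _ fun a b e => (MulAut.conj d).injective e

/-- The inverted elements of `X` are a proper divisor's worth of the involutions. -/
theorem exists_factor {u : G} (hu : u ∈ H) (hu2 : orderOf u = 2) :
    ∃ m : ℕ, 1 < m ∧ kInv H = m * (invSet u X).ncard := by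
  set C := (centralizer ({u} : Set G)).subgroupOf H
  set X' := X.subgroupOf H
  haveI : X'.Normal := (normal_subgroupOf_iff_le_normalizer h.le).mpr h.norm
  have hrel : C.relIndex (C ⊔ X') = C.relIndex X' := by
    have h1 := relIndex_mul_relIndex (C ⊓ X') C (C ⊔ X') inf_le_left le_sup_left
    have h2 := relIndex_mul_relIndex (C ⊓ X') X' (C ⊔ X') inf_le_right le_sup_right
    rw [relIndex_sup_right, inf_relIndex_right] at h2
    rw [inf_relIndex_left, ← h2, mul_comm (C.relIndex X')] at h1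
    exact Nat.eq_of_mul_eq_mul_left (Nat.pos_of_ne_zero Subgroup.index_ne_zero_of_finite) h1
  refine ⟨(C ⊔ X').index, ?_, ?_⟩
  · refine lt_of_le_of_ne (Nat.pos_of_ne_zero index_ne_zero_of_finite) fun e => ?_
    rw [eq_comm, index_eq_one] at e
    obtain ⟨s, t, hs, ht, hs2, ht2, hne, hc⟩ := h.four
    have key : ∀ v ∈ H, orderOf v = 2 → u * v ∈ X := by
      intro v hv hv2
      obtain ⟨d, hd, rfl⟩ := h.exists_conj hu hu2 hv hv2
      obtain ⟨x, hx, c, hc, exc⟩ : ∃ x ∈ X', ∃ c ∈ C, x * c = (⟨d, hd⟩ : H) :=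
        mem_sup_of_normal_left.1 (by rw [sup_comm, e]; trivial)
      have hcu : (c : G) * u = u * c := mem_centralizer_singleton_iff.1 hc
      have exc' : (x : G) * c = d := congrArg Subtype.val exc
      have h1 : u * (d * u * d⁻¹) = (u * x * u⁻¹) * (x : G)⁻¹ := by
        rw [← exc', show (x : G) * c * u * ((x : G) * c)⁻¹ = (x : G) * ((c : G) * u) * (c : G)⁻¹ * (x : G)⁻¹ by group,
          hcu, inv_eq_self hu2]
        group
      rw [h1]
      exact mul_mem (conj_mem_of_norm (h.norm hu) hx) (inv_mem hx)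
    have h2 : s * t ∈ X := by
      have e' : s * t = (u * s)⁻¹ * (u * t) := by
        rw [mul_inv_rev, inv_eq_self hs2, inv_eq_self hu2, mul_assoc, ← mul_assoc u u t, inv_mul_self hu2,
          one_mul]
      rw [e']
      exact mul_mem (inv_mem (key s hs hs2)) (key t ht ht2)
    have h3 : orderOf (s * t) = 2 := orderOf_eq_two_of
      (fun e => hne (by rw [eq_inv_of_mul_eq_one_left e, inv_eq_self ht2]))
      (by rw [hc.symm.mul_mul_mul_comm, inv_mul_self hs2, inv_mul_self ht2, one_mul])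
    exact Nat.not_even_iff_odd.mpr h.odd (even_iff_two_dvd.mpr (h3 ▸ orderOf_dvd_natCard X h2))
  · rw [h.kInv_eq hu hu2, ← relIndex_mul_index (le_sup_left : C ≤ C ⊔ X'), hrel, mul_comm,
      relIndex_subgroupOf h.le, ncard_invSet hu2 (h.norm hu) h.odd]
    rfl

theorem invSet_le {w : G} (hw : w ∈ H) (hw2 : orderOf w = 2) {P : Subgroup G} (hP : P ≤ H)
    (hPodd : Odd (Nat.card P)) : invSet w P ⊆ invSet w (P ⊓ X) := by
  rintro j ⟨hj, hji⟩
  refine ⟨Subgroup.mem_inf.2 ⟨hj, ?_⟩, hji⟩
  have h1 : j * w * j⁻¹ * w = j * j := by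
    calc j * w * j⁻¹ * w = j * (w * j⁻¹ * w) := by group
      _ = j * j := by rw [show w * j⁻¹ * w = (w * j * w⁻¹)⁻¹ by rw [mul_inv_rev, mul_inv_rev, inv_inv, inv_eq_self hw2, mul_assoc], hji, inv_inv]
  have h4 : j * j * (j * j) ∈ X := h1 ▸ h.comm (j * w * j⁻¹) w
    (mul_mem (mul_mem (hP hj) hw) (inv_mem (hP hj))) hw (by rw [Invol.orderOf_conj_eq, hw2]) hw2
  obtain ⟨i, hi⟩ := hPodd.of_dvd_nat (Subgroup.orderOf_dvd_natCard P hj)
  -- four is invertible modulo the odd order
  have h5 := pow_mem h4 ((i + 1) * (i + 1))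
  rwa [← pow_two, ← pow_two, ← pow_mul, ← pow_mul,
    show 2 * (2 * ((i + 1) * (i + 1))) = orderOf j * (orderOf j + 2) + 1 by rw [hi]; ring,
    pow_succ, pow_mul, pow_orderOf_eq_one, one_pow, one_mul] at h5

/-- The bound on the inverted elements of a subgroup at the centre. -/
theorem ncard_le {p : ℕ} [Fact p.Prime] {w : G} (hw : w ∈ H) (hw2 : orderOf w = 2) {P : Subgroup G}
    (hP : P ≤ H) (hPodd : Odd (Nat.card P)) (hPp : IsPGroup p P) (hn : w ∈ normalizer (P : Set G)) :
    (invSet w P).ncard ≤ p ^ ((invSet w X).ncard).factorization p := by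
  obtain ⟨Q, hQ, hPQ, hQn⟩ := exists_invariant_isSyl hw2 (h.norm hw) h.odd (P ⊓ X)
    (hPp.to_le inf_le_left) inf_le_right (inf_normalizer_le_normalizer_inf ⟨hn, h.norm hw⟩)
  rw [← ncard_invSet_syl hw2 (h.norm hw) h.odd hQ hQn]
  exact Set.ncard_le_ncard ((h.invSet_le hw hw2 hP hPodd).trans (invSet_mono hPQ)) (Set.toFinite _)

theorem odd_kInv : Odd (kInv H) := by
  obtain ⟨y, hy⟩ := exists_ne h.se (QuotientGroup.mk 1)
  obtain ⟨w, hw, hwy⟩ := exists_swapper h.se hy
  rw [← ncard_invSet_two h.se hy hw hwy, ncard_invSet hw (swapper_norm hw hwy) (odd_two h.se hy)]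
  exact (odd_two h.se hy).of_dvd_nat (index_dvd_card _)

theorem exists_goodPrime : ∃ p : ℕ, p.Prime ∧ GoodPrime H p := by
  obtain ⟨u, hu, hu2⟩ := exists_involution_of_even h.se.2.1
  obtain ⟨m, hm, hk⟩ := h.exists_factor hu hu2
  obtain ⟨p, hp, hpm⟩ := Nat.exists_prime_and_dvd hm.ne'
  haveI := Fact.mk hp
  have hpodd : Odd p := h.odd_kInv.of_dvd_nat (hpm.trans (dvd_mul_right m _) |>.trans (dvd_of_eq hk.symm))
  refine ⟨p, hp, fun x w P hw2 hwx hPp hPx hn => ?_⟩
  obtain ⟨g, rfl⟩ := QuotientGroup.mk_surjective x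
  have hwg : g⁻¹ * w * g ∈ H := smul_coset_eq_iff.mp hwx
  set c := (MulAut.conj g⁻¹).toMonoidHom
  set P' := P.map c
  have hP' : P' ≤ H := by
    rintro _ ⟨y, hy, rfl⟩
    show g⁻¹ * y * g⁻¹⁻¹ ∈ H
    rw [inv_inv]; exact smul_coset_eq_iff.mp (hPx hy)
  have hw' : orderOf (c w) = 2 := by
    show orderOf (g⁻¹ * w * g⁻¹⁻¹) = 2
    rw [Invol.orderOf_conj_eq, hw2]
  have hwH : c w ∈ H := by show g⁻¹ * w * g⁻¹⁻¹ ∈ H; rwa [inv_inv]
  have hPodd : Odd (Nat.card P') := by
    obtain ⟨n, hn'⟩ := IsPGroup.iff_card.1 (hPp.map c)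
    rw [hn']; exact hpodd.pow
  have himg : invSet (c w) P' = c '' invSet w P := by
    ext j
    constructor
    · rintro ⟨⟨y, hy, rfl⟩, hi⟩
      refine ⟨y, ⟨hy, (MulAut.conj g⁻¹).injective ?_⟩, rfl⟩
      show c (w * y * w⁻¹) = c y⁻¹
      simp only [map_mul, map_inv]; exact hi
    · rintro ⟨y, ⟨hy, hi⟩, rfl⟩
      exact ⟨⟨y, hy, rfl⟩, by rw [← map_inv, ← map_mul, ← map_mul, hi, map_inv]⟩
  have h1 := h.ncard_le hwH hw' hP' hPodd (hPp.map c) (le_normalizer_map c ⟨w, hn, rfl⟩)
  rw [himg, Set.ncard_image_of_injective _ (show Function.Injective c from (MulAut.conj g⁻¹).injective),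
    h.ncard_invSet_core hu hu2 hwH hw'] at h1
  refine lt_of_le_of_lt h1 (Nat.pow_lt_pow_right hp.one_lt ?_)
  have hk0 : (invSet u X).ncard ≠ 0 := fun e => (kInv_pos h.se).ne' (by rw [hk, e, mul_zero])
  rw [hk, Nat.factorization_mul (by omega) hk0, Finsupp.add_apply]
  exact Nat.lt_add_of_pos_left (hp.factorization_pos_of_dvd (by omega) hpm)

end ModData

/-- `H` strongly embedded, the elements inverted by an involution in a p-subgroup of `H` no more than the
p-part of the number of involutions of `H`, some prime being good. -/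
structure BoundData (H X : Subgroup G) : Prop where
  se : IsStronglyEmbedded H
  faith : ∀ g : G, (∀ x : G ⧸ H, g • x = x) → g = 1
  le : X ≤ H
  norm : H ≤ normalizer (X : Set G)
  odd : Odd (Nat.card X)
  bound : ∀ p : ℕ, [Fact p.Prime] → Odd p → ∀ w : G, w ∈ H → orderOf w = 2 → ∀ P : Subgroup G, P ≤ H →
    IsPGroup p P → w ∈ normalizer (P : Set G) → (invSet w P).ncard ≤ kPart H p
  good : ∃ p : ℕ, p.Prime ∧ GoodPrime H p

namespace BoundData

variable (h : BoundData H X)
include h

theorem pretransitive {a b c d : G ⧸ H} (hab : a ≠ b) (hcd : c ≠ d) :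
    ∃ g : G, g • a = c ∧ g • b = d := by
  obtain ⟨p, hp, hgood⟩ := h.good
  haveI := Fact.mk hp
  exact pretransitive_of_good h.se (hgood.frameGood h.se) hab hcd

/-- An element of a normal subgroup of `H` fixing a second point fixes everything, if all conjugates do. -/
theorem trivial_of_fix {Y : Subgroup G} (hYH : Y ≤ H) (hYn : H ≤ normalizer (Y : Set G))
    {β : G ⧸ H} (hβ : β ≠ QuotientGroup.mk 1) (hfix : Y ≤ stabilizer G β) : Y = ⊥ := by
  refine eq_bot_iff.2 fun y hy => mem_bot.2 (h.faith y fun x => ?_)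
  rcases eq_or_ne x (QuotientGroup.mk 1) with rfl | hx
  · exact smul_coset_one_eq.mpr (hYH hy)
  obtain ⟨g, hg1, hgx⟩ := h.pretransitive (Ne.symm hβ) hx.symm
  have hgH : g ∈ H := smul_coset_one_eq.mp hg1
  rw [← hgx, ← mul_smul, show y * g = g * (g⁻¹ * y * g) by group, mul_smul,
    (hfix (by simpa [mul_assoc] using conj_mem_of_norm (hYn (inv_mem hgH)) hy) : (g⁻¹ * y * g) • β = β)]

/-- An involution of `H` centralises every normal `p`-subgroup of odd order of `H`. -/
theorem commute_pGroup {p : ℕ} [hp : Fact p.Prime] (hpodd : Odd p) {Y : Subgroup G} (hY : IsPGroup p Y)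
    (hYH : Y ≤ H) (hYn : H ≤ normalizer (Y : Set G)) {u : G} (hu : u ∈ H) (hu2 : orderOf u = 2)
    {y : G} (hy : y ∈ Y) : Commute y u := by
  set α : G ⧸ H := QuotientGroup.mk 1
  by_cases hex : ∃ β w P, Frame H p α β w P ∧ ∃ δ : G ⧸ H, w • δ = δ ∧ ¬ P ≤ stabilizer G δ
  · obtain ⟨β, w, P, F, δ, hδ, hmove⟩ := hex
    -- all two-point stabilizers are conjugate
    have hcard : ∀ c d : G ⧸ H, c ≠ d → Nat.card ↥(stabilizer G c ⊓ stabilizer G d) =
        Nat.card ↥(stabilizer G α ⊓ stabilizer G β) := by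
      intro c d hcd
      obtain ⟨g, rfl, rfl⟩ := h.pretransitive F.ne hcd
      rw [stabilizer_smul_eq_stabilizer_map_conj, stabilizer_smul_eq_stabilizer_map_conj,
        ← Subgroup.map_inf _ _ _ (show Function.Injective (MulAut.conj g).toMonoidHom from (MulAut.conj g).injective)]
      exact card_map_of_injective (MulAut.conj g).injective
    have h2 : ∀ c : G ⧸ H, P ≤ stabilizer G c → c = α ∨ c = β := fun c hc => by
      have := two_points h.se F.invol hδ (F.odd h.se) F.norm hmove (le_trans F.syl.1 inf_le_left)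
        (fun c d hc hd hcd => by
          obtain ⟨v, F'⟩ := exists_swapper_norm h.se hcd (P := P)
            ⟨le_inf hc hd, by rw [F.syl.2, hcard c d hcd]⟩
          exact ⟨v, F'.invol, F'.norm, F'.swap⟩) c hc
      rwa [F.swap] at this
    have hle : Y ≤ P := by
      have hPH : P ≤ H := fun x hx => smul_coset_one_eq.mp ((Subgroup.mem_inf.1 (F.syl.1 hx)).1)
      obtain ⟨R, hR, hYR⟩ := exists_isSyl (K := H) (Y ⊔ P)
        (IsPGroup.to_sup_of_normal_left' hY F.syl.isPGroup (hPH.trans hYn)) (sup_le hYH hPH)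
      have hPR : P ≤ R := le_sup_right.trans hYR
      rcases hPR.eq_or_lt with e | hlt
      · exact (le_sup_left.trans hYR).trans e.ge
      exfalso
      have h1 := Cfsg.Lib.FusionSys.lt_inf_normalizer_self hR.isPGroup hlt
      refine h1.ne (F.syl.eq_of_le (hR.isPGroup.to_le inf_le_left) ?_ h1.le).symm
      intro x hx
      obtain ⟨hxR, hxN⟩ := Subgroup.mem_inf.1 hx
      have hperm : ∀ z : G ⧸ H, P ≤ stabilizer G z → x • z = α ∨ x • z = β := fun z hz =>
        h2 _ fun s hs => by
          rw [mem_stabilizer_iff, ← mul_smul, show s * x = x * (x⁻¹ * s * x) by group, mul_smul,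
            (hz (by simpa [mul_assoc] using conj_mem_of_norm (inv_mem hxN) hs) : (x⁻¹ * s * x) • z = z)]
      obtain ⟨hfa, hfb⟩ := fix_of_perm hpodd hR.isPGroup hxR F.ne
        (hperm α (le_trans F.syl.1 inf_le_left)) (hperm β (le_trans F.syl.1 inf_le_right))
      exact Subgroup.mem_inf.2 ⟨hfa, hfb⟩
    have hbot := h.trivial_of_fix hYH hYn F.ne.symm (hle.trans (F.syl.1.trans inf_le_right))
    rw [hbot, mem_bot] at hy
    rw [hy]; exact Commute.one_left u
  push Not at hex
  -- every frame has its centre fixed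
  have hbad : ∀ (c d : G ⧸ H) (v : G) (P : Subgroup G), Frame H p c d v P → ∀ δ : G ⧸ H,
      v • δ = δ → P ≤ stabilizer G δ := by
    intro c d v P F δ hδ
    obtain ⟨β, hβ⟩ := exists_ne h.se α
    obtain ⟨g, hgc, hgd⟩ := h.pretransitive F.ne hβ.symm
    have F' : Frame H p α β (g * v * g⁻¹) (P.map (MulAut.conj g).toMonoidHom) := by
      refine ⟨hβ.symm, by rw [Invol.orderOf_conj_eq, F.invol], ?_, ⟨?_, ?_⟩,
        le_normalizer_map (MulAut.conj g).toMonoidHom ⟨v, F.norm, rfl⟩⟩
      · rw [mul_smul, mul_smul, inv_smul_eq_iff.2 hgc.symm, F.swap, hgd]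
      · rw [← hgc, ← hgd, stabilizer_smul_eq_stabilizer_map_conj, stabilizer_smul_eq_stabilizer_map_conj,
          ← Subgroup.map_inf _ _ _ (show Function.Injective (MulAut.conj g).toMonoidHom from (MulAut.conj g).injective)]
        exact Subgroup.map_mono F.syl.1
      · rw [Coprime.card_map_conj, F.syl.2, ← hgc, ← hgd, stabilizer_smul_eq_stabilizer_map_conj,
          stabilizer_smul_eq_stabilizer_map_conj, ← Subgroup.map_inf _ _ _ (show Function.Injective (MulAut.conj g).toMonoidHom from (MulAut.conj g).injective)]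
        exact congrArg (fun i => p ^ i.factorization p)
          (card_map_of_injective (f := (MulAut.conj g).toMonoidHom) (MulAut.conj g).injective).symm
    have h1 := hex β _ _ F' (g • δ) (by rw [mul_smul, mul_smul, inv_smul_smul, hδ])
    intro x hx
    have h2 : (g * x * g⁻¹) • g • δ = g • δ := h1 ⟨x, hx, rfl⟩
    rw [mul_smul, inv_smul_smul, mul_smul] at h2
    exact MulAction.injective g h2
  have huα : u • α = α := smul_coset_one_eq.mpr hu
  have hj : y * u * y⁻¹ * u⁻¹ ∈ invSet u Y := twist_mem hu2 (hYn hu) hy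
  -- an inverted element fixes every point
  have hone : y * u * y⁻¹ * u⁻¹ = 1 := by
    refine h.faith _ fun β => ?_
    rcases eq_or_ne β α with rfl | hβ
    · exact smul_coset_one_eq.mpr (hYH hj.1)
    have hne : β ≠ u • β := fun e => hβ (se_fixed_unique h.se hu2 e.symm huα)
    obtain ⟨P, hP, -, hPn⟩ := exists_invariant_isSyl (p := p) hu2 (swapper_norm hu2 rfl) (odd_two h.se hne) ⊥
      IsPGroup.of_bot bot_le (by rw [normalizer_eq_top]; trivial)
    have F : Frame H p β (u • β) u P := ⟨hne, hu2, rfl, hP, hPn⟩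
    have hPH : P ≤ H := fun x hx => smul_coset_one_eq.mp (hbad _ _ _ _ F α huα hx)
    have hR : IsPGroup p ↥(Y ⊔ P) := IsPGroup.to_sup_of_normal_left' hY hP.isPGroup (hPH.trans hYn)
    have hRn : u ∈ normalizer ((Y ⊔ P : Subgroup G) : Set G) := by
      rw [mem_normalizer_iff_map_conj_eq]
      show (Y ⊔ P).map (MulAut.conj u).toMonoidHom = Y ⊔ P
      rw [Subgroup.map_sup, Coprime.map_conj_eq_self (hYn hu), Coprime.map_conj_eq_self hPn]
    have h1 := h.bound p hpodd u hu hu2 _ (sup_le hYH hPH) hR hRn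
    have heq := Set.eq_of_subset_of_ncard_le (invSet_mono (w := u) (le_sup_right : P ≤ Y ⊔ P))
      (h1.trans (F.ncard h.se).ge) (Set.toFinite _)
    have h3 : y * u * y⁻¹ * u⁻¹ ∈ P := (heq ▸ invSet_mono le_sup_left hj : _ ∈ invSet u P).1
    exact (Subgroup.mem_inf.1 (hP.1 h3)).1
  show y * u = u * y
  rw [← one_mul (u * y), ← hone]; group

/-- The involutions of `H` centralise `X`. -/
theorem commute_core {u x : G} (hu : u ∈ H) (hu2 : orderOf u = 2) (hx : x ∈ X) : Commute x u := by
  haveI : Group.IsSolvable X := Cfsg.Agent.S0205.result h.odd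
  set F := fittingSubgroup X
  -- the Fitting subgroup is centralised
  have hF : ∀ f ∈ F, Commute (f : G) u := by
    intro f hf
    have : F ≤ (centralizer ({u} : Set G)).subgroupOf X := by
      rw [show F = _ from Cfsg.Lib.Core.fittingSubgroup_eq_iSup_pCore]
      refine iSup_le fun q f hf => ?_
      haveI : Fact (q : ℕ).Prime := ⟨q.2⟩
      by_cases hqX : (q : ℕ) ∣ Nat.card X
      · refine mem_centralizer_singleton_iff.2 (h.commute_pGroup (h.odd.of_dvd_nat hqX)
          ((Cfsg.Lib.Core.pCore_isPGroup (q : ℕ) X).map X.subtype) ((map_subtype_le _).trans h.le)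
          (h.norm.trans (normalizer_le_map_char X _)) hu hu2 ⟨f, hf, rfl⟩).eq
      · have : pCore (q : ℕ) X = ⊥ := by
          obtain ⟨n, hn⟩ := IsPGroup.iff_card.1 (Cfsg.Lib.Core.pCore_isPGroup (q : ℕ) X)
          rcases n with _ | n
          · exact eq_bot_of_card_eq _ (hn.trans (pow_zero _))
          · exact absurd ((dvd_pow_self _ n.succ_ne_zero).trans (hn ▸ card_subgroup_dvd_card _)) hqX
        rw [this, mem_bot] at hf
        rw [hf]; exact one_mem _
    exact mem_centralizer_singleton_iff.1 (this hf)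
  -- the inverted elements centralise it
  have hj := twist_mem hu2 (h.norm hu) hx
  set j := x * u * x⁻¹ * u⁻¹ with hjdef
  have hjC : (⟨j, hj.1⟩ : X) ∈ centralizer (F : Set X) := by
    refine mem_centralizer_iff.2 fun f hf => Subtype.ext ?_
    show (f : G) * j = j * f
    have hf1 : Commute (f : G) u := hF f hf
    have hxf : Commute (x⁻¹ * f * x) u := by
      have h1 : (⟨x, hx⟩ : X)⁻¹ * f * (⟨x, hx⟩ : X) ∈ F := by
        simpa [mul_assoc] using (inferInstance : F.Normal).conj_mem f hf (⟨x, hx⟩ : X)⁻¹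
      exact hF _ h1
    have e1 : Commute (f : G) (x * u * x⁻¹) := by
      have := hxf.map (MulAut.conj x).toMonoidHom
      simpa [mul_assoc] using this
    exact (e1.mul_right hf1.inv_right).eq
  have h1 := hF _ (Cfsg.Lib.Core.centralizer_fitting_le_of_isSolvable (G := X) hjC)
  have h2 : j * j = 1 := by
    have h3 := hj.2
    rw [← h1.eq, mul_inv_cancel_right] at h3
    exact mul_eq_one_iff_eq_inv.2 h3
  obtain ⟨i, hi⟩ := h.odd.of_dvd_nat (Subgroup.orderOf_dvd_natCard X hj.1)
  have h3 : j = 1 := by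
    have h4 : j ^ (orderOf j + 1) = j := by rw [pow_succ, pow_orderOf_eq_one, one_mul]
    rw [hi, show 2 * i + 1 + 1 = 2 * (i + 1) by ring, pow_mul, pow_two, h2, one_pow] at h4
    exact h4.symm
  show x * u = u * x
  rw [← one_mul (u * x), ← h3, hjdef]; group

end BoundData

namespace ModData

variable (h : ModData H X)
include h

theorem toBound : BoundData H X where
  se := h.se
  faith := h.faith
  le := h.le
  norm := h.norm
  odd := h.odd
  bound := fun p hp hpodd w hw hw2 P hP hPp hn => by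
    have hPodd : Odd (Nat.card P) := by
      obtain ⟨n, hn'⟩ := IsPGroup.iff_card.1 hPp
      rw [hn']; exact hpodd.pow
    refine (h.ncard_le hw hw2 hP hPodd hPp hn).trans (Nat.pow_le_pow_right hp.out.pos ?_)
    obtain ⟨m, hm, hk⟩ := h.exists_factor hw hw2
    have hk0 : (invSet w X).ncard ≠ 0 := fun e => (kInv_pos h.se).ne' (by rw [hk, e, mul_zero])
    rw [hk, Nat.factorization_mul (by omega) hk0, Finsupp.add_apply]
    exact Nat.le_add_left _ _
  good := h.exists_goodPrime

theorem pretransitive {a b c d : G ⧸ H} (hab : a ≠ b) (hcd : c ≠ d) :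
    ∃ g : G, g • a = c ∧ g • b = d := h.toBound.pretransitive hab hcd

/-- An element of a normal subgroup of `H` fixing a second point fixes everything, if all conjugates do. -/
theorem trivial_of_fix {Y : Subgroup G} (hYH : Y ≤ H) (hYn : H ≤ normalizer (Y : Set G))
    {β : G ⧸ H} (hβ : β ≠ QuotientGroup.mk 1) (hfix : Y ≤ stabilizer G β) : Y = ⊥ :=
  h.toBound.trivial_of_fix hYH hYn hβ hfix

/-- An involution of `H` centralises every normal `p`-subgroup of odd order of `H`. -/
theorem commute_pGroup {p : ℕ} [hp : Fact p.Prime] (hpodd : Odd p) {Y : Subgroup G} (hY : IsPGroup p Y)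
    (hYH : Y ≤ H) (hYn : H ≤ normalizer (Y : Set G)) {u : G} (hu : u ∈ H) (hu2 : orderOf u = 2)
    {y : G} (hy : y ∈ Y) : Commute y u := h.toBound.commute_pGroup hpodd hY hYH hYn hu hu2 hy

/-- The involutions of `H` centralise `X`. -/
theorem commute_core {u x : G} (hu : u ∈ H) (hu2 : orderOf u = 2) (hx : x ∈ X) : Commute x u :=
  h.toBound.commute_core hu hu2 hx

/-- The involutions of `H` commute. -/
theorem commute_invol {s t : G} (hs : s ∈ H) (ht : t ∈ H) (hs2 : orderOf s = 2) (ht2 : orderOf t = 2) :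
    Commute s t := by
  have hd := h.comm s t hs ht hs2 ht2
  set d := s * t * (s * t)
  have h1 : s * d * s⁻¹ = d⁻¹ := by
    simp only [d, mul_inv_rev, inv_eq_self hs2, inv_eq_self ht2]
    calc s * (s * t * (s * t)) * s = (s * s) * t * (s * t) * s := by group
      _ = t * s * (t * s) := by rw [inv_mul_self hs2]; group
  rw [← (h.commute_core hs hs2 hd).eq, mul_inv_cancel_right] at h1
  obtain ⟨i, hi⟩ := h.odd.of_dvd_nat (Subgroup.orderOf_dvd_natCard X hd)
  have h3 : d = 1 := by
    have h4 : d ^ (orderOf d + 1) = d := by rw [pow_succ, pow_orderOf_eq_one, one_mul]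
    rw [hi, show 2 * i + 1 + 1 = 2 * (i + 1) by ring, pow_mul, pow_two, mul_eq_one_iff_eq_inv.2 h1,
      one_pow] at h4
    exact h4.symm
  show s * t = t * s
  rw [eq_comm, ← inv_inj, mul_inv_rev, inv_eq_self hs2, inv_eq_self ht2]
  exact (inv_eq_of_mul_eq_one_right h3).symm

end ModData

end Cfsg.Lib.StrongEmb
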