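import Cfsg.Agent.Lib.StrongEmb.Cover
import Cfsg.Agent.Lib.PiHom.U34.ThreeFinal
import Cfsg.Agent.Lib.ZStar.Main
import Cfsg.Agent.Lib.Invol.Isolated
import Cfsg.Agent.S1213
import Mathlib.GroupTheory.SpecificGroups.KleinFour

/-!
# Two-rank two with 2-nilpotent involution centralisers

The Sylow 2-subgroups are neither quasi-dihedral nor wreathed; of the type of `PSU₃(4)` they are only when
all signalizers are trivial.
-/

set_option autoImplicit false
set_option linter.style.haveILetI false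
set_option linter.unusedSectionVars false

namespace Cfsg.Lib.StrongEmb.RankTwo

open Subgroup Cfsg Cfsg.Lib
open Cfsg.Lib.StrongEmb.Cover

universe u

variable {G : Type u} [Group G] [Finite G] [IsSimpleGroup G]

theorem index_ne_two_of_simple (hna : ¬ IsMulCommutative G) (H : Subgroup G) : H.index ≠ 2 := by
  intro hH
  haveI := Subgroup.normal_of_index_eq_two hH
  rcases (inferInstance : H.Normal).eq_bot_or_eq_top with h | h
  · rw [h, Subgroup.index_bot] at hH
    haveI : IsCyclic G := isCyclic_of_prime_card hH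
    exact hna inferInstance
  · rw [h, Subgroup.index_top] at hH
    omega

theorem no_isolated (hna : ¬ IsMulCommutative G) (z : G) : ¬ Cfsg.IsIsolatedInvolution z := by
  intro hz
  have hcore : Cfsg.oddCore G = ⊥ := by
    refine (inferInstance : (Cfsg.oddCore G).Normal).eq_bot_or_eq_top.resolve_right fun htop => ?_
    have h := Cfsg.Lib.ZStar.odd_card_oddCore (G := G)
    rw [htop, Subgroup.card_top] at h
    exact Nat.not_even_iff_odd.2 h (Cover.even_card hna)
  have hc : z ∈ Subgroup.center G := Subgroup.mem_center_iff.2 fun g =>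
    (Cfsg.Lib.ZStar.commute_of_oddCore_bot hcore (Cfsg.Lib.ZStar.zStarHolds G z hz g)).symm
  rcases (inferInstance : (Subgroup.center G).Normal).eq_bot_or_eq_top with h | h
  · rw [h, Subgroup.mem_bot] at hc
    have h1 := hz.1
    rw [hc, orderOf_one] at h1
    omega
  · exact hna ⟨⟨fun a b => Subgroup.mem_center_iff.1 (h ▸ Subgroup.mem_top b) a⟩⟩

/-- The centraliser of an involution has no quaternion-based part without subgroup of index two. -/
theorem not_quasiDihedral_or_wreathed (hna : ¬ IsMulCommutative G) (hI : AllNilp G) (S : Sylow 2 G)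
    {t : G} (ht : orderOf t = 2) :
    ¬ (Cfsg.IsQuasiDihedral (S : Subgroup G) ∨ Cfsg.IsWreathed (S : Subgroup G)) := by
  intro hS
  haveI : Fact (Nat.Prime 2) := ⟨Nat.prime_two⟩
  obtain ⟨-, -, ⟨K, -, -, hK2, hKP⟩, -⟩ := Cfsg.Agent.S1213.result S hS (index_ne_two_of_simple hna) t ht
  obtain ⟨P, N, hN, hc⟩ := hI t ht
  obtain ⟨e, he⟩ := IsPGroup.iff_card.1 P.2
  have hidx : N.index = 2 ^ e := hc.symm.index_eq_card.trans he
  have hNodd : ¬ 2 ∣ Nat.card N := by
    rw [← hc.index_eq_card]; exact P.not_dvd_index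
  have heven : 2 ∣ Nat.card K := by
    obtain ⟨R⟩ : Nonempty (Sylow 2 K) := inferInstance
    obtain ⟨m, -, ⟨f⟩⟩ := hKP R
    haveI : NeZero (2 ^ m) := ⟨by positivity⟩
    refine Dvd.dvd.trans ?_ (Subgroup.card_subgroup_dvd_card (R : Subgroup K))
    rw [Nat.card_congr f.toEquiv, Nat.card_eq_fintype_card, QuaternionGroup.card]
    exact Dvd.dvd.mul_right (by norm_num) _
  haveI := hN
  set f : K →* _ ⧸ N := (QuotientGroup.mk' N).comp K.subtype
  obtain ⟨x, hx⟩ := exists_prime_orderOf_dvd_card' 2 heven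
  have hx1 : f x ≠ 1 := fun h => hNodd (by
    have hxN : (x : ↥(centralizer ({t} : Set G))) ∈ N := (QuotientGroup.eq_one_iff _).1 h
    have := Subgroup.orderOf_dvd_natCard N hxN
    rwa [Subgroup.orderOf_coe, hx] at this)
  obtain ⟨k, -, hk⟩ := (Nat.dvd_prime_pow Nat.prime_two).1
    (hidx ▸ Subgroup.card_subgroup_dvd_card f.range : Nat.card f.range ∣ 2 ^ e)
  rcases k with _ | k
  · refine hx1 ?_
    have h1 : f.range = ⊥ := Subgroup.card_eq_one.1 (hk.trans (pow_zero 2))
    exact Subgroup.mem_bot.1 (h1 ▸ ⟨x, rfl⟩)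
  obtain ⟨H, hH⟩ := Sylow.exists_subgroup_card_pow_prime (G := f.range) 2 (n := k)
    (hk ▸ pow_dvd_pow 2 (Nat.le_succ k))
  refine hK2 (H.comap f.rangeRestrict) ?_
  rw [Subgroup.index_comap_of_surjective H f.rangeRestrict_surjective]
  have := H.card_mul_index
  rw [hH, hk, pow_succ] at this
  exact Nat.eq_of_mul_eq_mul_left (by positivity) this

/-- The involutions of a Sylow 2-subgroup of the type of `PSU₃(4)`. -/
theorem exists_three (hna : ¬ IsMulCommutative G) (S : Sylow 2 G) {F : Type} [Field F] [Fintype F]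
    (hF : Fintype.card F = 16) (P : Sylow 2 (Cfsg.PSU 3 F 4))
    (e : (S : Subgroup G) ≃* (P : Subgroup (Cfsg.PSU 3 F 4))) :
    ∃ E : Subgroup G, PiHom.Three ({2} : Set ℕ) S E := by
  classical
  haveI : Fact (Nat.Prime 2) := ⟨Nat.prime_two⟩
  obtain ⟨-, hK, hZ, -⟩ := Cfsg.Agent.S1248.result hF P
  set E := (Subgroup.center (S : Subgroup G)).map (S : Subgroup G).subtype
  have hcen : ∀ z : (S : Subgroup G), z ∈ Subgroup.center (S : Subgroup G) ↔
      e z ∈ Subgroup.center (P : Subgroup (Cfsg.PSU 3 F 4)) := fun z => by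
    simp only [Subgroup.mem_center_iff]
    refine ⟨fun h w => ?_, fun h w => e.injective ?_⟩
    · obtain ⟨w, rfl⟩ := e.surjective w
      rw [← map_mul, ← map_mul, h w]
    · rw [map_mul, map_mul, h (e w)]
  have hinv : ∀ x ∈ (S : Subgroup G), x * x = 1 → x ∈ E := by
    intro x hx h1
    refine ⟨⟨x, hx⟩, (hcen _).2 ?_, rfl⟩
    by_cases hx1 : e ⟨x, hx⟩ = 1
    · rw [hx1]; exact one_mem _
    rw [hZ]
    refine Subgroup.subset_closure (orderOf_eq_prime ?_ hx1)
    rw [pow_two, ← map_mul, show (⟨x, hx⟩ : (S : Subgroup G)) * ⟨x, hx⟩ = 1 from Subtype.ext h1, map_one]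
  have hcard : Nat.card E = 4 := by
    rw [Subgroup.card_map_of_injective (Subgroup.subtype_injective _),
      Nat.card_congr (Subgroup.centerCongr e).toEquiv]
    exact hK.card_four
  have hsq : ∀ x ∈ E, x * x = 1 := by
    rintro _ ⟨z, hz, rfl⟩
    haveI := hK
    have h1 := IsKleinFour.mul_self (⟨e z, (hcen z).1 hz⟩ : Subgroup.center (P : Subgroup (Cfsg.PSU 3 F 4)))
    have h2 : e (z * z) = e 1 := by rw [map_mul, map_one]; exact congrArg Subtype.val h1
    exact congrArg Subtype.val (e.injective h2)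
  have hle : E ≤ (S : Subgroup G) := Subgroup.map_subtype_le _
  have hcentral : ∀ x ∈ E, ∀ y ∈ (S : Subgroup G), Commute x y := by
    rintro _ ⟨z, hz, rfl⟩ y hy
    exact (congrArg Subtype.val (Subgroup.mem_center_iff.1 hz ⟨y, hy⟩)).symm
  -- every involution of `E` has another conjugate in `E`
  have hmove : ∀ a ∈ E, a ≠ 1 → ∃ c ∈ E, c ≠ 1 ∧ c ≠ a ∧ IsConj a c := by
    intro a ha ha1
    by_contra hcon
    push Not at hcon
    have ha2 : orderOf a = 2 := orderOf_eq_prime (by rw [pow_two]; exact hsq a ha) ha1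
    refine no_isolated hna a (Cfsg.Lib.Invol.isolated_of_sylow S ha2 fun g hg => ?_)
    by_contra hne
    refine hcon (g * a * g⁻¹) (hinv _ hg ?_) (fun h => ha1 (conj_eq_one_iff.1 h)) hne
      (isConj_iff.2 ⟨g, rfl⟩)
    rw [show g * a * g⁻¹ * (g * a * g⁻¹) = g * (a * a) * g⁻¹ by group, hsq a ha]
    group
  have hconj : ∀ a ∈ E, ∀ b ∈ E, a ≠ 1 → b ≠ 1 → IsConj a b := by
    intro a ha b hb ha1 hb1
    by_contra hab
    have hne : a ≠ b := fun h => hab (h ▸ IsConj.refl a)
    have h1b : a * b ≠ 1 := fun h => hne (by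
      rw [eq_inv_of_mul_eq_one_left h]; exact inv_eq_of_mul_eq_one_left (hsq b hb))
    have hall : ∀ z ∈ E, z = 1 ∨ z = a ∨ z = b ∨ z = a * b := by
      intro z hz
      by_contra hcon
      push Not at hcon
      have h5 : ({1, a, b, a * b, z} : Finset G).card = 5 := by
        rw [Finset.card_insert_of_notMem, Finset.card_insert_of_notMem, Finset.card_insert_of_notMem,
          Finset.card_insert_of_notMem, Finset.card_singleton]
        · simp [Ne.symm hcon.2.2.2]
        · simp [Ne.symm hcon.2.2.1, ha1]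
        · simp [hne, Ne.symm hcon.2.1, hb1]
        · simp [Ne.symm ha1, Ne.symm hb1, Ne.symm h1b, Ne.symm hcon.1]
      have hle : ({1, a, b, a * b, z} : Set G) ⊆ (E : Set G) := by
        rintro w (rfl | rfl | rfl | rfl | rfl)
        exacts [one_mem _, ha, hb, mul_mem ha hb, hz]
      have h := Set.ncard_le_ncard hle (Set.toFinite _)
      rw [show ({1, a, b, a * b, z} : Set G) = (({1, a, b, a * b, z} : Finset G) : Set G) by simp,
        Set.ncard_coe_finset, h5, ← Nat.card_coe_set_eq, show Nat.card (E : Set G) = 4 from hcard] at h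
      omega
    have key : ∀ x ∈ E, x ≠ 1 → x ≠ a * b → (x = a ∨ x = b) → IsConj x (a * b) := by
      intro x hx hx1 hxab hcase
      obtain ⟨c, hc, hc1, hcx, hxc⟩ := hmove x hx hx1
      rcases hall c hc with rfl | rfl | rfl | rfl
      · exact absurd rfl hc1
      · rcases hcase with rfl | rfl
        · exact absurd rfl hcx
        · exact absurd hxc.symm hab
      · rcases hcase with rfl | rfl
        · exact absurd hxc hab
        · exact absurd rfl hcx
      · exact hxc
    exact hab ((key a ha ha1 (fun h => hb1 (left_eq_mul.1 h)) (Or.inl rfl)).trans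
      (key b hb hb1 (fun h => ha1 (right_eq_mul.1 h)) (Or.inr rfl)).symm)
  refine ⟨E, hle, hcard, hsq, hinv, hcentral, fun a ha b hb ha1 hb1 => ?_⟩
  obtain ⟨g, hg⟩ := isConj_iff.1 (hconj a ha b hb ha1 hb1)
  have hC : ∀ x ∈ E, x ∈ Subgroup.centralizer ((S : Subgroup G) : Set G) := fun x hx =>
    Subgroup.mem_centralizer_iff.2 fun y hy => (hcentral x hx y hy).symm.eq
  obtain ⟨n, hn, hne⟩ := S.conj_eq_normalizer_conj_of_mem_centralizer a g⁻¹ (hC a ha)
    (by rw [inv_inv, hg]; exact hC b hb)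
  rw [inv_inv, hg] at hne
  exact ⟨n⁻¹, inv_mem hn, by rw [inv_inv]; exact hne.symm⟩

/-- A Sylow 2-subgroup of the type of `PSU₃(4)` forces trivial signalizers. -/
theorem th_eq_bot_of_u34 (hna : ¬ IsMulCommutative G) (hI : AllNilp G) (S : Sylow 2 G) {F : Type}
    [Field F] [Fintype F] (hF : Fintype.card F = 16) (P : Sylow 2 (Cfsg.PSU 3 F 4))
    (e : (S : Subgroup G) ≃* (P : Subgroup (Cfsg.PSU 3 F 4))) {t : G} (htS : t ∈ (S : Subgroup G))
    (ht : orderOf t = 2) : th t = ⊥ := by
  haveI : Fact (Nat.Prime 2) := ⟨Nat.prime_two⟩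
  haveI := Fintype.ofFinite G
  obtain ⟨E, hE⟩ := exists_three hna S hF P e
  have hs := PiHom.U34.shape_of_iso hE hF P e
  have htE : t ∈ E := hs.invol t htS (Invol.inv_mul_self ht)
  obtain ⟨-, hodd, -, hcov⟩ := th_facts hI ht
  have hmem : ∀ {x : G}, x ∈ PiHom.U34.Ct t ↔ Commute x t := PiHom.U34.mem_Ct
  have hcopi : ∀ x : G, PiHom.CoPi ({2} : Set ℕ) x ↔ Odd (orderOf x) := fun x => by
    rw [← Nat.not_even_iff_odd, even_iff_two_dvd]
    refine ⟨fun h => PiHom.coPi_odd (Set.mem_singleton 2) h, fun h p _ hpd hp2 => h ?_⟩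
    rwa [Set.mem_singleton_iff.1 hp2] at hpd
  have hcore : PiHom.core ({2} : Set ℕ) (PiHom.U34.Ct t) = th t := by
    refine le_antisymm ((Subgroup.closure_le _).2 fun x hx =>
      (mem_th hI ht).2 ⟨hmem.1 hx.1, (hcopi x).1 hx.2⟩) fun x hx => ?_
    obtain ⟨h1, h2⟩ := (mem_th hI ht).1 hx
    exact PiHom.mem_core_of (hmem.2 h1) ((hcopi x).2 h2)
  have hle : (S : Subgroup G) ≤ PiHom.U34.Ct t := fun x hx => hmem.2 (hs.central t htE x hx).symm
  have hnorm : (S : Subgroup G) ≤ Subgroup.normalizer (th t : Set G) := fun x hx =>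
    mem_normalizer_fintype fun c hc => by
      have h1 := (th_conj hI (g := x) ht).2 hc
      rwa [(hmem.1 (hle hx)).eq, mul_inv_cancel_right] at h1
  have hsplit : ∀ x ∈ PiHom.U34.Ct t, ∃ k ∈ PiHom.core ({2} : Set ℕ) (PiHom.U34.Ct t), ∃ n ∈ PiHom.U34.Ct t,
      n ∈ Subgroup.normalizer ((S : Subgroup G) : Set G) ∧ x = k * n := by
    intro x hx
    have h1 := hcov (S.subtype hle) hx
    rw [Sylow.coe_subtype, Subgroup.map_subgroupOf_eq_of_le hle, ← SetLike.mem_coe,
      Subgroup.coe_mul_of_right_le_normalizer_left _ _ hnorm] at h1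
    obtain ⟨k, hk, s, hs, rfl⟩ := h1
    exact ⟨k, hcore ▸ hk, s, hle hs, Subgroup.le_normalizer hs, rfl⟩
  have c : PiHom.U34.Ctx (PiHom.core ({2} : Set ℕ) (PiHom.U34.Ct t)) S E t :=
    ⟨inferInstance, hna, hs, htE, Invol.ne_one ht, hsplit, hcore ▸ hodd,
      fun _ r _ _ hro hr _ => PiHom.mem_core_of hr ((hcopi r).2 hro),
      PiHom.core_le _, PiHom.le_normalizer_core _⟩
  by_contra hne
  refine c.false_three (by rwa [hcore]) fun x hx hxn hxt y hy => ?_
  exact c.lsub_centralizes (le_sup_left (b := PiHom.U34.dsub S) (PiHom.mem_core_of hxt ((hcopi x).2 hx))) hxn hy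

end Cfsg.Lib.StrongEmb.RankTwo
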