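import Cfsg.Agent.Lib.StrongEmb.Core
import Cfsg.Agent.Lib.CompositeOrder.LThreeFourTop

/-!
A strongly embedded subgroup is not an extension of an odd group by `PSL₃(4)` when the centralisers of
its involutions are 2-groups modulo that kernel.
-/

set_option autoImplicit false
set_option linter.style.haveILetI false
set_option linter.unusedSectionVars false

namespace Cfsg.Lib.StrongEmb.LThreeFour

open Subgroup Cfsg Cfsg.Lib.Invol MulAction
open Cfsg.Lib

universe u

section Target

variable {Q : Type u} [Group Q] [Finite Q] (hc : Nat.card Q = 20160) (hE : CIT.IsEppo Q)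
include hc hE

omit hc in
theorem orderOf_ne {g h : Q} (hcom : Commute g h) {p q : ℕ} (hp : p.Prime) (hq : q.Prime) (hpq : p ≠ q)
    (hg : orderOf g = p) (hh : orderOf h = q) : False := by
  have ho : orderOf (g * h) = p * q := by
    rw [hcom.orderOf_mul_eq_mul_orderOf_of_coprime (by rw [hg, hh]; exact (Nat.coprime_primes hp hq).2 hpq), hg, hh]
  have hne : g * h ≠ 1 := fun e => by
    rw [e, orderOf_one] at ho
    have := hp.two_le; have := hq.two_le; nlinarith
  obtain ⟨r, k, hr, hk, e⟩ := (isPrimePow_nat_iff _).1 (hE _ hne)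
  rw [ho] at e
  exact hpq (((Nat.prime_dvd_prime_iff_eq hp hr).1 (hp.dvd_of_dvd_pow (e ▸ Dvd.intro q rfl))).trans
    ((Nat.prime_dvd_prime_iff_eq hq hr).1 (hq.dvd_of_dvd_pow (e ▸ Dvd.intro_left p rfl))).symm)

/-- No involution inverts an element of order seven. -/
theorem not_inverted_seven {g s : Q} (hg : orderOf g = 7) (hs : orderOf s = 2)
    (h : s * g * s⁻¹ = g⁻¹) : False := by
  haveI h7 : Fact (Nat.Prime 7) := ⟨by norm_num⟩
  have hfac : (Nat.card Q).factorization 7 = 1 := by
    rw [hc, Nat.factorization_def _ h7.out, show (20160 : ℕ) = 7 * 2880 by norm_num, padicValNat.mul (by norm_num) (by norm_num),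
      padicValNat.self (by norm_num), padicValNat.eq_zero_of_not_dvd (by norm_num)]
  let P : Sylow 7 Q := Sylow.ofCard (zpowers g) (by rw [Nat.card_zpowers, hg, hfac, pow_one])
  have hP : (P : Subgroup Q) = zpowers g := rfl
  set N := normalizer ((P : Subgroup Q) : Set Q) with hN
  have hsN : s ∈ N := by
    refine mem_normalizer_fintype fun x hx => ?_
    obtain ⟨k, rfl⟩ := hx
    exact ⟨-k, by simp only; rw [← conj_zpow, h, inv_zpow, zpow_neg]⟩
  set φ := (P : Subgroup Q).normalizerMonoidHom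
  have hker : Nat.card φ.ker ∣ 7 := by
    have hpg : IsPGroup 7 φ.ker := by
      refine IsPGroup.iff_card.2 ⟨(Nat.card φ.ker).primeFactorsList.length, Nat.eq_prime_pow_of_unique_prime_dvd Nat.card_pos.ne' fun {r} hr hd => ?_⟩
      haveI := Fact.mk hr
      obtain ⟨x, hx⟩ := exists_prime_orderOf_dvd_card' r hd
      by_contra hne
      have hxc : Commute ((x : N) : Q) g := by
        have h1 : ((x : N) : Q) * g * ((x : N) : Q)⁻¹ = g :=
          congrArg Subtype.val (DFunLike.congr_fun (MonoidHom.mem_ker.1 x.2) (⟨g, mem_zpowers g⟩ : (P : Subgroup Q)))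
        exact mul_inv_eq_iff_eq_mul.1 h1
      exact orderOf_ne hE hxc hr (by norm_num) hne (by rw [orderOf_coe, orderOf_coe, hx]) hg
    obtain ⟨j, hj⟩ := IsPGroup.iff_card.1 hpg
    have hd : Nat.card φ.ker ∣ Nat.card Q := (card_subgroup_dvd_card _).trans (card_subgroup_dvd_card _)
    have := (Nat.Prime.pow_dvd_iff_le_factorization h7.out Nat.card_pos.ne').1 (hj ▸ hd)
    rw [hfac] at this
    rw [hj]
    calc 7 ^ j ∣ 7 ^ 1 := pow_dvd_pow 7 this
      _ = 7 := pow_one 7
  have hNdvd : Nat.card N ∣ 42 := by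
    rw [← φ.ker.card_mul_index, Subgroup.index_ker]
    have h6 : Nat.card φ.range ∣ 6 := by
      refine (card_subgroup_dvd_card _).trans ?_
      rw [(CompOrd.mulAut_prime (Q := (P : Subgroup Q)) (p := 7) (by rw [hP, Nat.card_zpowers, hg])).1]
    exact Nat.mul_dvd_mul hker h6
  have h2 : 2 ∣ Nat.card N := hs ▸ Subgroup.orderOf_dvd_natCard N hsN
  have h7d : 7 ∣ Nat.card N := hg ▸ Subgroup.orderOf_dvd_natCard N (le_normalizer (hP ▸ mem_zpowers g))
  have hidx := N.card_mul_index
  have hmod : Nat.card (Sylow 7 Q) ≡ 1 [MOD 7] := card_sylow_modEq_one 7 Q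
  rw [P.card_eq_index_normalizer] at hmod
  rw [hc] at hidx
  have hle := Nat.le_of_dvd (by norm_num) hNdvd
  generalize hn : Nat.card N = n at *
  change n * N.index = 20160 at hidx
  generalize N.index = i at *
  rw [Nat.ModEq] at hmod
  interval_cases n <;> omega

/-- There is no subgroup of order 315. -/
theorem not_card_315 (D : Subgroup Q) : Nat.card D ≠ 315 := by
  intro hD
  haveI h5 : Fact (Nat.Prime 5) := ⟨by norm_num⟩
  haveI h3 : Fact (Nat.Prime 3) := ⟨Nat.prime_three⟩
  obtain ⟨P⟩ : Nonempty (Sylow 5 D) := inferInstance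
  have hPc : Nat.card (P : Subgroup D) = 5 := by
    rw [P.card_eq_multiplicity, hD, Nat.factorization_def _ h5.out, show (315 : ℕ) = 5 * 63 by norm_num,
      padicValNat.mul (by norm_num) (by norm_num), padicValNat.self (by norm_num), padicValNat.eq_zero_of_not_dvd (by norm_num)]
    norm_num
  set N := normalizer ((P : Subgroup D) : Set D) with hN
  have hidx := N.card_mul_index
  rw [hD] at hidx
  have hmod : Nat.card (Sylow 5 D) ≡ 1 [MOD 5] := card_sylow_modEq_one 5 D
  rw [P.card_eq_index_normalizer] at hmod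
  have h5N : 5 ∣ Nat.card N := hPc ▸ card_dvd_of_le le_normalizer
  have h3N : 3 ∣ Nat.card N := by
    generalize hn : Nat.card N = n at *
    change n * N.index = 315 at hidx
    generalize N.index = i at *
    rw [Nat.ModEq] at hmod
    obtain ⟨m, rfl⟩ := h5N
    have hm : m * i = 63 := by linarith
    have : m ∣ 63 := Dvd.intro i hm
    have hm' := Nat.le_of_dvd (by norm_num) this
    interval_cases m <;> omega
  obtain ⟨y, hy⟩ := exists_prime_orderOf_dvd_card' 3 h3N
  obtain ⟨z, hz⟩ := exists_prime_orderOf_dvd_card' (G := (P : Subgroup D)) 5 (dvd_of_eq hPc.symm)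
  have hy1 : (P : Subgroup D).normalizerMonoidHom y = 1 := by
    rw [← orderOf_eq_one_iff]
    refine Nat.Coprime.eq_one_of_dvd (m := 3) ?_ ((orderOf_map_dvd _ _).trans (dvd_of_eq hy))
    exact Nat.Coprime.coprime_dvd_left (orderOf_dvd_natCard (G := MulAut ↥(P : Subgroup D)) _)
      (by rw [(CompOrd.mulAut_prime hPc).1]; norm_num)
  have hcom : Commute ((y : D) : Q) ((z : D) : Q) := by
    have h1 : (y : D) * z * (y : D)⁻¹ = z := congrArg Subtype.val (DFunLike.congr_fun hy1 z)
    exact congrArg Subtype.val (mul_inv_eq_iff_eq_mul.1 h1)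
  exact orderOf_ne hE hcom Nat.prime_three h5.out (by norm_num)
    (by rw [orderOf_coe, orderOf_coe, hy]) (by rw [orderOf_coe, orderOf_coe, hz])

end Target

variable {G : Type u} [Group G] [Finite G] {H X : Subgroup G}

/-- An element centralised by an involution of `H` is not inverted by an involution outside. -/
theorem eq_one_of_inverted (hse : IsStronglyEmbedded H) {x t w : G} (hx : Odd (orderOf x)) (ht : t ∈ H)
    (ht2 : orderOf t = 2) (hw : w ∉ H) (hw2 : orderOf w = 2) (hc : Commute x t)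
    (hi : w * x * w⁻¹ = x⁻¹) : x = 1 := by
  have hr := se_odd_product hse ht ht2 hw hw2
  have h1 : MulAut.conj (t * w) x = x⁻¹ := by
    rw [map_mul, MulAut.mul_apply, MulAut.conj_apply, MulAut.conj_apply, hi, ← hc.inv_left.eq,
      mul_inv_cancel_right]
  have h1' : MulAut.conj (t * w) x⁻¹ = x := by rw [map_inv, h1, inv_inv]
  have hpow : ∀ n : ℕ, MulAut.conj ((t * w) ^ (2 * n)) x = x := by
    intro n
    induction n with
    | zero => simp
    | succ n ih =>
      rw [show 2 * (n + 1) = 2 * n + 1 + 1 by ring, pow_succ, pow_succ, map_mul, map_mul (MulAut.conj) ((t * w) ^ (2 * n)),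
        MulAut.mul_apply, MulAut.mul_apply, h1, h1', ih]
  obtain ⟨n, hn⟩ := hr
  have h2 := pow_orderOf_eq_one (t * w)
  rw [hn, pow_succ] at h2
  have h3 : x⁻¹ = x := by
    have := congrArg (fun g => MulAut.conj g x) h2
    rw [map_mul (MulAut.conj) ((t * w) ^ (2 * n)), MulAut.mul_apply, h1, map_inv (MulAut.conj _), hpow, map_one,
      MulAut.one_apply] at this
    exact this
  by_contra hx1
  have h4 : x * x = 1 := by nth_rw 1 [← h3]; exact inv_mul_cancel x
  rw [orderOf_eq_two_of hx1 h4] at hx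
  exact absurd hx (by decide)

/-- `H` modulo the odd normal `X` is not `PSL₃(4)`. -/
theorem false_of_psl34 (hse : IsStronglyEmbedded H) (hfaith : ∀ g : G, (∀ x : G ⧸ H, g • x = x) → g = 1)
    (hle : X ≤ H) (hnorm : H ≤ normalizer (X : Set G)) (hodd : Odd (Nat.card X))
    (hcore : ∀ t c : G, t ∈ H → orderOf t = 2 → c ∈ H → Commute c t → Odd (orderOf c) → c ∈ X)
    {Q : Type u} [Group Q] (π : ↥H →* Q) {F : Type} [Field F] [Fintype F] (hF : Fintype.card F = 4)
    (e : Q ≃* Matrix.ProjectiveSpecialLinearGroup (Fin 3) F)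
    (hπ : Function.Surjective π) (hker : π.ker = X.subgroupOf H) : False := by
  classical
  haveI : Fact (Nat.Prime 2) := ⟨Nat.prime_two⟩
  haveI : Finite Q := Finite.of_surjective π hπ
  have hE := CompOrd.isEppo_psl34 hF e
  have hQ : Nat.card Q = 20160 := (Nat.card_congr e.toEquiv).trans (CIT.card_psl_three_four hF)
  have hH : Nat.card H = Nat.card X * 20160 := by
    rw [← π.ker.card_mul_index, Subgroup.index_ker, π.range_eq_top_of_surjective hπ, Subgroup.card_top, hQ, hker,
      Nat.card_congr (subgroupOfEquivOfLe hle).toEquiv]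
  -- the number of involutions
  have hk : ∀ t : G, t ∈ H → orderOf t = 2 → ∀ p : ℕ, p.Prime → p ≠ 2 →
      (kInv H).factorization p = ((invSet t X).ncard).factorization p + (20160 : ℕ).factorization p := by
    intro t ht ht2 p hp hp2
    set C := (centralizer ({t} : Set G)).subgroupOf H with hC
    set CX := C ⊓ π.ker
    have hCimg : IsPGroup 2 (C.map π) := by
      refine IsPGroup.iff_card.2 ⟨(Nat.card (C.map π)).primeFactorsList.length, Nat.eq_prime_pow_of_unique_prime_dvd Nat.card_pos.ne' fun {r} hr hd => ?_⟩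
      haveI := Fact.mk hr
      by_contra hr2
      obtain ⟨⟨q, hq⟩, hqo⟩ := exists_prime_orderOf_dvd_card' r hd
      obtain ⟨c, hc, rfl⟩ := hq
      replace hqo : orderOf (π c) = r := by rw [← hqo]; exact (Subgroup.orderOf_mk _ _).symm
      obtain ⟨i, d, hd', hid⟩ := Nat.exists_eq_two_pow_mul_odd (n := orderOf c) (orderOf_pos c).ne'
      have h1 : c ^ 2 ^ i ∈ π.ker := by
        rw [hker, mem_subgroupOf, Subgroup.coe_pow]
        refine hcore t _ ht ht2 (pow_mem c.2 _) (Commute.pow_left (mem_centralizer_singleton_iff.1 hc) _) ?_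
        rw [← Subgroup.coe_pow, orderOf_coe, orderOf_pow_of_dvd (pow_ne_zero _ two_ne_zero) (hid ▸ Dvd.intro d rfl),
          hid, Nat.mul_div_cancel_left _ (pow_pos two_pos i)]
        exact hd'
      rw [MonoidHom.mem_ker, map_pow] at h1
      have := orderOf_dvd_of_pow_eq_one h1
      rw [hqo] at this
      exact hr2 ((Nat.prime_dvd_prime_iff_eq hr Nat.prime_two).1 (hr.dvd_of_dvd_pow this))
    obtain ⟨j, hj⟩ := IsPGroup.iff_card.1 hCimg
    have hCc : Nat.card C = Nat.card CX * 2 ^ j := by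
      rw [← hj, ← (π.comp C.subtype).ker.card_mul_index, Subgroup.index_ker, MonoidHom.range_comp, range_subtype]
      congr 1
      refine Nat.card_congr ?_
      exact {
        toFun := fun x => ⟨(x : C), Subgroup.mem_inf.2 ⟨(x : C).2, x.2⟩⟩
        invFun := fun x => ⟨⟨x, (Subgroup.mem_inf.1 x.2).1⟩, (Subgroup.mem_inf.1 x.2).2⟩
        left_inv := fun x => rfl
        right_inv := fun x => rfl }
    have hX : (invSet t X).ncard * Nat.card CX = Nat.card X := by
      rw [ncard_invSet ht2 (hnorm ht) hodd, mul_comm, ← ((centralizer ({t} : Set G)).subgroupOf X).card_mul_index]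
      congr 1
      refine Nat.card_congr ?_
      exact {
        toFun := fun x => ⟨⟨((x : H) : G), by simpa [hker, CX, mem_subgroupOf] using (Subgroup.mem_inf.1 x.2).2⟩,
          by simpa [C, mem_subgroupOf] using (Subgroup.mem_inf.1 x.2).1⟩
        invFun := fun x => ⟨⟨((x : X) : G), hle (x : X).2⟩, Subgroup.mem_inf.2
          ⟨show ((x : X) : G) ∈ centralizer ({t} : Set G) from x.2, by simp [hker, mem_subgroupOf]⟩⟩
        left_inv := fun x => rfl
        right_inv := fun x => rfl }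
    have h0 : kInv H * Nat.card C = Nat.card H := by
      rw [kInv_eq_index hse ht ht2, mul_comm]; exact C.card_mul_index
    have hk0 : kInv H ≠ 0 := (kInv_pos hse).ne'
    have ha0 : (invSet t X).ncard ≠ 0 := fun e => Nat.card_pos.ne' (hX.symm.trans (by rw [e, zero_mul]))
    rw [hCc, hH, ← hX] at h0
    have h1 : kInv H * 2 ^ j = (invSet t X).ncard * 20160 := by
      refine Nat.eq_of_mul_eq_mul_left (Nat.card_pos (α := CX)) ?_
      linarith
    have h2 := congrArg (fun n => n.factorization p) h1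
    simp only [Nat.factorization_mul hk0 (pow_ne_zero j two_ne_zero), Nat.factorization_mul ha0 (by norm_num : (20160 : ℕ) ≠ 0),
      Nat.factorization_pow, Finsupp.add_apply, Finsupp.smul_apply, Nat.Prime.factorization Nat.prime_two,
      Finsupp.single_eq_of_ne hp2, smul_zero, add_zero] at h2
    exact h2
  have hinvX : ∀ (p : ℕ) [Fact p.Prime], ∀ w : G, w ∈ H → orderOf w = 2 → ∀ P : Subgroup G, IsPGroup p P →
      w ∈ normalizer (P : Set G) → (invSet w (P ⊓ X)).ncard ≤ p ^ ((invSet w X).ncard).factorization p := by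
    intro p _ w hw hw2 P hPp hn
    obtain ⟨R, hR, hPR, hRn⟩ := exists_invariant_isSyl hw2 (hnorm hw) hodd (P ⊓ X)
      (hPp.to_le inf_le_left) inf_le_right (inf_normalizer_le_normalizer_inf ⟨hn, hnorm hw⟩)
    rw [← ncard_invSet_syl hw2 (hnorm hw) hodd hR hRn]
    exact Set.ncard_le_ncard (invSet_mono hPR) (Set.toFinite _)
  have hbound : ∀ p : ℕ, [Fact p.Prime] → Odd p → ∀ w : G, w ∈ H → orderOf w = 2 → ∀ P : Subgroup G, P ≤ H →
      IsPGroup p P → w ∈ normalizer (P : Set G) → (invSet w P).ncard ≤ kPart H p := by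
    intro p hp hpodd w hw hw2 P hP hPp hn
    have hPodd : Odd (Nat.card P) := by
      obtain ⟨n, hn'⟩ := IsPGroup.iff_card.1 hPp
      rw [hn']; exact hpodd.pow
    have hXn : w ∈ normalizer ((P ⊓ X : Subgroup G) : Set G) := inf_normalizer_le_normalizer_inf ⟨hn, hnorm hw⟩
    have hdvd : (invSet w P).ncard ∣ X.relIndex P * (invSet w (P ⊓ X)).ncard := by
      rw [ncard_invSet hw2 hn hPodd, ncard_invSet hw2 hXn (hPodd.of_dvd_nat (card_dvd_of_le inf_le_left))]
      show (centralizer ({w} : Set G)).relIndex P ∣ _ * (centralizer ({w} : Set G)).relIndex (P ⊓ X)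
      rw [← inf_relIndex_right X P, inf_comm X P, mul_comm,
        ← inf_relIndex_right (centralizer ({w} : Set G)) (P ⊓ X),
        relIndex_mul_relIndex _ _ _ inf_le_right inf_le_left, ← inf_relIndex_right (centralizer ({w} : Set G)) P]
      exact relIndex_dvd_of_le_left P (by rw [← inf_assoc]; exact inf_le_left)
    have hrel : X.relIndex P ∣ p ^ (20160 : ℕ).factorization p := by
      have h1 : X.relIndex P = Nat.card ((P.subgroupOf H).map π) := by
        rw [← relIndex_ker, hker, relIndex_subgroupOf hP]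
      rw [h1]
      obtain ⟨i, hi⟩ := IsPGroup.iff_card.1 ((hPp.comap_subtype (K := H)).map π)
      rw [show Nat.card ((P.subgroupOf H).map π) = p ^ i from hi]
      refine pow_dvd_pow p ((Nat.Prime.pow_dvd_iff_le_factorization hp.out (by norm_num)).1 ?_)
      exact hQ ▸ hi ▸ card_subgroup_dvd_card _
    refine (Nat.le_of_dvd ?_ hdvd).trans ?_
    · refine Nat.mul_pos (Nat.pos_of_ne_zero fun e => ?_) ?_
      · exact (pow_pos hp.out.pos ((20160 : ℕ).factorization p)).ne' (Nat.eq_zero_of_zero_dvd (e ▸ hrel))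
      exact (Set.ncard_pos (Set.toFinite _)).2 ⟨1, one_mem _, by simp⟩
    rw [kPart, hk w hw hw2 p hp.out (by rintro rfl; exact absurd hpodd (by decide)), pow_add, mul_comm]
    exact Nat.mul_le_mul (hinvX p w hw hw2 P hPp hn) (Nat.le_of_dvd (pow_pos hp.out.pos _) hrel)
  have hsemi : ∀ w, ∀ hw : w ∈ H, orderOf w = 2 → π ⟨w, hw⟩ ≠ 1 := by
    intro w hw hw2 e
    rw [← MonoidHom.mem_ker, hker, mem_subgroupOf] at e
    exact Nat.not_even_iff_odd.mpr hodd (even_iff_two_dvd.mpr (hw2 ▸ Subgroup.orderOf_dvd_natCard X e))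
  have hgood : ∃ p : ℕ, p.Prime ∧ GoodPrime H p := by
    haveI h7 : Fact (Nat.Prime 7) := ⟨by norm_num⟩
    refine ⟨7, h7.out, fun x w P hw2 hwx hPp hPx hn => ?_⟩
    obtain ⟨g, rfl⟩ := QuotientGroup.mk_surjective x
    have hwg : g⁻¹ * w * g ∈ H := smul_coset_eq_iff.mp hwx
    set c := (MulAut.conj g⁻¹).toMonoidHom
    have hc : Function.Injective c := (MulAut.conj g⁻¹).injective
    have hcap : ∀ y, c y = g⁻¹ * y * g := fun y => by
      show g⁻¹ * y * g⁻¹⁻¹ = _
      rw [inv_inv]
    set P' := P.map c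
    have hP' : P' ≤ H := by
      rintro _ ⟨y, hy, rfl⟩
      rw [hcap]; exact smul_coset_eq_iff.mp (hPx hy)
    have hw' : orderOf (c w) = 2 := (orderOf_injective c hc w).trans hw2
    have hwH : c w ∈ H := (hcap w).symm ▸ hwg
    have himg : invSet (c w) P' = c '' invSet w P := by
      ext j
      constructor
      · rintro ⟨⟨y, hy, rfl⟩, hi⟩
        refine ⟨y, ⟨hy, hc ?_⟩, rfl⟩
        simp only [map_mul, map_inv]; exact hi
      · rintro ⟨y, ⟨hy, hi⟩, rfl⟩
        exact ⟨⟨y, hy, rfl⟩, by rw [← map_inv, ← map_mul, ← map_mul, hi, map_inv]⟩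
    rw [← Set.ncard_image_of_injective _ hc, ← himg]
    have hsub : invSet (c w) P' ⊆ invSet (c w) (P' ⊓ X) := by
      rintro j ⟨hj, hi⟩
      refine ⟨Subgroup.mem_inf.2 ⟨hj, ?_⟩, hi⟩
      by_contra hjX
      have hq1 : π ⟨j, hP' hj⟩ ≠ 1 := fun e => hjX (by
        rw [← MonoidHom.mem_ker, hker, mem_subgroupOf] at e; exact e)
      obtain ⟨i, hi7⟩ := IsPGroup.iff_orderOf.1 (hPp.map c) ⟨j, hj⟩
      rw [Subgroup.orderOf_mk] at hi7
      have hdv : orderOf (π ⟨j, hP' hj⟩) ∣ 7 ^ i := by
        rw [← hi7, ← Subgroup.orderOf_mk j (hP' hj)]; exact orderOf_map_dvd π _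
      obtain ⟨r, -, hr⟩ := (Nat.dvd_prime_pow h7.out).1 hdv
      have hr1 : r = 1 := by
        have h1 : r ≤ 1 := by
          have hd := hr ▸ orderOf_dvd_natCard (π ⟨j, hP' hj⟩)
          rw [hQ] at hd
          by_contra h2
          exact absurd ((pow_dvd_pow 7 (not_le.1 h2)).trans hd) (by norm_num)
        rcases Nat.eq_zero_or_pos r with h0 | h0
        · exact absurd (orderOf_eq_one_iff.1 (by rw [hr, h0, pow_zero])) hq1
        · omega
      refine not_inverted_seven hQ hE (by rw [hr, hr1, pow_one]) (orderOf_eq_two_of (hsemi _ hwH hw') ?_) ?_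
        (s := π ⟨c w, hwH⟩)
      · rw [← map_mul, ← map_one π]; exact congrArg π (Subtype.ext (Invol.inv_mul_self hw'))
      · rw [← map_inv, ← map_mul, ← map_mul, ← map_inv]; exact congrArg π (Subtype.ext hi)
    refine ((Set.ncard_le_ncard hsub (Set.toFinite _)).trans
      (hinvX 7 (c w) hwH hw' P' (hPp.map c) (le_normalizer_map c ⟨w, hn, rfl⟩))).trans_lt ?_
    rw [kPart, hk (c w) hwH hw' 7 h7.out (by norm_num)]
    exact Nat.pow_lt_pow_right (by norm_num)
      (Nat.lt_add_of_pos_right (h7.out.factorization_pos_of_dvd (by norm_num) (by norm_num)))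
  have hB : BoundData H X := ⟨hse, hfaith, hle, hnorm, hodd, hbound, hgood⟩
  -- the two-point stabiliser injects its inverted elements into the quotient
  obtain ⟨t, ht, ht2⟩ := exists_involution_of_even hse.2.1
  set α : G ⧸ H := QuotientGroup.mk 1
  obtain ⟨β, hβ⟩ := exists_ne hse α
  obtain ⟨w, hw2, hw⟩ := exists_swapper hse hβ.symm
  have hwH : w ∉ H := fun e => hβ (by rw [← hw]; exact smul_coset_one_eq.mpr e)
  set D := stabilizer G α ⊓ stabilizer G β
  have hDH : D ≤ H := fun y hy => smul_coset_one_eq.mp (Subgroup.mem_inf.1 hy).1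
  have hDn : w ∈ normalizer (D : Set G) := swapper_norm hw2 hw
  have hDodd : Odd (Nat.card D) := odd_two hse hβ.symm
  set Dq := (D.subgroupOf H).map π with hDq
  have hkle : kInv H ≤ Nat.card Dq := by
    rw [← ncard_invSet_two hse hβ.symm hw2 hw, ← Nat.card_coe_set_eq]
    refine Nat.card_le_card_of_injective
      (fun j : invSet w D => (⟨π ⟨j, hDH j.2.1⟩, ⟨_, j.2.1, rfl⟩⟩ : Dq)) fun j j' hjj => ?_
    have h1 : π ⟨j, hDH j.2.1⟩ = π ⟨j', hDH j'.2.1⟩ := congrArg Subtype.val hjj
    have hX1 : ∀ a b : G, ∀ ha : a ∈ H, ∀ hb : b ∈ H, π ⟨a, ha⟩ = π ⟨b, hb⟩ → a⁻¹ * b ∈ X := by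
      intro a b ha hb hab
      have : (⟨a, ha⟩⁻¹ * ⟨b, hb⟩ : H) ∈ π.ker := by
        rw [MonoidHom.mem_ker, map_mul, map_inv, hab, inv_mul_cancel]
      rw [hker, mem_subgroupOf] at this
      exact this
    set x := (j : G)⁻¹ * j' with hxdef
    have hx : x ∈ X := hX1 _ _ _ _ h1
    have hxw : w * x * w⁻¹ = (j : G) * (j' : G)⁻¹ := by
      calc w * x * w⁻¹ = (w * (j : G) * w⁻¹)⁻¹ * (w * j' * w⁻¹) := by rw [hxdef]; group
        _ = _ := by rw [j.2.2, j'.2.2, inv_inv]
    have hx' : w * x * w⁻¹ ∈ X := by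
      rw [hxw]
      have h2 : π ⟨(j : G)⁻¹, inv_mem (hDH j.2.1)⟩ = π ⟨(j' : G)⁻¹, inv_mem (hDH j'.2.1)⟩ := by
        show π (⟨(j : G), hDH j.2.1⟩⁻¹) = π (⟨(j' : G), hDH j'.2.1⟩⁻¹)
        rw [map_inv, map_inv, h1]
      simpa using hX1 _ _ _ _ h2
    have hxD : x ∈ D := mul_mem (inv_mem j.2.1) j'.2.1
    have hfix : w * x * w⁻¹ = x := by
      have htw := twist_mem hw2 hDn hxD
      have hjX : x * w * x⁻¹ * w⁻¹ ∈ X := by
        rw [show x * w * x⁻¹ * w⁻¹ = x * (w * x * w⁻¹)⁻¹ by group]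
        exact mul_mem hx (inv_mem hx')
      have h3 := eq_one_of_inverted hse (hodd.of_dvd_nat (Subgroup.orderOf_dvd_natCard X hjX)) ht ht2 hwH hw2
        (hB.commute_core ht ht2 hjX) htw.2
      rw [show x * w * x⁻¹ * w⁻¹ = x * (w * x * w⁻¹)⁻¹ by group, mul_inv_eq_one] at h3
      exact h3.symm
    rw [hxw] at hfix
    -- `j'` squares to the square of `j`
    have h4 : (j : G) * j = j' * j' := by
      rw [hxdef, mul_inv_eq_iff_eq_mul] at hfix
      calc (j : G) * j = (j : G) * ((j : G)⁻¹ * j' * j') := by rw [← hfix]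
        _ = j' * j' := by group
    obtain ⟨i, hi⟩ := hDodd
    have h5 : ∀ y ∈ D, y = (y * y) ^ (i + 1) := fun y hy => by
      rw [← pow_two, ← pow_mul, show 2 * (i + 1) = Nat.card D + 1 by omega, pow_succ,
        show y ^ Nat.card D = 1 by
          exact orderOf_dvd_iff_pow_eq_one.1 (Subgroup.orderOf_dvd_natCard D hy), one_mul]
    exact Subtype.ext (by rw [h5 _ j.2.1, h5 _ j'.2.1, h4])
  have hDq_dvd : Nat.card Dq ∣ 315 := by
    have h1 : Nat.card Dq ∣ 64 * 315 := (card_subgroup_dvd_card _).trans (dvd_of_eq hQ)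
    refine Nat.Coprime.dvd_of_dvd_mul_left ?_ h1
    have hodd' : Odd (Nat.card Dq) := hDodd.of_dvd_nat ((card_map_dvd _ π).trans
      (dvd_of_eq (Nat.card_congr (subgroupOfEquivOfLe hDH).toEquiv)))
    rw [show (64 : ℕ) = 2 ^ 6 by norm_num]
    exact Nat.Coprime.pow_right 6 (Nat.coprime_two_right.2 hodd')
  have hk315 : 315 ∣ kInv H := by
    have hv : ∀ p : ℕ, p.Prime → p ≠ 2 → ∀ e, p ^ e ∣ 20160 → p ^ e ∣ kInv H := fun p hp hp2 e he => by
      rw [hp.pow_dvd_iff_le_factorization (kInv_pos hse).ne', hk t ht ht2 p hp hp2]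
      exact ((hp.pow_dvd_iff_le_factorization (by norm_num)).1 he).trans (Nat.le_add_left _ _)
    have h9 := hv 3 Nat.prime_three (by norm_num) 2 (by norm_num)
    have h5 := hv 5 (by norm_num) (by norm_num) 1 (by norm_num)
    have h7 := hv 7 (by norm_num) (by norm_num) 1 (by norm_num)
    exact Nat.Coprime.mul_dvd_of_dvd_of_dvd (m := 45) (n := 7) (by norm_num)
      (Nat.Coprime.mul_dvd_of_dvd_of_dvd (m := 9) (n := 5) (by norm_num) h9 h5) h7
  exact not_card_315 hQ hE Dq (le_antisymm (Nat.le_of_dvd (by norm_num) hDq_dvd)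
    ((Nat.le_of_dvd (kInv_pos hse) hk315).trans hkle))

end Cfsg.Lib.StrongEmb.LThreeFour
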