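import Cfsg.Agent.Lib.StrongEmb.Cover
import Cfsg.Agent.Lib.StrongEmb.TwoNilp
import Cfsg.Agent.Lib.StrongEmb.LThreeFour
import Cfsg.Agent.Lib.CIT.NonSolvIndex
import Cfsg.Agent.Lib.CIT.CNStruct.PSLThreeFour
import Cfsg.Agent.Lib.Core.Layer

/-!
In a simple group of 2-rank above two with 2-nilpotent involution centralisers, the centralisers are
2-groups: a least strongly embedded subgroup inside the normaliser of the signalizer subgroup would have
commuting involutions modulo its odd core.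
-/

set_option autoImplicit false
set_option linter.style.haveILetI false
set_option linter.unusedSectionVars false

namespace Cfsg.Lib.StrongEmb.Cover

open Subgroup Cfsg Cfsg.Lib.Invol
open Cfsg.Lib

universe u

variable {G : Type u} [Group G] [Finite G]

/-- An involution in the quotient by an odd normal subgroup lifts to an involution. -/
theorem exists_lift_involution {O : Subgroup G} [O.Normal] (hO : ¬ 2 ∣ Nat.card O) {q : G ⧸ O}
    (hq : orderOf q = 2) : ∃ t : G, orderOf t = 2 ∧ (t : G ⧸ O) = q := by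
  obtain ⟨c, rfl⟩ := QuotientGroup.mk'_surjective O q
  obtain ⟨i, d, hd, hid⟩ := Nat.exists_eq_two_pow_mul_odd (n := orderOf c) (orderOf_pos c).ne'
  obtain ⟨e, he⟩ := hd
  have hqd : ((c ^ d : G) : G ⧸ O) = (c : G ⧸ O) := by
    rw [QuotientGroup.mk_pow, he, pow_succ, pow_mul]
    have : (c : G ⧸ O) ^ 2 = 1 := hq ▸ pow_orderOf_eq_one _
    rw [this, one_pow, one_mul]
  refine ⟨c ^ d, orderOf_eq_two_of (fun e1 => ?_) ?_, hqd⟩
  · have : (c : G ⧸ O) = 1 := by rw [← hqd, e1]; rfl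
    exact Invol.ne_one hq this
  · by_contra hne
    have hmem : c ^ d * c ^ d ∈ O := by
      rw [← QuotientGroup.eq_one_iff, QuotientGroup.mk_mul, hqd]
      exact Invol.inv_mul_self hq
    have hdvd : orderOf (c ^ d * c ^ d) ∣ 2 ^ i := by
      apply orderOf_dvd_of_pow_eq_one
      rw [← pow_add, ← pow_mul, show (d + d) * 2 ^ i = orderOf c * 2 by rw [hid]; ring, pow_mul,
        pow_orderOf_eq_one, one_pow]
    obtain ⟨j, -, hj⟩ := (Nat.dvd_prime_pow Nat.prime_two).1 hdvd
    rcases j with _ | j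
    · exact hne (orderOf_eq_one_iff.1 (hj.trans (pow_zero 2)))
    · exact hO ((Dvd.intro_left _ (pow_succ 2 j).symm).trans (hj ▸ Subgroup.orderOf_dvd_natCard O hmem))

/-- The centraliser of an involution maps onto that of its image in an odd quotient. -/
theorem exists_lift_commute {O : Subgroup G} [O.Normal] (hO : ¬ 2 ∣ Nat.card O) {t a : G} (ht : orderOf t = 2)
    (h : Commute (a : G ⧸ O) (t : G ⧸ O)) : ∃ c : G, Commute c t ∧ (c : G ⧸ O) = (a : G ⧸ O) := by
  have hodd : Odd (Nat.card O) := Nat.odd_iff.2 (Nat.two_dvd_ne_zero.1 hO)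
  have hj : a * t * a⁻¹ * t ∈ O := by
    rw [← QuotientGroup.eq_one_iff, QuotientGroup.mk_mul, QuotientGroup.mk_mul, QuotientGroup.mk_mul,
      QuotientGroup.mk_inv, h.eq, mul_inv_cancel_right, ← QuotientGroup.mk_mul, Invol.inv_mul_self ht]
    rfl
  obtain ⟨r, hr, hrj⟩ := Cfsg.Lib.StrongEmb.exists_sqrt hodd hj
  obtain ⟨k, hk⟩ := hr
  simp only at hk
  have hinv : t * (a * t * a⁻¹ * t) * t⁻¹ = (a * t * a⁻¹ * t)⁻¹ := by
    simp only [mul_inv_rev, inv_inv, Invol.inv_eq_self ht]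
    calc t * (a * t * a⁻¹ * t) * t = t * (a * (t * (a⁻¹ * (t * t)))) := by group
      _ = t * (a * (t * a⁻¹)) := by rw [Invol.inv_mul_self ht, mul_one]
  have hrt : t * r * t⁻¹ = r⁻¹ := by rw [← hk, ← conj_zpow, hinv, inv_zpow]
  have hrO : r ∈ O := by rw [← hk]; exact zpow_mem hj k
  refine ⟨r⁻¹ * a, ?_, ?_⟩
  · have h2 : r * t * r⁻¹ = a * t * a⁻¹ := by
      have h3 : t * r⁻¹ = r * t := by rw [← hrt]; simp [Invol.inv_eq_self ht, mul_assoc]; rw [← mul_assoc t t, Invol.inv_mul_self ht, one_mul]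
      calc r * t * r⁻¹ = r * (t * r⁻¹) := by group
        _ = r * r * t := by rw [h3, mul_assoc]
        _ = a * t * a⁻¹ := by rw [hrj, mul_assoc, Invol.inv_mul_self ht, mul_one]
    show r⁻¹ * a * t = t * (r⁻¹ * a)
    calc r⁻¹ * a * t = r⁻¹ * (a * t * a⁻¹) * a := by group
      _ = r⁻¹ * (r * t * r⁻¹) * a := by rw [h2]
      _ = t * (r⁻¹ * a) := by group
  · rw [QuotientGroup.mk_mul, QuotientGroup.mk_inv, (QuotientGroup.eq_one_iff r).2 hrO, inv_one, one_mul]

/-- An involution of a group normalising a Sylow 2-subgroup lies in it. -/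
theorem mem_sylow_of_normalizes {T : Type*} [Group T] [Finite T] (P : Sylow 2 T) {q : T} (hq : q * q = 1)
    (hn : q ∈ normalizer ((P : Subgroup T) : Set T)) : q ∈ (P : Subgroup T) := by
  haveI : Fact (Nat.Prime 2) := ⟨Nat.prime_two⟩
  have hP : IsPGroup 2 ↥((P : Subgroup T) ⊔ zpowers q) := by
    refine IsPGroup.to_sup_of_normal_left' P.2 (fun x => ⟨1, Subtype.ext ?_⟩) (zpowers_le.2 hn)
    obtain ⟨k, hk⟩ := x.2
    simp only at hk
    rw [pow_one, Subgroup.coe_pow, pow_two, ← hk, ← (Commute.refl q).mul_zpow, hq, one_zpow, Subgroup.coe_one]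
  have := P.is_maximal' hP le_sup_left
  rw [← this]
  exact (le_sup_right : zpowers q ≤ (P : Subgroup T) ⊔ zpowers q) (mem_zpowers q)

variable [IsSimpleGroup G]

/-- All signalizers are trivial. -/
theorem th_eq_bot (hna : ¬ IsMulCommutative G) (hI : AllNilp G) (S : Sylow 2 G)
    (hr : ¬ Cfsg.PRankLE 2 2 (S : Subgroup G)) {t₀ : G} (ht₀ : orderOf t₀ = 2) : th t₀ = ⊥ := by
  classical
  haveI : Fact (Nat.Prime 2) := ⟨Nat.prime_two⟩
  obtain ⟨⟨U, hB⟩, E₁, hE₁S, hE₁, hE₁8⟩ := exists_base S hr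
  set M := normalizer (Wof U : Set G) with hMdef
  have hWodd : Odd (Nat.card (Wof U)) := by
    rw [← hB.Wof_all hI hE₁S hE₁ hE₁8]; exact (Wof_signalizer hI hE₁ hE₁8).1
  suffices hW : Wof U = ⊥ by
    obtain ⟨g, E, hES, hE, hE8, hgE⟩ := hB.exists_covered hna hr ht₀
    have h1 := hB.th_le hI hES hE hE8 hgE (fun e => Invol.ne_one ht₀ (by simpa using e))
    rw [hW] at h1
    refine eq_bot_iff.2 fun c hc => mem_bot.2 ?_
    have h2 := mem_bot.1 (h1 ((th_conj hI ht₀).2 hc))
    simpa using h2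
  by_contra hW
  have hMne : M ≠ ⊤ := by
    intro htop
    haveI : (Wof U).Normal := normalizer_eq_top_iff.1 htop
    rcases (inferInstance : (Wof U).Normal).eq_bot_or_eq_top with e | e
    · exact hW e
    · rw [e, Subgroup.card_top] at hWodd
      exact Nat.not_even_iff_odd.2 hWodd (even_card hna)
  have hSM : (S : Subgroup G) ≤ M := hB.sylow_le hI
  have hcl : ∀ v, orderOf v = 2 → v ∈ M → th v ≤ Wof U ∧ centralizer ({v} : Set G) ≤ M := by
    intro v hv hvM
    obtain ⟨E, hE, hEl, hE8⟩ := hB.exists_el hI hna hr hv hvM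
    exact hB.cent_le hI hv hvM hE hEl hE8
  -- the normaliser is strongly embedded
  have hse : IsStronglyEmbedded M := by
    have hev : Even (Nat.card M) := by
      obtain ⟨j, hj⟩ := IsPGroup.iff_card.1 (S.2.to_le hE₁S)
      rw [even_iff_two_dvd]
      refine dvd_trans ?_ (card_dvd_of_le (hE₁S.trans hSM))
      rw [hj]
      exact dvd_pow_self 2 (by rintro rfl; rw [pow_zero] at hj; omega)
    refine (stronglyEmbedded_iff hMne hev).2 fun v hvM hv g hg => ?_
    obtain ⟨E, hE, hEl, hE8⟩ := hB.exists_el hI hna hr hv hvM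
    have hv' : orderOf (g * v * g⁻¹) = 2 := by rw [orderOf_conj_eq, hv]
    have hE2 : IsPGroup 2 E := fun a => ⟨1, Subtype.ext (by rw [pow_one, Subgroup.coe_pow, pow_two]; exact hEl _ a.2)⟩
    refine hB.fusion hI hE2 (hE.trans inf_le_left) le_rfl hEl hE8 ?_
    rintro _ ⟨e, he, rfl⟩
    refine (hcl _ hv' hg).2 (mem_centralizer_singleton_iff.2 ?_)
    exact ((show Commute e v from mem_centralizer_singleton_iff.1 (hE he).2).map (MulAut.conj g).toMonoidHom).eq
  -- a least strongly embedded subgroup inside it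
  obtain ⟨H, hHM, hH⟩ := exists_minimal_le_of_wellFoundedLT
    (fun K : Subgroup G => IsStronglyEmbedded K ∧ K ≤ M) M ⟨hse, le_rfl⟩
  have hHse : IsStronglyEmbedded H := hH.prop.1
  have hthH : ∀ v, v ∈ H → orderOf v = 2 → th v ≤ Wof U ⊓ H := fun v hv hv2 => le_inf (hcl v hv2 (hHM hv)).1
    ((th_facts hI hv2).1.trans fun c hc => se_centralizer hHse hv hv2 (mem_centralizer_singleton_iff.1 hc))
  set O := oddCore ↥H with hOdef
  haveI hOn : O.Normal := (inferInstance : (Cfsg.pPrimeCore 2 ↥H).Normal)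
  have hO2 : ¬ 2 ∣ Nat.card O := Core.pPrimeCore_not_dvd 2 ↥H
  set X := O.map H.subtype with hX
  have hWX : Wof U ⊓ H ≤ X := by
    intro c hc
    obtain ⟨hcW, hcH⟩ := Subgroup.mem_inf.1 hc
    refine ⟨⟨c, hcH⟩, ?_, rfl⟩
    have hn : ((Wof U).subgroupOf H).Normal := ⟨fun w hw k => by
      show (k : G) * w * (k : G)⁻¹ ∈ Wof U
      exact (mem_normalizer_iff.1 (hHM k.2) (w : G)).1 hw⟩
    refine Core.le_pPrimeCore' hn ?_ (mem_subgroupOf.2 hcW : (⟨c, hcH⟩ : H) ∈ (Wof U).subgroupOf H)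
    rw [Nat.coprime_comm, Nat.prime_two.coprime_iff_not_dvd]
    exact fun h2 => Nat.not_even_iff_odd.2 hWodd (even_iff_two_dvd.2 (h2.trans
      (card_comap_dvd_of_injective _ _ H.subtype_injective)))
  have hXle : X ≤ H := map_subtype_le _
  have hXn : H ≤ normalizer (X : Set G) := by
    intro k hk
    refine mem_normalizer_fintype ?_
    rintro _ ⟨x, hx, rfl⟩
    exact ⟨_, hOn.conj_mem x hx ⟨k, hk⟩, rfl⟩
  have hXodd : Odd (Nat.card X) := by
    rw [hX, card_map_of_injective H.subtype_injective, ← Nat.not_even_iff_odd, even_iff_two_dvd]; exact hO2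
  have hXsub : X.subgroupOf H = O := by
    rw [hX, subgroupOf, comap_map_eq_self_of_injective H.subtype_injective]
  have hfaith : ∀ g : G, (∀ x : G ⧸ H, g • x = x) → g = 1 := by
    intro g hg
    have hmem : g ∈ H.normalCore := fun b => by
      have := smul_coset_eq_iff.1 (hg (QuotientGroup.mk b⁻¹))
      simpa [inv_inv] using this
    rcases (normalCore_normal H).eq_bot_or_eq_top with e | e
    · exact mem_bot.1 (e ▸ hmem)
    · exact absurd (top_le_iff.1 (e ▸ normalCore_le H)) hHse.1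
  -- the quotient
  set π := QuotientGroup.mk' O with hπ
  have hπs : Function.Surjective π := QuotientGroup.mk'_surjective _
  have hcore : ∀ v c : G, v ∈ H → orderOf v = 2 → c ∈ H → Commute c v → Odd (orderOf c) → c ∈ X :=
    fun v c hv hv2 _ hcv hodd => hWX (hthH v hv hv2 ((mem_th hI hv2).2 ⟨hcv, hodd⟩))
  have hconjH : ∀ {a b : G}, a ∈ H → b ∈ H → orderOf a = 2 → orderOf b = 2 → ∃ d ∈ H, d * a * d⁻¹ = b := by
    intro a b ha hb ha2 hb2
    obtain ⟨w, hw, hw2⟩ := se_exists_outside hHse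
    obtain ⟨d, hd, hdt⟩ := se_transitive hHse hw2 hw ha2 ha hb2 hb
    exact ⟨d, hd.1, hdt⟩
  have hQconj : ∀ a b : ↥H ⧸ O, orderOf a = 2 → orderOf b = 2 → IsConj a b := by
    intro a b ha hb
    obtain ⟨a', ha', rfl⟩ := exists_lift_involution hO2 ha
    obtain ⟨b', hb', rfl⟩ := exists_lift_involution hO2 hb
    obtain ⟨d, hd, hdab⟩ := hconjH a'.2 b'.2 (by rw [orderOf_coe, ha']) (by rw [orderOf_coe, hb'])
    have : (⟨d, hd⟩ : H) * a' * (⟨d, hd⟩ : H)⁻¹ = b' := Subtype.ext hdab
    exact isConj_iff.2 ⟨π ⟨d, hd⟩, by rw [← this]; simp [hπ]⟩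
  have hCIT : CIT.IsCIT (↥H ⧸ O) := by
    intro q hq c
    obtain ⟨v, hv, rfl⟩ := exists_lift_involution hO2 hq
    obtain ⟨a, ha⟩ := hπs (c : ↥H ⧸ O)
    obtain ⟨b, hb, hba⟩ := exists_lift_commute hO2 (a := a) hv
      (by
        have := mem_centralizer_singleton_iff.1 c.2
        rw [← ha] at this
        exact this)
    obtain ⟨i, d, hd, hid⟩ := Nat.exists_eq_two_pow_mul_odd (n := orderOf (b : G)) (orderOf_pos _).ne'
    refine ⟨i, Subtype.ext ?_⟩
    rw [Subgroup.coe_pow, ← ha]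
    show (π a) ^ 2 ^ i = 1
    rw [show π a = π b from hba.symm, ← map_pow, hπ, QuotientGroup.mk'_apply, QuotientGroup.eq_one_iff, ← hXsub,
      mem_subgroupOf, Subgroup.coe_pow]
    refine hcore (v : G) _ v.2 (by rw [orderOf_coe, hv]) (pow_mem b.2 _) ((congrArg Subtype.val hb : _ = _) |>
      fun e => (show Commute (b : G) (v : G) from e).pow_left _) ?_
    rw [orderOf_pow_of_dvd (pow_ne_zero _ two_ne_zero) (hid ▸ Dvd.intro d rfl), hid,
      Nat.mul_div_cancel_left _ (pow_pos two_pos i)]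
    exact hd
  have hOQ : Cfsg.oddCore (↥H ⧸ O) = ⊥ := Core.pPrimeCore_quotient_eq_bot
  obtain ⟨v₀, hv₀, hv₀2⟩ := exists_involution_of_even hHse.2.1
  have hQinv : orderOf (π ⟨v₀, hv₀⟩) = 2 := by
    refine orderOf_eq_two_of (fun e => ?_) ?_
    · rw [hπ, QuotientGroup.mk'_apply, QuotientGroup.eq_one_iff, ← hXsub, mem_subgroupOf] at e
      exact Nat.not_even_iff_odd.2 hXodd (even_iff_two_dvd.2 (hv₀2 ▸ Subgroup.orderOf_dvd_natCard X e))
    · rw [← map_mul, ← map_one π]; exact congrArg π (Subtype.ext (Invol.inv_mul_self hv₀2))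
  by_cases hP2 : Cfsg.pCore 2 (↥H ⧸ O) = ⊥
  swap
  · -- the involutions commute modulo the odd core
    set P := Cfsg.pCore 2 (↥H ⧸ O) with hP
    obtain ⟨z, -, hzc, hz⟩ := PGroup.exists_mem_center_orderOf_eq (G := P) (Core.pCore_isPGroup 2 _)
      (N := (⊤ : Subgroup P)) (by
        intro e
        refine hP2 ?_
        have := congrArg (Subgroup.map P.subtype) e
        rwa [← MonoidHom.range_eq_map, range_subtype, Subgroup.map_bot] at this)
    have hcen : ∀ q : ↥H ⧸ O, orderOf q = 2 → q ∈ P ∧ ∀ p ∈ P, Commute q p := by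
      intro q hq
      obtain ⟨d, rfl⟩ := isConj_iff.1 (hQconj (z : ↥H ⧸ O) q (by rw [orderOf_coe, hz]) hq)
      have hPn : P.Normal := (inferInstance : (Cfsg.pCore 2 (↥H ⧸ O)).Normal)
      refine ⟨hPn.conj_mem _ z.2 d, fun p hp => ?_⟩
      have h1 : Commute (z : ↥H ⧸ O) (d⁻¹ * p * d⁻¹⁻¹) :=
        (congrArg Subtype.val (mem_center_iff.1 hzc ⟨_, hPn.conj_mem p hp d⁻¹⟩)).symm
      have := h1.map (MulAut.conj d).toMonoidHom
      simpa [mul_assoc] using this
    have hcomm : ∀ a b : G, a ∈ H → b ∈ H → orderOf a = 2 → orderOf b = 2 → a * b * (a * b) ∈ X := by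
      intro a b ha hb ha2 hb2
      have key : ∀ c : G, ∀ hc : c ∈ H, orderOf c = 2 → orderOf (π ⟨c, hc⟩) = 2 := fun c hc hc2 => by
        refine orderOf_eq_two_of (fun e => ?_) ?_
        · rw [hπ, QuotientGroup.mk'_apply, QuotientGroup.eq_one_iff, ← hXsub, mem_subgroupOf] at e
          exact Nat.not_even_iff_odd.2 hXodd (even_iff_two_dvd.2 (hc2 ▸ Subgroup.orderOf_dvd_natCard X e))
        · rw [← map_mul, ← map_one π]; exact congrArg π (Subtype.ext (Invol.inv_mul_self hc2))
      have hc := (hcen _ (key a ha ha2)).2 _ (hcen _ (key b hb hb2)).1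
      have h1 : π (⟨a, ha⟩ * ⟨b, hb⟩ * (⟨a, ha⟩ * ⟨b, hb⟩)) = 1 := by
        rw [map_mul, map_mul, hc.symm.mul_mul_mul_comm, Invol.inv_mul_self (key a ha ha2),
          Invol.inv_mul_self (key b hb hb2), one_mul]
      rw [hπ, QuotientGroup.mk'_apply, QuotientGroup.eq_one_iff, ← hXsub, mem_subgroupOf] at h1
      exact h1
    have hfour : ∃ a b : G, a ∈ H ∧ b ∈ H ∧ orderOf a = 2 ∧ orderOf b = 2 ∧ a ≠ b ∧ Commute a b := by
      obtain ⟨g, E, hES, hE, hE8, hgE⟩ := hB.exists_covered hna hr hv₀2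
      obtain ⟨b, hb, hb1, hbne⟩ : ∃ b ∈ E, b ≠ 1 ∧ b ≠ g * v₀ * g⁻¹ := by
        by_contra hno
        push Not at hno
        have hle : Nat.card E ≤ 2 := by
          refine le_trans (Nat.card_le_card_of_injective (fun e : E => if (e : G) = 1 then (0 : Fin 2) else 1)
            fun e e' hee => ?_) (by simp)
          simp only at hee
          apply Subtype.ext
          by_cases h1 : (e : G) = 1 <;> by_cases h2 : (e' : G) = 1 <;> simp [h1, h2] at hee
          · rw [h1, h2]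
          · rw [hno _ e.2 h1, hno _ e'.2 h2]
        omega
      have hc := (hE.commute hgE hb).map (MulAut.conj g⁻¹).toMonoidHom
      have e1 : (MulAut.conj g⁻¹).toMonoidHom (g * v₀ * g⁻¹) = v₀ := by simp [mul_assoc]
      rw [e1] at hc
      refine ⟨v₀, (MulAut.conj g⁻¹).toMonoidHom b, hv₀, se_centralizer hHse hv₀ hv₀2 hc.symm, hv₀2,
        (orderOf_injective _ (MulAut.conj g⁻¹).injective b).trans (hE.orderOf_eq hb hb1), fun e => hbne ?_, hc⟩
      exact (MulAut.conj g⁻¹).injective ((e1.trans e).symm)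
    have hD : ModData H X := ⟨hHse, hfaith, hXle, hXn, hXodd, hcomm, hfour⟩
    have hbot : ∀ v, v ∈ H → orderOf v = 2 → th v = ⊥ := by
      intro v hv hv2
      obtain ⟨P', N', hN', hc'⟩ := hI v hv2
      have hN'th : ∀ y ∈ N', (y : G) ∈ th v := fun y hy => (mem_th hI hv2).2
        ⟨mem_centralizer_singleton_iff.1 y.2, by
          rw [orderOf_coe, ← Nat.not_even_iff_odd, even_iff_two_dvd]
          intro h2
          have h3 := h2.trans (Subgroup.orderOf_dvd_natCard N' hy)
          rw [← hc'.index_eq_card] at h3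
          exact P'.not_dvd_index h3⟩
      have hdata : TwoNilp.Data H v P' N' := ⟨hHse, hv, hv2, fun a b ha hb ha2 hb2 => hD.commute_invol ha hb ha2 hb2,
        hN', hc', fun y hy s hs hs2 => hD.commute_core hs hs2 (hWX (hthH v hv hv2 (hN'th y hy)))⟩
      haveI := Fintype.ofFinite G
      have hNbot := hdata.eq_bot
      refine eq_bot_iff.2 fun c hc => mem_bot.2 ?_
      have hP'top : (P' : Subgroup (centralizer ({v} : Set G))) = ⊤ := by
        refine eq_top_of_le_card _ ?_
        rw [← hc'.card_mul, hNbot, Subgroup.card_bot, one_mul]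
      obtain ⟨hcv, hodd⟩ := (mem_th hI hv2).1 hc
      obtain ⟨i, hi⟩ := IsPGroup.iff_orderOf.1 P'.2 ⟨⟨c, mem_centralizer_singleton_iff.2 hcv.eq⟩, hP'top ▸ mem_top _⟩
      rw [Subgroup.orderOf_mk, Subgroup.orderOf_mk] at hi
      rcases i with _ | i
      · exact orderOf_eq_one_iff.1 (hi.trans (pow_zero 2))
      · rw [hi, Nat.odd_pow_iff i.succ_ne_zero] at hodd
        exact absurd hodd (by decide)
    refine hW (eq_bot_iff.2 (iSup_le fun a => ?_))
    have ha2 := hB.el.orderOf_eq a.2.1 a.2.2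
    obtain ⟨g, hg⟩ := isConj_iff.1 (se_isConj hHse hv₀2 ha2)
    intro c hc
    rw [← hg] at hc
    have h1 : g⁻¹ * c * g ∈ th v₀ := by
      refine (th_conj hI (g := g) hv₀2).1 ?_
      simpa [mul_assoc] using hc
    rw [hbot v₀ hv₀ hv₀2, mem_bot] at h1
    rw [mem_bot]
    calc c = g * (g⁻¹ * c * g) * g⁻¹ := by group
      _ = 1 := by rw [h1]; group
  -- the quotient has a simple normal subgroup containing all involutions
  have hns : ¬ Group.IsSolvable (↥H ⧸ O) := by
    intro hs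
    haveI := hs
    have hF : Cfsg.fittingSubgroup (↥H ⧸ O) = ⊥ := by
      rw [Core.fittingSubgroup_eq_iSup_pCore, iSup_eq_bot]
      intro p
      haveI : Fact (p : ℕ).Prime := ⟨p.2⟩
      rcases eq_or_ne (p : ℕ) 2 with e | e
      · rw [e]; exact hP2
      · refine eq_bot_iff.2 (le_trans ?_ hOQ.le)
        refine Core.le_pPrimeCore' inferInstance ?_
        obtain ⟨j, hj⟩ := IsPGroup.iff_card.1 (Core.pCore_isPGroup (p : ℕ) (↥H ⧸ O))
        rw [hj]
        exact Nat.Coprime.pow_left j ((Nat.coprime_primes p.2 Nat.prime_two).2 e)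
    have h1 := Cfsg.Lib.Core.centralizer_fitting_le_of_isSolvable (G := ↥H ⧸ O)
    rw [hF, coe_bot] at h1
    have h2 : π ⟨v₀, hv₀⟩ ∈ (⊥ : Subgroup (↥H ⧸ O)) := h1 (mem_centralizer_iff.2 fun q hq => by
      rw [Set.mem_singleton_iff.1 hq, one_mul, mul_one])
    exact Invol.ne_one hQinv (mem_bot.1 h2)
  obtain ⟨T, hTn, hTs, hTna⟩ := CIT.NonSolv.exists_simple_normal hCIT hns hP2
  haveI := hTn
  haveI := hTs
  obtain ⟨⟨v₁, hv₁T⟩, hv₁⟩ := exists_prime_orderOf_dvd_card' (G := T) 2 (CIT.two_dvd_card hTna)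
  rw [Subgroup.orderOf_mk] at hv₁
  have hallT : ∀ q : ↥H ⧸ O, orderOf q = 2 → q ∈ T := fun q hq => by
    obtain ⟨d, rfl⟩ := isConj_iff.1 (hQconj v₁ q hv₁ hq)
    exact hTn.conj_mem v₁ hv₁T d
  rcases CIT.trichotomy (CIT.ffHolds CIT.tiHolds) (Nat.card T + 1) T hTna (hCIT.subgroup T)
    (Nat.lt_succ_self _) with hTI | hdi | h34
  · -- the preimage of the normaliser of a Sylow subgroup is strongly embedded
    obtain ⟨P⟩ : Nonempty (Sylow 2 T) := inferInstance
    set Q := (P : Subgroup T).map T.subtype with hQ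
    set K := ((normalizer (Q : Set (↥H ⧸ O))).comap π).map H.subtype with hK
    have hKH : K ≤ H := map_subtype_le _
    have hmemK : ∀ g : G, ∀ hg : g ∈ H, g ∈ K ↔ π ⟨g, hg⟩ ∈ normalizer (Q : Set (↥H ⧸ O)) := fun g hg =>
      ⟨fun ⟨a, ha, e⟩ => by
        obtain rfl : a = ⟨g, hg⟩ := Subtype.ext e
        exact ha, fun h => ⟨⟨g, hg⟩, h, rfl⟩⟩
    have hPne : (P : Subgroup T) ≠ ⊥ := P.ne_bot_of_dvd_card (CIT.two_dvd_card hTna)
    have hKne : K ≠ H := by
      intro e
      have htop : normalizer (Q : Set (↥H ⧸ O)) = ⊤ := eq_top_iff.2 fun q _ => by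
        obtain ⟨a, rfl⟩ := hπs q
        exact (hmemK a a.2).1 (by rw [e]; exact a.2)
      have hQn : Q.Normal := normalizer_eq_top_iff.1 htop
      have h1 := Core.le_pCore' hQn (P.2.map T.subtype)
      rw [hP2, le_bot_iff] at h1
      exact hPne ((map_eq_bot_iff_of_injective _ T.subtype_injective).1 h1)
    have hKse : IsStronglyEmbedded K := by
      refine (stronglyEmbedded_iff (fun e => hHse.1 (top_le_iff.1 (e ▸ hKH))) ?_).2 fun v hv hv2 g hg => ?_
      · obtain ⟨z, -, -, hz⟩ := PGroup.exists_mem_center_orderOf_eq (G := (P : Subgroup T)) P.2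
          (N := (⊤ : Subgroup (P : Subgroup T))) (by
            haveI : Nontrivial (P : Subgroup T) := (nontrivial_iff_ne_bot _).mpr hPne
            exact top_ne_bot)
        obtain ⟨a, ha, haz⟩ := exists_lift_involution hO2 (q := (((z : T)) : ↥H ⧸ O))
          (by rw [orderOf_coe, orderOf_coe, hz])
        rw [even_iff_two_dvd, ← ha, ← orderOf_coe]
        refine Subgroup.orderOf_dvd_natCard K ((hmemK (a : G) a.2).2 ?_)
        show π a ∈ _
        rw [show π a = _ from haz]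
        exact le_normalizer ⟨(z : T), z.2, rfl⟩
      · have hgH : g ∈ H := se_mem hHse (hKH hv) hv2 (hKH hg)
        refine (hmemK g hgH).2 ?_
        set d := π ⟨g, hgH⟩
        set q := π ⟨v, hKH hv⟩ with hq
        have hqne : q ≠ 1 := fun e => by
          rw [hq, hπ, QuotientGroup.mk'_apply, QuotientGroup.eq_one_iff, ← hXsub, mem_subgroupOf] at e
          exact Nat.not_even_iff_odd.2 hXodd (even_iff_two_dvd.2 (hv2 ▸ Subgroup.orderOf_dvd_natCard X e))
        have hq2 : orderOf q = 2 := orderOf_eq_two_of hqne (by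
          rw [hq, ← map_mul, ← map_one π]; exact congrArg π (Subtype.ext (Invol.inv_mul_self hv2)))
        have hqP : ∀ r : ↥H ⧸ O, orderOf r = 2 → r ∈ normalizer (Q : Set (↥H ⧸ O)) → r ∈ Q := by
          intro r hr2 hrn
          refine ⟨⟨r, hallT r hr2⟩, mem_sylow_of_normalizes P (Subtype.ext (Invol.inv_mul_self hr2)) ?_, rfl⟩
          refine mem_normalizer_fintype fun y hy => ?_
          obtain ⟨y', hy', e⟩ := (mem_normalizer_iff.1 hrn (y : ↥H ⧸ O)).1 ⟨y, hy, rfl⟩
          obtain rfl : y' = ⟨r, hallT r hr2⟩ * y * ⟨r, hallT r hr2⟩⁻¹ := Subtype.ext e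
          exact hy'
        have h1 : q ∈ Q := hqP q hq2 ((hmemK v (hKH hv)).1 hv)
        have h2 : d * q * d⁻¹ ∈ Q := by
          refine hqP _ (by rw [orderOf_conj_eq, hq2]) ?_
          have := (hmemK _ (hKH hg)).1 hg
          have he : d * q * d⁻¹ = π ⟨g * v * g⁻¹, hKH hg⟩ := by
            rw [show (⟨g * v * g⁻¹, hKH hg⟩ : H) = ⟨g, hgH⟩ * ⟨v, hKH hv⟩ * ⟨g, hgH⟩⁻¹ from Subtype.ext rfl,
              map_mul, map_mul, map_inv]
          rw [he]; exact this
        -- two conjugates sharing an involution are equal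
        let φ : T ≃* T := MulAut.conjNormal d
        let P' : Sylow 2 T := Sylow.ofCard ((P : Subgroup T).map φ.toMonoidHom)
          ((card_map_of_injective (f := φ.toMonoidHom) φ.injective).trans P.card_eq_multiplicity)
        have hP' : P = P' := by
          by_contra hne
          have hbot := hTI P P' hne
          obtain ⟨y, hy, e⟩ := h2
          obtain ⟨w, hw, ew⟩ := h1
          have : y ∈ (P : Subgroup T) ⊓ (P' : Subgroup T) := ⟨hy, ⟨w, hw, Subtype.ext (by
            show (MulAut.conjNormal d w : ↥H ⧸ O) = (y : ↥H ⧸ O)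
            rw [MulAut.conjNormal_apply]
            exact (congrArg (fun x => d * x * d⁻¹) ew).trans e.symm)⟩⟩
          rw [hbot, mem_bot] at this
          have h3 : d * q * d⁻¹ = 1 := by rw [← e, this]; rfl
          exact hqne (by simpa using h3)
        refine mem_normalizer_fintype ?_
        rintro _ ⟨y, hy, rfl⟩
        refine ⟨φ y, ?_, MulAut.conjNormal_apply d y⟩
        rw [hP']
        exact ⟨y, hy, rfl⟩
    exact hKne (le_antisymm hKH (hH.2 ⟨hKse, hKH.trans hHM⟩ hKH))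
  · -- dihedral Sylow subgroups have rank two
    obtain ⟨g, E, hES, hE, hE8, hgE⟩ := hB.exists_covered hna hr hv₀2
    set E' := E.map (MulAut.conj g⁻¹).toMonoidHom with hE'
    have hE'el : El E' := hE.map _
    have hE'8 : 8 ≤ Nat.card E' := by
      rw [hE', card_map_of_injective (f := (MulAut.conj g⁻¹).toMonoidHom) (MulAut.conj g⁻¹).injective]; exact hE8
    have hv₀E : v₀ ∈ E' := ⟨_, hgE, by simp [mul_assoc]⟩
    have hE'H : E' ≤ H := fun e he => se_centralizer hHse hv₀ hv₀2 (hE'el.commute he hv₀E)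
    set A := (E'.subgroupOf H).map π with hA
    have hA2 : ∀ a ∈ A, a * a = 1 := by
      rintro _ ⟨e, he, rfl⟩
      rw [← map_mul, ← map_one π]
      exact congrArg π (Subtype.ext (hE'el _ he))
    have hAT : A ≤ T := fun a ha => by
      rcases eq_or_ne a 1 with rfl | hne
      · exact one_mem _
      · exact hallT a (orderOf_eq_two_of hne (hA2 a ha))
    have hAc : Nat.card A = Nat.card E' := by
      rw [← Nat.card_congr (subgroupOfEquivOfLe hE'H).toEquiv]
      refine (Nat.card_congr (Equiv.ofBijective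
        (fun e : E'.subgroupOf H => (⟨π e, mem_map_of_mem π e.2⟩ : A)) ⟨fun a b hab => ?_, ?_⟩)).symm
      · have h1 : π a = π b := congrArg Subtype.val hab
        have h2 : (a : H)⁻¹ * b ∈ O := QuotientGroup.eq.1 h1
        have h3 : ((a : H)⁻¹ * b : H) ∈ E'.subgroupOf H := mul_mem (inv_mem a.2) b.2
        by_contra hne
        have h4 : orderOf ((((a : H)⁻¹ * b : H)) : G) = 2 := hE'el.orderOf_eq h3 fun e => hne
          (Subtype.ext (inv_mul_eq_one.1 (Subtype.ext e)))
        rw [orderOf_coe] at h4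
        exact hO2 (h4 ▸ Subgroup.orderOf_dvd_natCard O h2)
      · rintro ⟨_, e, he, rfl⟩
        exact ⟨⟨e, he⟩, rfl⟩
    have hA2' : IsPGroup 2 (A.subgroupOf T) := fun a => ⟨1, Subtype.ext (Subtype.ext (by
      rw [pow_one]; simpa [pow_two] using hA2 _ (mem_subgroupOf.1 a.2)))⟩
    obtain ⟨P, hP⟩ := hA2'.exists_le_sylow
    obtain ⟨k, -, ⟨e⟩⟩ := hdi P
    have h1 := Cfsg.Lib.StrongEmb.rankLE_two_of_dihedral e ((A.subgroupOf T).subgroupOf P)
      ⟨⟨fun x y => Subtype.ext (Subtype.ext (Subtype.ext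
        ((show El A from hA2).commute (mem_subgroupOf.1 (mem_subgroupOf.1 x.2))
          (mem_subgroupOf.1 (mem_subgroupOf.1 y.2))).eq))⟩⟩
      (fun a ha => Subtype.ext (Subtype.ext (by
        simpa [pow_two] using hA2 _ (mem_subgroupOf.1 (mem_subgroupOf.1 ha)))))
    rw [Nat.card_congr (subgroupOfEquivOfLe hP).toEquiv, Nat.card_congr (subgroupOfEquivOfLe hAT).toEquiv, hAc] at h1
    omega
  · -- `PSL₃(4)`
    have hTtop : T = ⊤ := CIT.CNStruct.eq_top_of_psl_three_four hCIT h34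
    obtain ⟨F, _, _, hF, ⟨e⟩⟩ := h34
    subst hTtop
    exact LThreeFour.false_of_psl34 hHse hfaith hXle hXn hXodd hcore π hF
      (topEquiv.symm.trans e) hπs (by rw [hπ, QuotientGroup.ker_mk', hXsub])

end Cfsg.Lib.StrongEmb.Cover
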