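import Cfsg.Agent.Lib.StrongEmb.Geometry
import Cfsg.Agent.Lib.Invol.IsolatedSylow

/-!
Bender's transitivity theorem for a prime at which every orbital is good.
-/

set_option autoImplicit false
set_option linter.style.haveILetI false
set_option linter.unusedSectionVars false

namespace Cfsg.Lib.StrongEmb

open Subgroup Cfsg Cfsg.Lib.Invol MulAction

variable {G : Type*} [Group G] [Finite G] {H : Subgroup G}

/-- The `p`-part of the number of involutions of `H`. -/
noncomputable def kPart (H : Subgroup G) (p : ℕ) : ℕ := p ^ (kInv H).factorization p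

/-- A prime at which no involution inverts a full `p`-part inside the stabilizer of its centre. -/
def GoodPrime (H : Subgroup G) (p : ℕ) : Prop :=
  ∀ (x : G ⧸ H) (w : G) (P : Subgroup G), orderOf w = 2 → w • x = x → IsPGroup p P →
    P ≤ stabilizer G x → w ∈ normalizer (P : Set G) → (invSet w P).ncard < kPart H p

/-- An invariant Sylow subgroup of a two-point stabilizer. -/
structure Frame (H : Subgroup G) (p : ℕ) (a b : G ⧸ H) (w : G) (P : Subgroup G) : Prop where
  ne : a ≠ b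
  invol : orderOf w = 2
  swap : w • a = b
  syl : IsSyl p (stabilizer G a ⊓ stabilizer G b) P
  norm : w ∈ normalizer (P : Set G)

/-- A prime at which the centre of no frame is fixed. -/
def FrameGood (H : Subgroup G) (p : ℕ) : Prop :=
  ∀ (a b : G ⧸ H) (w : G) (P : Subgroup G) (δ : G ⧸ H), Frame H p a b w P → w • δ = δ →
    ¬ P ≤ stabilizer G δ

variable {p : ℕ} [hp : Fact p.Prime] (hH : IsStronglyEmbedded H)
include hH

theorem Frame.ncard {a b : G ⧸ H} {w : G} {P : Subgroup G} (F : Frame H p a b w P) :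
    (invSet w P).ncard = kPart H p := by
  rw [ncard_invSet_syl F.invol (swapper_norm F.invol F.swap) (odd_two hH F.ne) F.syl F.norm,
    ncard_invSet_two hH F.ne F.invol F.swap, kPart]

theorem exists_frame {a b : G ⧸ H} (hab : a ≠ b) : ∃ w P, Frame H p a b w P := by
  obtain ⟨w, hw, hwab⟩ := exists_swapper hH hab
  obtain ⟨P, hP, -, hPn⟩ := exists_invariant_isSyl (p := p) hw (swapper_norm hw hwab) (odd_two hH hab) ⊥
    IsPGroup.of_bot bot_le (by rw [normalizer_eq_top]; trivial)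
  exact ⟨w, P, hab, hw, hwab, hP, hPn⟩

/-- An invariant Sylow subgroup of a two-point stabilizer is swapped inside its normalizer. -/
theorem exists_swapper_norm {a b : G ⧸ H} (hab : a ≠ b) {P : Subgroup G}
    (hP : IsSyl p (stabilizer G a ⊓ stabilizer G b) P) : ∃ v, Frame H p a b v P := by
  obtain ⟨w, P', F⟩ := exists_frame (p := p) hH hab
  obtain ⟨g, hg, e⟩ := F.syl.exists_conj hP
  obtain ⟨hga, hgb⟩ := Subgroup.mem_inf.1 hg
  refine ⟨g * w * g⁻¹, hab, by rw [Invol.orderOf_conj_eq, F.invol], ?_, hP, ?_⟩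
  · rw [mul_smul, mul_smul, inv_smul_eq_iff.2 (mem_stabilizer_iff.1 hga).symm, F.swap]
    exact hgb
  · rw [e]
    exact le_normalizer_map (MulAut.conj g).toMonoidHom ⟨w, F.norm, rfl⟩

theorem GoodPrime.frameGood (hgood : GoodPrime H p) : FrameGood H p := fun _ _ w P δ F hδ h =>
  (hgood δ w P F.invol hδ F.syl.isPGroup h F.norm).ne (F.ncard hH)

theorem Frame.centre_moved (hgood : FrameGood H p) {a b : G ⧸ H} {w : G} {P : Subgroup G}
    (F : Frame H p a b w P) {δ : G ⧸ H} (hδ : w • δ = δ) : ¬ P ≤ stabilizer G δ :=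
  hgood a b w P δ F hδ

theorem Frame.odd {a b : G ⧸ H} {w : G} {P : Subgroup G} (F : Frame H p a b w P) :
    Odd (Nat.card P) := (odd_two hH F.ne).of_dvd_nat (card_dvd_of_le F.syl.1)

theorem odd_of_good (hgood : FrameGood H p) : Odd p := by
  refine hp.out.odd_of_ne_two ?_
  rintro rfl
  obtain ⟨y, hy⟩ := exists_ne hH (QuotientGroup.mk 1)
  obtain ⟨w, P, F⟩ := exists_frame (p := 2) hH hy
  obtain ⟨δ, hδ⟩ := exists_fix hH F.invol
  obtain ⟨n, hn⟩ := IsPGroup.iff_card.1 F.syl.isPGroup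
  rcases n with _ | n
  · exact F.centre_moved hH hgood hδ (by rw [Subgroup.eq_bot_of_card_eq P (hn.trans (pow_zero 2))]; exact bot_le)
  · exact Nat.not_even_iff_odd.mpr (F.odd hH) (even_iff_two_dvd.mpr (hn ▸ dvd_pow_self 2 n.succ_ne_zero))

omit hH in
/-- A `p`-element permuting two points fixes both. -/
theorem fix_of_perm (hpodd : Odd p) {R : Subgroup G} (hR : IsPGroup p R) {y : G} (hy : y ∈ R)
    {a b : G ⧸ H} (hab : a ≠ b) (ha : y • a = a ∨ y • a = b) (hb : y • b = a ∨ y • b = b) :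
    y • a = a ∧ y • b = b := by
  have hfa : y • a = a := by
    refine ha.resolve_right fun e => ?_
    have e' : y • b = a := hb.resolve_right fun e' => hab (MulAction.injective y (e.trans e'.symm))
    obtain ⟨n, hn⟩ := hR ⟨y, hy⟩
    obtain ⟨i, hi⟩ := (hpodd.pow (n := n)).of_dvd_nat
      (orderOf_dvd_of_pow_eq_one (x := y) (n := p ^ n) (by simpa using congrArg Subtype.val hn))
    have h1 : ∀ j : ℕ, ((y * y) ^ j) • a = a := fun j => by
      induction j with
      | zero => rw [pow_zero, one_smul]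
      | succ j ih => rw [pow_succ, mul_smul, mul_smul, e, e', ih]
    have h3 := h1 (i + 1)
    rw [← pow_two, ← pow_mul, show 2 * (i + 1) = orderOf y + 1 by omega, pow_succ,
      pow_orderOf_eq_one, one_mul, e] at h3
    exact hab h3.symm
  exact ⟨hfa, hb.resolve_left fun e => hab (MulAction.injective y (hfa.trans e.symm))⟩

/-- Some two-point Sylow subgroup fixes exactly two points. -/
theorem exists_two_fixed (hgood : FrameGood H p) :
    ∃ a b w P, Frame H p a b w P ∧ ∀ c : G ⧸ H, P ≤ stabilizer G c → c = a ∨ c = b := by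
  classical
  haveI : Fintype (G ⧸ H) := Fintype.ofFinite _
  obtain ⟨y, hy⟩ := exists_ne hH (QuotientGroup.mk 1)
  haveI : Nonempty {q : (G ⧸ H) × (G ⧸ H) // q.1 ≠ q.2} := ⟨⟨(y, QuotientGroup.mk 1), hy⟩⟩
  obtain ⟨⟨⟨a, b⟩, hab⟩, hmax⟩ := Finite.exists_max fun q : {q : (G ⧸ H) × (G ⧸ H) // q.1 ≠ q.2} =>
    p ^ (Nat.card ↥(stabilizer G q.1.1 ⊓ stabilizer G q.1.2)).factorization p
  obtain ⟨w, P, F⟩ := exists_frame (p := p) hH hab
  refine ⟨a, b, w, P, F, fun c hc => ?_⟩
  obtain ⟨δ, hδ⟩ := exists_fix hH F.invol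
  have h2 := two_points hH F.invol hδ (F.odd hH) F.norm (F.centre_moved hH hgood hδ)
    (le_trans F.syl.1 inf_le_left) (fun c d hc hd hcd => by
      have hsyl : IsSyl p (stabilizer G c ⊓ stabilizer G d) P := by
        refine ⟨le_inf hc hd, le_antisymm (card_le_of_le F.syl.isPGroup (le_inf hc hd)) ?_⟩
        rw [F.syl.2]; exact hmax ⟨(c, d), hcd⟩
      obtain ⟨v, F'⟩ := exists_swapper_norm hH hcd hsyl
      exact ⟨v, F'.invol, F'.norm, F'.swap⟩) c hc
  rwa [F.swap] at h2

/-- If an invariant Sylow subgroup fixes only two points, so does every conjugate one. -/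
theorem two_fixed_all {a b : G ⧸ H} {w : G} {P P' : Subgroup G} (F : Frame H p a b w P)
    (h2 : ∀ c : G ⧸ H, P ≤ stabilizer G c → c = a ∨ c = b)
    (hP' : IsSyl p (stabilizer G a ⊓ stabilizer G b) P') :
    ∀ c : G ⧸ H, P' ≤ stabilizer G c → c = a ∨ c = b := by
  intro c hc
  obtain ⟨g, hg, e⟩ := F.syl.exists_conj hP'
  obtain ⟨hga, hgb⟩ := Subgroup.mem_inf.1 hg
  have h := h2 (g⁻¹ • c) (fun y hy => by
    rw [mem_stabilizer_iff]
    have h1 : (g * y * g⁻¹) • c = c := hc (e ▸ ⟨y, hy, rfl⟩)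
    rw [eq_inv_smul_iff, ← mul_smul, ← mul_smul]; exact h1)
  rcases h with h | h <;> rw [inv_smul_eq_iff] at h
  · exact Or.inl (h.trans hga)
  · exact Or.inr (h.trans hgb)

/-- A subgroup with the full `p`-part of inverted elements fixes only two points. -/
theorem two_fixed_sub (hgood : FrameGood H p) {a b : G ⧸ H} {w : G} {P₀ : Subgroup G}
    (F : Frame H p a b w P₀) (h2 : ∀ c : G ⧸ H, P₀ ≤ stabilizer G c → c = a ∨ c = b)
    (T : Subgroup G) (hT : IsPGroup p T) (hTD : T ≤ stabilizer G a ⊓ stabilizer G b)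
    (hn : w ∈ normalizer (T : Set G)) (hk : kPart H p ≤ (invSet w T).ncard) :
    ∀ c : G ⧸ H, T ≤ stabilizer G c → c = a ∨ c = b := by
  induction hm : Nat.card G - Nat.card T using Nat.strong_induction_on generalizing T with
  | _ m IH =>
  have hDodd := odd_two hH F.ne
  have hDn := swapper_norm F.invol F.swap
  obtain ⟨P', hP', hTP', hP'n⟩ := exists_invariant_isSyl (p := p) F.invol hDn hDodd T hT hTD hn
  have h2' := two_fixed_all hH F h2 hP'
  intro c hc
  by_contra hcab
  have hTne : T ≠ P' := fun e => hcab (h2' c (e ▸ hc))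
  have F' : Frame H p a b w P' := ⟨F.ne, F.invol, F.swap, hP', hP'n⟩
  have hinv : invSet w P' = invSet w T :=
    (Set.eq_of_subset_of_ncard_le (invSet_mono hTP') ((F'.ncard hH).trans_le hk) (Set.toFinite _)).symm
  have hTodd : Odd (Nat.card T) := hDodd.of_dvd_nat (card_dvd_of_le hTD)
  obtain ⟨δ, hδ⟩ := exists_fix hH F.invol
  have hmove : ¬ T ≤ stabilizer G δ := fun h => F'.centre_moved hH hgood hδ (fun y hy => by
    obtain ⟨j, hj, z, hz, rfl⟩ := exists_inv_mul_cent F.invol hP'n (F'.odd hH) hy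
    exact mul_mem (h (hinv ▸ hj : j ∈ invSet w T).1)
      (mem_stabilizer_iff.2 (smul_eq_of_commute hH F.invol hδ hz)))
  -- a subgroup between `T` and an invariant Sylow subgroup fixes two points
  have up : ∀ T' P'' : Subgroup G, T < T' → T' ≤ P'' →
      IsSyl p (stabilizer G a ⊓ stabilizer G b) P'' → w ∈ normalizer (P'' : Set G) →
      ∀ d : G ⧸ H, T' ≤ stabilizer G d → d = a ∨ d = b := by
    intro T' P'' hlt hle hP'' hP''n
    have hsub : invSet w P'' = invSet w T :=
      (Set.eq_of_subset_of_ncard_le (invSet_mono (hlt.le.trans hle))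
        ((Frame.ncard hH ⟨F.ne, F.invol, F.swap, hP'', hP''n⟩).trans_le hk) (Set.toFinite _)).symm
    have hT'n : w ∈ normalizer (T' : Set G) := mem_normalizer_fintype fun y hy => by
      have h1 : y * w * y⁻¹ * w⁻¹ ∈ invSet w T := hsub ▸ twist_mem F.invol hP''n (hle hy)
      rw [show w * y * w⁻¹ = (y * w * y⁻¹ * w⁻¹)⁻¹ * y by group]
      exact mul_mem (inv_mem (hlt.le h1.1)) hy
    refine IH _ ?_ T' (hP''.isPGroup.to_le hle) (hle.trans hP''.1) hT'n
      (hk.trans (Set.ncard_le_ncard (invSet_mono hlt.le) (Set.toFinite _))) rfl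
    have h1 : Nat.card T < Nat.card T' :=
      lt_of_not_ge fun h => hlt.ne (Subgroup.eq_of_le_of_card_ge hlt.le h)
    have h2 : Nat.card T' ≤ Nat.card G := Nat.card_le_card_of_injective _ Subtype.val_injective
    omega
  -- an invariant Sylow subgroup of the normalizer inside the two-point stabilizer
  set L := normalizer (T : Set G)
  set K := stabilizer G a ⊓ stabilizer G b ⊓ L
  have hKn : w ∈ normalizer (K : Set G) := inf_normalizer_le_normalizer_inf ⟨hDn, le_normalizer hn⟩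
  have hNlt := Cfsg.Lib.FusionSys.lt_inf_normalizer_self hP'.isPGroup (lt_of_le_of_ne hTP' hTne)
  obtain ⟨S₀, hS₀, hNS₀, hS₀n⟩ := exists_invariant_isSyl (p := p) F.invol hKn
    (hDodd.of_dvd_nat (card_dvd_of_le inf_le_left)) (P' ⊓ L) (hP'.isPGroup.to_le inf_le_left)
    (le_inf (inf_le_left.trans hP'.1) inf_le_right)
    (inf_normalizer_le_normalizer_inf ⟨hP'n, le_normalizer hn⟩)
  obtain ⟨P'', hP'', hS₀P'', hP''n⟩ := exists_invariant_isSyl (p := p) F.invol hDn hDodd S₀
    hS₀.isPGroup (hS₀.1.trans inf_le_left) hS₀n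
  have hTS₀ : T < S₀ := lt_of_lt_of_le hNlt hNS₀
  have hfS₀ := up S₀ P'' hTS₀ hS₀P'' hP'' hP''n
  -- it is a Sylow subgroup of the normalizer
  have hS₀L : IsSyl p L S₀ := by
    obtain ⟨R, hR, hSR⟩ := exists_isSyl (K := L) S₀ hS₀.isPGroup (hS₀.1.trans inf_le_right)
    rcases hSR.eq_or_lt with e | hlt
    · exact e ▸ hR
    exfalso
    have h1 := Cfsg.Lib.FusionSys.lt_inf_normalizer_self hR.isPGroup hlt
    refine h1.ne (hS₀.eq_of_le (hR.isPGroup.to_le inf_le_left) ?_ h1.le).symm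
    intro y hy
    obtain ⟨hyR, hyN⟩ := Subgroup.mem_inf.1 hy
    have hperm : ∀ d : G ⧸ H, S₀ ≤ stabilizer G d → y • d = a ∨ y • d = b := fun d hd =>
      hfS₀ _ fun s hs => by
        rw [mem_stabilizer_iff, ← mul_smul, show s * y = y * (y⁻¹ * s * y) by group, mul_smul,
          (hd (by simpa [mul_assoc] using conj_mem_of_norm (inv_mem hyN) hs) : (y⁻¹ * s * y) • d = d)]
    have hSa : S₀ ≤ stabilizer G a := hS₀.1.trans (inf_le_left.trans inf_le_left)
    have hSb : S₀ ≤ stabilizer G b := hS₀.1.trans (inf_le_left.trans inf_le_right)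
    obtain ⟨hfa, hfb⟩ := fix_of_perm (odd_of_good hH hgood) hR.isPGroup hyR F.ne (hperm a hSa) (hperm b hSb)
    exact Subgroup.mem_inf.2 ⟨Subgroup.mem_inf.2 ⟨hfa, hfb⟩, hR.1 hyR⟩
  refine hcab ?_
  have h3 := two_points hH F.invol hδ hTodd hn hmove (le_trans hTD inf_le_left) (fun c d hc hd hcd => ?_) c hc
  · rwa [F.swap] at h3
  obtain ⟨S, hS, hTS⟩ := exists_isSyl (K := stabilizer G c ⊓ stabilizer G d) T hT (le_inf hc hd)
  rcases hTS.eq_or_lt with e | hlt
  · obtain ⟨v, Fv⟩ := exists_swapper_norm hH hcd (e ▸ hS : IsSyl p _ T)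
    exact ⟨v, Fv.invol, Fv.norm, Fv.swap⟩
  set T₁ := S ⊓ L
  have hT₁ := Cfsg.Lib.FusionSys.lt_inf_normalizer_self hS.isPGroup hlt
  obtain ⟨R, hR, hT₁R⟩ := exists_isSyl (K := L) T₁ (hS.isPGroup.to_le inf_le_left) inf_le_right
  obtain ⟨l, hl, e⟩ := hR.exists_conj hS₀L
  set T₂ := T₁.map (MulAut.conj l).toMonoidHom
  have hT₂ : T < T₂ := by
    refine lt_of_le_of_ne (fun y hy => ?_) fun e' => ?_
    · exact ⟨l⁻¹ * y * l, hT₁.le (by simpa [mul_assoc] using conj_mem_of_norm (inv_mem hl) hy),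
        by show l * (l⁻¹ * y * l) * l⁻¹ = y; group⟩
    · refine hT₁.ne (Subgroup.eq_of_le_of_card_ge hT₁.le ?_)
      exact (Coprime.card_map_conj T₁ l).symm.trans_le (le_of_eq (congrArg (fun K : Subgroup G => Nat.card K) e'.symm))
  have h4 : T₂ ≤ P'' := (Subgroup.map_mono hT₁R).trans (e ▸ hS₀P'')
  have hfix : ∀ z : G ⧸ H, T₁ ≤ stabilizer G z → T₂ ≤ stabilizer G (l • z) := by
    rintro z hz _ ⟨y, hy, rfl⟩
    show (l * y * l⁻¹) • l • z = l • z
    rw [mul_smul, inv_smul_smul, mul_smul, (hz hy : y • z = z)]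
  have hlc := up T₂ P'' hT₂ h4 hP'' hP''n _ (hfix c ((inf_le_left.trans hS.1).trans inf_le_left))
  have hld := up T₂ P'' hT₂ h4 hP'' hP''n _ (hfix d ((inf_le_left.trans hS.1).trans inf_le_right))
  refine ⟨l⁻¹ * w * l, ?_, mul_mem (mul_mem (inv_mem hl) hn) hl, ?_⟩
  · rw [show l⁻¹ * w * l = l⁻¹ * w * l⁻¹⁻¹ by group, Invol.orderOf_conj_eq, F.invol]
  · rw [mul_smul, mul_smul, inv_smul_eq_iff]
    rcases hlc with e1 | e1 <;> rcases hld with e2 | e2
    · exact absurd (MulAction.injective l (e1.trans e2.symm)) hcd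
    · rw [e1, e2, F.swap]
    · rw [e1, e2, swap_back F.invol F.swap]
    · exact absurd (MulAction.injective l (e1.trans e2.symm)) hcd

/-- Bender's transitivity theorem at a good prime. -/
theorem pretransitive_of_good (hgood : FrameGood H p) {c d c' d' : G ⧸ H} (hcd : c ≠ d)
    (hcd' : c' ≠ d') : ∃ g : G, g • c = c' ∧ g • d = d' := by
  obtain ⟨a, b, w, P, F, h2⟩ := exists_two_fixed hH hgood
  suffices key : ∀ c d : G ⧸ H, c ≠ d → ∃ g : G, g • a = c ∧ g • b = d by
    obtain ⟨g, hga, hgb⟩ := key c d hcd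
    obtain ⟨g', hga', hgb'⟩ := key c' d' hcd'
    exact ⟨g' * g⁻¹, by rw [mul_smul, inv_smul_eq_iff.2 hga.symm, hga'],
      by rw [mul_smul, inv_smul_eq_iff.2 hgb.symm, hgb']⟩
  intro c d hcd
  obtain ⟨v, Q, FQ⟩ := exists_frame (p := p) hH hcd
  obtain ⟨γ, hγ⟩ := exists_fix hH FQ.invol
  -- a maximal invariant subgroup over `Q` is a Sylow subgroup
  obtain ⟨R, ⟨⟨hR, hvR, hQR⟩, hmax⟩⟩ :=
    (Set.toFinite {R : Subgroup G | IsPGroup p R ∧ v ∈ normalizer (R : Set G) ∧ Q ≤ R}).exists_maximal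
      ⟨Q, FQ.syl.isPGroup, FQ.norm, le_rfl⟩
  have hmove : ¬ R ≤ stabilizer G γ := fun h => FQ.centre_moved hH hgood hγ (hQR.trans h)
  have hRodd : Odd (Nat.card R) := by
    obtain ⟨n, hn⟩ := IsPGroup.iff_card.1 hR
    rcases hp.out.eq_two_or_odd' with rfl | hodd
    · exfalso
      have hQ : Nat.card Q = 1 := by
        obtain ⟨i, hi⟩ := IsPGroup.iff_card.1 FQ.syl.isPGroup
        rcases i with _ | i
        · exact hi.trans (pow_zero 2)
        · exact absurd (even_iff_two_dvd.mpr (hi ▸ dvd_pow_self 2 i.succ_ne_zero))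
            (Nat.not_even_iff_odd.mpr (FQ.odd hH))
      exact FQ.centre_moved hH hgood hγ (by rw [Subgroup.eq_bot_of_card_eq Q hQ]; exact bot_le)
    · rw [hn]; exact hodd.pow
  set L := normalizer (R : Set G)
  obtain ⟨S, hS⟩ := maximal_invariant_sylow (isolated_normalizer hH FQ.invol hγ hRodd hvR hmove)
    (R.subgroupOf L) (hR.comap_subtype (K := L))
    (by
      haveI : (R.subgroupOf L).Normal := (normal_subgroupOf_iff_le_normalizer le_normalizer).mpr le_rfl
      exact (normalizer_eq_top (R.subgroupOf L)).ge (mem_top _))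
    (fun R' hR' hn' hle => by
      have h1 : R ≤ R'.map L.subtype := fun y hy => ⟨⟨y, le_normalizer hy⟩, hle hy, rfl⟩
      have h2 : R'.map L.subtype ≤ R := hmax ⟨hR'.map _,
        le_normalizer_map L.subtype ⟨_, hn', rfl⟩, hQR.trans h1⟩ h1
      refine le_antisymm (fun y hy => h2 ⟨y, hy, rfl⟩) hle)
  obtain ⟨Rs, hRs⟩ := hR.exists_le_sylow
  have hReq : R = (Rs : Subgroup G) := by
    rcases hRs.eq_or_lt with e | hlt
    · exact e
    exfalso
    have h1 := Cfsg.Lib.FusionSys.lt_inf_normalizer_self Rs.isPGroup' hlt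
    refine h1.ne (Subgroup.eq_of_le_of_card_ge h1.le ?_)
    calc Nat.card ↥((Rs : Subgroup G) ⊓ L) ≤ p ^ (Nat.card L).factorization p :=
          card_le_of_le (Rs.isPGroup'.to_le inf_le_left) inf_le_right
      _ = Nat.card (S : Subgroup L) := S.card_eq_multiplicity.symm
      _ = _ := by rw [hS]; exact Nat.card_congr (subgroupOfEquivOfLe le_normalizer).toEquiv
  -- `P` is a Sylow subgroup of `G`
  obtain ⟨Ps, hPs⟩ := F.syl.isPGroup.exists_le_sylow
  have hPeq : P = (Ps : Subgroup G) := by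
    rcases hPs.eq_or_lt with e | hlt
    · exact e
    exfalso
    have h1 := Cfsg.Lib.FusionSys.lt_inf_normalizer_self Ps.isPGroup' hlt
    refine h1.ne (F.syl.eq_of_le (Ps.isPGroup'.to_le inf_le_left) ?_ h1.le).symm
    intro y hy
    obtain ⟨hyP, hyN⟩ := Subgroup.mem_inf.1 hy
    have hperm : ∀ z : G ⧸ H, P ≤ stabilizer G z → y • z = a ∨ y • z = b := fun z hz =>
      h2 _ fun s hs => by
        rw [mem_stabilizer_iff, ← mul_smul, show s * y = y * (y⁻¹ * s * y) by group, mul_smul,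
          (hz (by simpa [mul_assoc] using conj_mem_of_norm (inv_mem hyN) hs) : (y⁻¹ * s * y) • z = z)]
    obtain ⟨hfa, hfb⟩ := fix_of_perm (odd_of_good hH hgood) Ps.isPGroup' hyP F.ne
      (hperm a (le_trans F.syl.1 inf_le_left)) (hperm b (le_trans F.syl.1 inf_le_right))
    exact Subgroup.mem_inf.2 ⟨hfa, hfb⟩
  obtain ⟨g, hg⟩ := MulAction.exists_smul_eq G Ps Rs
  have hconj : R = P.map (MulAut.conj g).toMonoidHom := by
    rw [hReq, hPeq, ← hg]; rfl
  have hfixR : ∀ z : G ⧸ H, R ≤ stabilizer G z → z = g • a ∨ z = g • b := by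
    intro z hz
    rcases h2 (g⁻¹ • z) (fun y hy => by
      rw [mem_stabilizer_iff, eq_inv_smul_iff, ← mul_smul, ← mul_smul]
      exact hz (hconj ▸ ⟨y, hy, rfl⟩)) with e | e <;> rw [inv_smul_eq_iff] at e
    exacts [Or.inl e, Or.inr e]
  have hRga : R ≤ stabilizer G (g • a) ⊓ stabilizer G (g • b) := by
    rw [hconj]
    rintro _ ⟨y, hy, rfl⟩
    obtain ⟨hya, hyb⟩ := Subgroup.mem_inf.1 (F.syl.1 hy)
    rw [mem_stabilizer_iff] at hya hyb
    refine Subgroup.mem_inf.2 ⟨?_, ?_⟩ <;> rw [mem_stabilizer_iff] <;>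
      show (g * y * g⁻¹) • g • _ = _
    · rw [mul_smul, inv_smul_smul, mul_smul, hya]
    · rw [mul_smul, inv_smul_smul, mul_smul, hyb]
  have hvfix : R ≤ stabilizer G (v • (g • a)) := fun y hy => by
    rw [mem_stabilizer_iff, ← mul_smul, show y * v = v * (v⁻¹ * y * v) by group, mul_smul,
      ((Subgroup.mem_inf.1 (hRga (by simpa [mul_assoc] using conj_mem_of_norm (inv_mem hvR) hy))).1 :
        (v⁻¹ * y * v) • (g • a) = g • a)]
  have hne : g • a ≠ g • b := fun e => F.ne (MulAction.injective g e)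
  have hvsw : v • (g • a) = g • b := by
    rcases hfixR _ hvfix with e | e
    · exact absurd ((le_trans hRga inf_le_left).trans (le_of_eq
        (by rw [se_fixed_unique hH FQ.invol e hγ]))) hmove
    · exact e
  have F₁ : Frame H p (g • a) (g • b) v R := by
    refine ⟨hne, FQ.invol, hvsw, ⟨hRga, le_antisymm (card_le_of_le hR hRga) ?_⟩, hvR⟩
    rw [hReq, Rs.card_eq_multiplicity]
    refine Nat.pow_le_pow_right hp.out.pos ?_
    exact (Nat.factorization_le_iff_dvd Nat.card_pos.ne' Nat.card_pos.ne').2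
      (Subgroup.card_subgroup_dvd_card _) p
  have hQtwo := two_fixed_sub hH hgood F₁ hfixR Q FQ.syl.isPGroup (hQR.trans hRga) FQ.norm
    (FQ.ncard hH).ge
  rcases hQtwo c (le_trans FQ.syl.1 inf_le_left) with e1 | e1 <;>
    rcases hQtwo d (le_trans FQ.syl.1 inf_le_right) with e2 | e2
  · exact absurd (e1.trans e2.symm) hcd
  · exact ⟨g, e1.symm, e2.symm⟩
  · exact ⟨v * g, by rw [mul_smul, hvsw, e1], by rw [mul_smul, swap_back FQ.invol hvsw, e2]⟩
  · exact absurd (e1.trans e2.symm) hcd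

end Cfsg.Lib.StrongEmb
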