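import Cfsg.Agent.Lib.StrongEmb.FrameGood
import Cfsg.Agent.Lib.StrongEmb.Transitive

/-!
# A good prime exists

If the 2-rank is at least two, some prime has no frame with a fixed centre; so the action on the
cosets of a strongly embedded subgroup is doubly transitive (Bender).
-/

set_option autoImplicit false
set_option linter.style.haveILetI false
set_option linter.unusedSectionVars false

namespace Cfsg.Lib.StrongEmb

open Subgroup Cfsg Cfsg.Lib.Invol Cfsg.Lib.Char MulAction
open Cfsg.Lib.Char.RealOdd (IsReal)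

universe u

attribute [local instance 100] Fintype.ofFinite

variable {G : Type u} [Group G] [Finite G] {H : Subgroup G}

theorem smul_map_conj {g : G} {P : Subgroup G} {x : G ⧸ H} (hP : P ≤ stabilizer G x) :
    P.map (MulAut.conj g).toMonoidHom ≤ stabilizer G (g • x) := by
  rw [stabilizer_smul_eq_stabilizer_map_conj]
  exact Subgroup.map_mono hP

variable (hH : IsStronglyEmbedded H)
include hH

/-- A frame with a fixed centre makes the `p`-part of the number of involutions divide the sum. -/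
theorem dvd_sum_of_fixed {p : ℕ} [Fact p.Prime] {θ : ↥(invClosure H) → ℂ}
    (hθ : IsIrrCharacter ↥(invClosure H) θ) (hr : IsReal θ) {d : ℕ} (hd : θ 1 = d) (hodd : Odd d)
    {S : ℤ} (hS : ∑ u ∈ invFinset H, θ u = S) {a b : G ⧸ H} {w : G} {P : Subgroup G}
    (F : Frame H p a b w P) {δ : G ⧸ H} (hδ : w • δ = δ) (hP : P ≤ stabilizer G δ) :
    ∃ m : ℤ, S = (d : ℤ) * (kPart H p : ℕ) * m := by
  classical
  set α : G ⧸ H := QuotientGroup.mk 1
  obtain ⟨g, hg⟩ := MulAction.exists_smul_eq G δ α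
  set c := (MulAut.conj g).toMonoidHom with hc
  set w' := g * w * g⁻¹ with hw'def
  have hw' : orderOf w' = 2 := (Invol.orderOf_conj_eq _ _).trans F.invol
  have hwα : w' • α = α := by
    rw [hw'def, mul_smul, mul_smul, ← hg, inv_smul_smul, hδ]
  have hw'H : w' ∈ H := smul_coset_one_eq.1 hwα
  set a' := g • a with ha'
  set P' := P.map c with hP'
  have hP'α : P' ≤ stabilizer G α := hg ▸ smul_map_conj hP
  have hP'a : P' ≤ stabilizer G a' := smul_map_conj (le_trans F.syl.1 inf_le_left)
  have hn' : w' ∈ normalizer (P' : Set G) := le_normalizer_map c ⟨w, F.norm, rfl⟩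
  have ha'α : a' ≠ α := by
    intro e
    rw [← hg] at e
    have hae : a = δ := MulAction.injective g e
    exact F.ne (by rw [← F.swap, hae, hδ])
  obtain ⟨v, hv, hvα⟩ := exists_swapper hH (Ne.symm ha'α)
  set D := stabilizer G α ⊓ stabilizer G a' with hD
  have hDH : D ≤ H := fun x hx => smul_coset_one_eq.1 (Subgroup.mem_inf.1 hx).1
  have hvH : v ∉ H := fun h => ha'α (hvα.symm.trans (smul_coset_one_eq.2 h))
  have htr : ∀ t : G, orderOf t = 2 → t ∈ H → ∃ x ∈ D, x * w' * x⁻¹ = t := by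
    intro t ht htH
    obtain ⟨x, hx, hxt⟩ := se_transitive hH hv hvH hw' hw'H ht htH
    obtain ⟨h1, y, hy, rfl⟩ := Subgroup.mem_inf.1 hx
    refine ⟨_, Subgroup.mem_inf.2 ⟨smul_coset_one_eq.2 h1, ?_⟩, hxt⟩
    show (v * y * v⁻¹) • a' = a'
    rw [← hvα, mul_smul, inv_smul_smul, mul_smul, smul_coset_one_eq.2 hy]
  set E := D ⊓ D.map (MulAut.conj w').toMonoidHom with hE
  have hEn : w' ∈ normalizer (E : Set G) := mem_normalizer_fintype fun y hy => by
    obtain ⟨h1, z, hz, rfl⟩ := hy
    refine ⟨?_, _, h1, rfl⟩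
    show w' * (w' * z * w'⁻¹) * w'⁻¹ ∈ D
    rwa [inv_eq_self hw', show w' * (w' * z * w') * w' = (w' * w') * z * (w' * w') by group,
      inv_mul_self hw', one_mul, mul_one]
  have hP'D : P' ≤ D := le_inf hP'α hP'a
  have hP'E : P' ≤ E := le_inf hP'D fun y hy => by
    refine ⟨w'⁻¹ * y * w', hP'D ?_, show w' * (w'⁻¹ * y * w') * w'⁻¹ = y by group⟩
    have := conj_mem_of_norm (inv_mem hn') hy
    rwa [inv_inv] at this
  have hDodd : Odd (Nat.card D) := odd_two hH (Ne.symm ha'α)
  have hEodd : Odd (Nat.card E) := hDodd.of_dvd_nat (card_dvd_of_le inf_le_left)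
  obtain ⟨Q, hQ, hPQ, hQn⟩ := exists_invariant_isSyl hw' hEn hEodd P' (F.syl.isPGroup.map c) hP'E hn'
  have himg : (invSet w' P').ncard = kPart H p := by
    rw [← F.ncard hH, show invSet w' P' = c '' invSet w P from ?_,
      Set.ncard_image_of_injective _ (show Function.Injective c from (MulAut.conj g).injective)]
    ext j
    constructor
    · rintro ⟨⟨y, hy, rfl⟩, hi⟩
      refine ⟨y, ⟨hy, (MulAut.conj g).injective ?_⟩, rfl⟩
      show c (w * y * w⁻¹) = c y⁻¹
      simp only [map_mul, map_inv]; exact hi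
    · rintro ⟨y, ⟨hy, hi⟩, rfl⟩
      refine ⟨⟨y, hy, rfl⟩, ?_⟩
      show c w * c y * (c w)⁻¹ = (c y)⁻¹
      rw [← map_inv, ← map_mul, ← map_mul, hi, map_inv]
  have hle : kPart H p ≤ p ^ ((invSet w' E).ncard).factorization p := by
    rw [← himg, ← ncard_invSet_syl hw' hEn hEodd hQ hQn]
    exact Set.ncard_le_ncard (invSet_mono hPQ) (Set.toFinite _)
  have hdvd : kPart H p ∣ (invSet w' E).ncard := by
    refine dvd_trans ?_ (Nat.ordProj_dvd _ p)
    exact Nat.pow_dvd_pow p ((Nat.pow_le_pow_iff_right (Fact.out : p.Prime).one_lt).1 hle)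
  obtain ⟨r, hrr⟩ := hdvd
  obtain ⟨m, hm⟩ := exists_dvd_sum hθ hr hd hodd D hDH hDodd hw' hw'H htr hS
  refine ⟨r * m, ?_⟩
  rw [hm, hrr]
  push_cast
  ring

theorem kInv_odd : Odd (kInv H) := by
  obtain ⟨y, hy⟩ := exists_ne hH (QuotientGroup.mk 1)
  obtain ⟨w, hw, hwy⟩ := exists_swapper hH hy
  rw [← ncard_invSet_two hH hy hw hwy, ncard_invSet hw (swapper_norm hw hwy) (odd_two hH hy)]
  exact (odd_two hH hy).of_dvd_nat (index_dvd_card _)

/-- If `H` has two commuting involutions some prime is good. -/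
theorem exists_frameGood (hfour : ∃ s t : G, s ∈ H ∧ t ∈ H ∧ orderOf s = 2 ∧ orderOf t = 2 ∧ s ≠ t ∧
    Commute s t) : ∃ p : ℕ, p.Prime ∧ FrameGood H p := by
  classical
  by_contra hcon
  obtain ⟨s, t, hs, ht, hs2, ht2, hne, hc⟩ := hfour
  set N := invClosure H
  have hN : Even (Nat.card N) := even_iff_two_dvd.2
    (hs2 ▸ Subgroup.orderOf_dvd_natCard N (mem_invClosure hs2 hs))
  obtain ⟨φ, hr, hdodd, hne1⟩ := exists_real_odd hN
  set θ : N → ℂ := (φ : N → ℂ) with hθdef
  set d := charDegree θ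
  have hd : θ 1 = d := RealOdd.degree_eq φ
  choose z hz using fun u : invFinset H => BSW.exists_int_invol φ.2.isCharacter
    (g := u.1) (Subtype.ext (inv_mul_self (mem_invFinset.1 u.2)))
  replace hz : ∀ u : invFinset H, θ u.1 = (z u : ℂ) := hz
  set S : ℤ := ∑ u : invFinset H, z u with hSdef
  have hS : ∑ u ∈ invFinset H, θ u = S := by
    rw [hSdef, Int.cast_sum, ← Finset.sum_attach]
    exact Finset.sum_congr rfl fun u _ => hz u
  have hbd : ∀ u, |z u| ≤ d := fun u => by
    have h := φ.2.isCharacter.norm_le u.1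
    change ‖θ u.1‖ ≤ (θ 1).re at h
    rw [hz, hd, Complex.norm_intCast, Complex.natCast_re] at h
    exact_mod_cast h
  -- each value has the parity of the degree
  have hpar : ∀ u, Odd (z u) := fun u => by
    obtain ⟨n, ρ, -, hρ⟩ := φ.2
    obtain ⟨μ, hμ, hsum, -⟩ := character_eq_sum_roots ρ u.1
    have hu1 : orderOf u.1 = 2 := by
      rw [← Subgroup.orderOf_coe]; exact mem_invFinset.1 u.2
    have hint : ∀ i, ∃ m : ℤ, (μ i - 1) / 2 = m := fun i => by
      have h2 := hμ i
      rw [hu1] at h2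
      rcases sq_eq_one_iff.1 h2 with e | e
      exacts [⟨0, by simp [e]⟩, ⟨-1, by rw [e]; norm_num⟩]
    choose m hm using hint
    have hn : d = Module.finrank ℂ (Fin n → ℂ) := by
      have h1 := congrFun hρ 1
      rw [Representation.char_one] at h1
      exact_mod_cast hd.symm.trans h1.symm
    have : (z u : ℂ) = (d : ℂ) + 2 * ((∑ i, m i : ℤ) : ℂ) := by
      rw [← hz, hθdef, ← hρ, hsum, hn, Int.cast_sum, Finset.mul_sum]
      simp_rw [← hm]
      rw [Finset.sum_congr rfl (g := fun i => μ i - 1) fun i _ => mul_div_cancel₀ _ two_ne_zero,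
        Finset.sum_sub_distrib, Finset.sum_const, Finset.card_univ, Fintype.card_fin, nsmul_eq_mul]
      ring
    have h3 : z u = (d : ℤ) + 2 * ∑ i, m i := by exact_mod_cast this
    rw [h3]
    exact ((Int.odd_coe_nat d).2 hdodd).add_even (even_two_mul _)
  have hcardI : Fintype.card (invFinset H) = kInv H := by rw [Fintype.card_coe, card_invFinset]
  have hkodd := kInv_odd hH
  have hSodd : Odd S := by
    rw [← ZMod.intCast_eq_one_iff_odd, hSdef, Int.cast_sum,
      Finset.sum_congr rfl (g := fun _ => (1 : ZMod 2)) fun u _ => ZMod.intCast_eq_one_iff_odd.2 (hpar u),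
      Finset.sum_const, Finset.card_univ, hcardI, nsmul_one, ZMod.natCast_eq_one_iff_odd]
    exact hkodd
  -- every prime power of the number of involutions divides the sum
  have hp : ∀ p : ℕ, p.Prime → ∃ m : ℤ, S = (d : ℤ) * (kPart H p : ℕ) * m := by
    intro p hp
    haveI := Fact.mk hp
    have hbad : ¬ FrameGood H p := fun h => hcon ⟨p, hp, h⟩
    simp only [FrameGood, not_forall, not_not] at hbad
    obtain ⟨a, b, w, P, δ, F, hδ, hP⟩ := hbad
    exact dvd_sum_of_fixed hH φ.2 hr hd hdodd hS F hδ hP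
  obtain ⟨m₂, hm₂⟩ := hp 2 Nat.prime_two
  set m : ℤ := ((kPart H 2 : ℕ) : ℤ) * m₂
  have hSm : S = (d : ℤ) * m := by rw [hm₂]; ring
  have hd0 : (d : ℤ) ≠ 0 := by exact_mod_cast hdodd.pos.ne'
  have hk : (kInv H : ℤ) ∣ m := by
    rw [Int.natCast_dvd]
    refine (Nat.dvd_iff_prime_pow_dvd_dvd _ _).2 fun p k hp' hpk => ?_
    obtain ⟨r, hr'⟩ := hp p hp'
    have h1 : p ^ k ∣ kPart H p :=
      Nat.pow_dvd_pow p ((hp'.pow_dvd_iff_le_factorization (kInv_pos hH).ne').1 hpk)
    refine h1.trans ?_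
    rw [← Int.natCast_dvd]
    exact ⟨r, mul_left_cancel₀ hd0 (hSm.symm.trans (hr'.trans (mul_assoc _ _ _)))⟩
  have hm0 : m ≠ 0 := fun e => by
    rw [hSm, e, mul_zero] at hSodd
    exact absurd hSodd (by decide)
  -- hence every value has full absolute value
  have hfull : ∀ u, |z u| = d := by
    intro u
    refine le_antisymm (hbd u) ?_
    by_contra hlt
    rw [not_le] at hlt
    have h1 : |S| < (kInv H : ℤ) * d := by
      refine (Finset.abs_sum_le_sum_abs _ _).trans_lt ?_
      calc ∑ v : invFinset H, |z v| < ∑ _v : invFinset H, (d : ℤ) :=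
            Finset.sum_lt_sum (fun v _ => hbd v) ⟨u, Finset.mem_univ _, hlt⟩
        _ = _ := by rw [Finset.sum_const, Finset.card_univ, hcardI, nsmul_eq_mul]
    have h2 : (kInv H : ℤ) ≤ |m| := Int.le_of_dvd (abs_pos.2 hm0) ((dvd_abs _ _).2 hk)
    rw [hSm, abs_mul, Nat.abs_cast] at h1
    nlinarith [Int.natCast_nonneg d]
  -- of one sign
  have hsame : ∀ u v, z u = z v := by
    intro u v
    have h2 : (kInv H : ℤ) ≤ |m| := Int.le_of_dvd (abs_pos.2 hm0) ((dvd_abs _ _).2 hk)
    have h3 : (kInv H : ℤ) * d ≤ |S| := by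
      rw [hSm, abs_mul, Nat.abs_cast, mul_comm (d : ℤ)]
      exact mul_le_mul_of_nonneg_right h2 (Int.natCast_nonneg d)
    rcases eq_or_ne (z u) (z v) with e | hne'
    · exact e
    exfalso
    have huv : u ≠ v := fun e => hne' (by rw [e])
    have hsum : z u + z v = 0 := by
      rcases abs_eq_abs.1 ((hfull u).trans (hfull v).symm) with e | e
      · exact absurd e hne'
      · omega
    have hv' : v ∈ Finset.univ.erase u := Finset.mem_erase.2 ⟨huv.symm, Finset.mem_univ _⟩
    have h4 : |S| ≤ ((kInv H : ℤ) - 2) * d := by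
      rw [hSdef, ← Finset.add_sum_erase _ _ (Finset.mem_univ u), ← Finset.add_sum_erase _ _ hv',
        ← add_assoc, hsum, zero_add]
      refine (Finset.abs_sum_le_sum_abs _ _).trans (le_of_eq ?_)
      rw [Finset.sum_congr rfl fun x _ => hfull x, Finset.sum_const, nsmul_eq_mul,
        Finset.card_erase_of_mem hv', Finset.card_erase_of_mem (Finset.mem_univ u), Finset.card_univ,
        hcardI]
      have : 2 ≤ kInv H := by
        rw [← hcardI]; exact Fintype.one_lt_card_iff.2 ⟨u, v, huv⟩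
      push_cast [Nat.sub_sub, Nat.cast_sub this]
      ring
    nlinarith [hdodd.pos]
  set us : invFinset H := ⟨⟨s, mem_invClosure hs2 hs⟩, mem_invFinset.2 hs2⟩
  set ut : invFinset H := ⟨⟨t, mem_invClosure ht2 ht⟩, mem_invFinset.2 ht2⟩
  have hst2 : orderOf (s * t) = 2 := orderOf_eq_two_of
    (fun e => hne (by rw [eq_inv_of_mul_eq_one_left e, inv_eq_self ht2]))
    (by rw [hc.symm.mul_mul_mul_comm, inv_mul_self hs2, inv_mul_self ht2, one_mul])
  set ust : invFinset H := ⟨us.1 * ut.1, mem_invFinset.2 hst2⟩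
  have hzd : z us = d := by
    have h1 := mul_degree_of_norm_eq φ.2 (s := us.1) ut.1 (by
      show ‖θ us.1‖ = (θ 1).re
      rw [hz, hd, Complex.norm_intCast, Complex.natCast_re]
      exact_mod_cast hfull us)
    rw [show us.1 * ut.1 = ust.1 from rfl, ← hθdef, hz, hz, hz, hd, hsame ust us, hsame ut us] at h1
    have h5 : z us * (d : ℤ) = z us * z us := by exact_mod_cast h1
    have h6 : z us ≠ 0 := fun e => by
      have := hfull us; rw [e, abs_zero] at this; exact hd0 this.symm
    exact (mul_left_cancel₀ h6 h5).symm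
  -- so the character is trivial
  set K := charKer φ.2.isCharacter
  have hK : ∀ x : N, x ∈ K := by
    rintro ⟨x, hx⟩
    induction hx using Subgroup.closure_induction with
    | mem u hu =>
      rw [mem_charKer]
      set uu : invFinset H := ⟨⟨u, mem_invClosure hu.1 hu.2⟩, mem_invFinset.2 hu.1⟩
      show θ uu.1 = θ 1
      rw [show θ uu.1 = _ from hz uu, hd, hsame uu us, hzd, Int.cast_natCast]
    | one => exact one_mem K
    | mul a b ha hb iha ihb => exact mul_mem iha ihb
    | inv a ha iha => exact inv_mem iha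
  have hd1 : θ 1 = 1 := by
    haveI := Fintype.ofFinite N
    have h7 := classInner_irr_self φ.2
    rw [classInner, Finset.sum_congr rfl (g := fun _ => θ 1 * θ 1) fun x _ => ?_, Finset.sum_const,
      Finset.card_univ, nsmul_eq_mul, ← Nat.card_eq_fintype_card, ← mul_assoc,
      inv_mul_cancel₀ (Nat.cast_ne_zero.2 Nat.card_pos.ne'), one_mul, hd] at h7
    · rw [hd]
      have : (d * d : ℕ) = 1 := by exact_mod_cast h7
      rw [mul_eq_one] at this
      simp [this.1]
    · have h8 : θ x = θ 1 := (mem_charKer _).1 (hK x)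
      rw [show (φ : N → ℂ) x = θ x from rfl, h8, hd]; simp
  exact hne1 (funext fun x => ((mem_charKer φ.2.isCharacter).1 (hK x)).trans hd1)

/-- Bender's transitivity theorem. -/
theorem pretransitive_of_four (hfour : ∃ s t : G, s ∈ H ∧ t ∈ H ∧ orderOf s = 2 ∧ orderOf t = 2 ∧
    s ≠ t ∧ Commute s t) {c d c' d' : G ⧸ H} (hcd : c ≠ d) (hcd' : c' ≠ d') :
    ∃ g : G, g • c = c' ∧ g • d = d' := by
  obtain ⟨p, hp, hgood⟩ := exists_frameGood hH hfour
  haveI := Fact.mk hp
  exact pretransitive_of_good hH hgood hcd hcd'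

end Cfsg.Lib.StrongEmb
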