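import Cfsg.Agent.Lib.StrongEmb.ExistsGood
import Cfsg.Agent.S0016

/-!
# Strongly embedded subgroups with one class of isolated involutions

If no two involutions of `H` commute the Sylow 2-subgroups are cyclic or quaternion and `H` covers
`G` modulo the odd core.
-/

set_option autoImplicit false
set_option linter.style.haveILetI false
set_option linter.unusedSectionVars false

namespace Cfsg.Lib.StrongEmb

open Subgroup Cfsg Cfsg.Lib.Invol MulAction

variable {G : Type*} [Group G] [Finite G] {H : Subgroup G} (hH : IsStronglyEmbedded H)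
  (hone : ¬ ∃ s t : G, s ∈ H ∧ t ∈ H ∧ orderOf s = 2 ∧ orderOf t = 2 ∧ s ≠ t ∧ Commute s t)
include hH hone

/-- Commuting involutions are equal. -/
theorem eq_of_commute {a b : G} (ha : orderOf a = 2) (hb : orderOf b = 2) (hc : Commute a b) :
    a = b := by
  by_contra hne
  obtain ⟨x, hx⟩ := exists_fix hH ha
  obtain ⟨g, rfl⟩ := QuotientGroup.mk_surjective x
  have hbx := smul_eq_of_commute hH ha hx hc.symm
  refine hone ⟨g⁻¹ * a * g, g⁻¹ * b * g, smul_coset_eq_iff.1 hx, smul_coset_eq_iff.1 hbx, ?_, ?_,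
    fun e => hne (mul_left_cancel (mul_right_cancel e)), ?_⟩
  · rw [show g⁻¹ * a * g = g⁻¹ * a * g⁻¹⁻¹ by group, Invol.orderOf_conj_eq, ha]
  · rw [show g⁻¹ * b * g = g⁻¹ * b * g⁻¹⁻¹ by group, Invol.orderOf_conj_eq, hb]
  · have := hc.map (MulAut.conj g⁻¹).toMonoidHom
    simpa using this

theorem sylow_cyclic_or_quaternion (S : Sylow 2 G) :
    IsCyclic S ∨ ∃ m : ℕ, 1 ≤ m ∧ Nonempty ((S : Subgroup G) ≃* QuaternionGroup (2 ^ m)) := by
  haveI : Fact (Nat.Prime 2) := ⟨Nat.prime_two⟩
  -- a subgroup of order two is generated by an involution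
  have gen : ∀ A : Subgroup (S : Subgroup G), Nat.card A = 2 →
      ∃ a : (S : Subgroup G), orderOf a = 2 ∧ A = zpowers a := by
    intro A hA
    obtain ⟨a, ha, ha2⟩ := exists_involution_of_even (H := A) (by rw [hA]; exact even_two)
    exact ⟨a, ha2, (Subgroup.eq_of_le_of_card_ge (zpowers_le.2 ha)
      (by rw [Nat.card_zpowers, ha2, hA])).symm⟩
  -- the centre holds an involution, which commutes with every other
  have huniq : ∀ A B : Subgroup (S : Subgroup G), Nat.card A = 2 → Nat.card B = 2 → A = B := by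
    intro A B hA hB
    obtain ⟨a, ha, rfl⟩ := gen A hA
    obtain ⟨b, hb, rfl⟩ := gen B hB
    haveI : Nontrivial (S : Subgroup G) := ⟨⟨a, 1, fun e => by simp [e] at ha⟩⟩
    haveI : Nontrivial (center (S : Subgroup G)) := S.2.center_nontrivial
    obtain ⟨z, hz, hz2⟩ := exists_involution_of_even (H := center (S : Subgroup G)) (by
      obtain ⟨n, hn⟩ := IsPGroup.iff_card.1 (S.2.to_subgroup (center (S : Subgroup G)))
      rw [hn, Nat.even_pow]
      refine ⟨even_two, fun e => ?_⟩
      have := Finite.one_lt_card (α := center (S : Subgroup G))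
      simp [hn, e] at this)
    have key : ∀ x : (S : Subgroup G), orderOf x = 2 → x = z := fun x hx =>
      Subtype.ext (eq_of_commute hH hone (by rw [Subgroup.orderOf_coe, hx])
        (by rw [Subgroup.orderOf_coe, hz2])
        ((show Commute x z from mem_center_iff.1 hz x).map (S : Subgroup G).subtype))
    rw [key a ha, key b hb]
  rcases Cfsg.Agent.S0016.result 2 S.2 huniq with h | ⟨-, n, ⟨e⟩⟩
  · exact Or.inl h
  rcases Nat.eq_zero_or_pos n with rfl | hn
  · exact Or.inl (e.isCyclic.2 (by simpa using QuaternionGroup.quaternionGroup_one_isCyclic))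
  · exact Or.inr ⟨n, hn, ⟨e⟩⟩

/-- `H` covers the group modulo its odd core. -/
theorem oddCore_sup_eq_top : oddCore G ⊔ H = ⊤ := by
  obtain ⟨t, ht, ht2⟩ := exists_involution_of_even hH.2.1
  have hiso : IsIsolatedInvolution t :=
    ⟨ht2, fun g hc => (eq_of_commute hH hone ht2 (by rw [Invol.orderOf_conj_eq, ht2]) hc).symm⟩
  refine eq_top_iff.2 fun g _ => ?_
  have hmem : t * g * t⁻¹ * g⁻¹ ∈ oddCore G := ZStar.zStarHolds G t hiso g
  set u := g * t * g⁻¹ with hu
  have hu2 : orderOf u = 2 := (Invol.orderOf_conj_eq _ _).trans ht2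
  have htu : t * u = t * g * t⁻¹ * g⁻¹ := by rw [hu, inv_eq_self ht2]; group
  have hodd : Odd (orderOf (t * u)) :=
    (ZStar.odd_card_oddCore (G := G)).of_dvd_nat
      (Subgroup.orderOf_dvd_natCard (oddCore G) (htu ▸ hmem))
  obtain ⟨d, hd, hdu⟩ := exists_conj_zpowers_of_odd ht2 hu2 hodd
  have hdO : d ∈ oddCore G := zpowers_le.2 (htu ▸ hmem) hd
  have htα : t • (QuotientGroup.mk 1 : G ⧸ H) = QuotientGroup.mk 1 := smul_coset_one_eq.2 ht
  have h1 : u • (g • (QuotientGroup.mk 1 : G ⧸ H)) = g • QuotientGroup.mk 1 := by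
    rw [hu, mul_smul, mul_smul, inv_smul_smul, htα]
  have h2 : u • (d • (QuotientGroup.mk 1 : G ⧸ H)) = d • QuotientGroup.mk 1 := by
    rw [← hdu, mul_smul, mul_smul, inv_smul_smul, htα]
  have h3 := se_fixed_unique hH hu2 h1 h2
  have h4 : d⁻¹ * g ∈ H := smul_coset_one_eq.1 (by rw [mul_smul, h3, inv_smul_smul])
  have h5 := mul_mem (mem_sup_left (T := H) hdO) (mem_sup_right (S := oddCore G) h4)
  rwa [mul_inv_cancel_left] at h5

end Cfsg.Lib.StrongEmb
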