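import Cfsg.Agent.Lib.TwoGroup.QuasiDihedral
import Cfsg.Agent.Lib.Sig.RankThree
import Cfsg.Agent.S3224
import Mathlib.GroupTheory.SpecificGroups.Dihedral

/-!
2-rank bounds for groups with a cyclic subgroup of index two.
-/

set_option autoImplicit false

namespace Cfsg.Lib.StrongEmb

open Subgroup

variable {S : Type*} [Group S] [Finite S]

theorem rankLE_two_of_cyclic_half (x : S) (h : Nat.card S ≤ 2 * orderOf x) : Cfsg.PRankLE 2 2 S := by
  intro A _ hA
  have h1 := Cfsg.Lib.Sig.RankThree.card_le_card_inf_mul_index A (zpowers x)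
  have h2 : (zpowers x).index ≤ 2 := by
    have := (zpowers x).card_mul_index
    rw [Nat.card_zpowers] at this
    nlinarith [orderOf_pos x]
  have h3 : Nat.card ↥(A ⊓ zpowers x : Subgroup S) ≤ 2 := by
    haveI : IsCyclic ↥(A ⊓ zpowers x : Subgroup S) :=
      isCyclic_of_injective (Subgroup.inclusion inf_le_right) (Subgroup.inclusion_injective _)
    obtain ⟨g, hg⟩ := IsCyclic.exists_generator (α := ↥(A ⊓ zpowers x : Subgroup S))
    rw [← orderOf_eq_card_of_forall_mem_zpowers hg]
    exact Nat.le_of_dvd two_pos (orderOf_dvd_of_pow_eq_one (Subtype.ext (hA _ (Subgroup.mem_inf.1 g.2).1)))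
  exact h1.trans ((Nat.mul_le_mul h3 h2).trans (by norm_num))

theorem rankLE_two_of_dihedral {n : ℕ} (e : S ≃* DihedralGroup n) : Cfsg.PRankLE 2 2 S := by
  refine rankLE_two_of_cyclic_half (e.symm (DihedralGroup.r 1)) ?_
  rw [MulEquiv.orderOf_eq, DihedralGroup.orderOf_r_one, Nat.card_congr e.toEquiv, DihedralGroup.nat_card]

theorem rankLE_two_of_quasiDihedral (h : Cfsg.IsQuasiDihedral S) : Cfsg.PRankLE 2 2 S := by
  obtain ⟨n, ⟨d⟩⟩ := Cfsg.Lib.TwoGroup.exists_sd h
  refine rankLE_two_of_cyclic_half d.x ?_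
  rw [d.card, d.hx, pow_succ, mul_comm]

/-- A 2-group with an involution whose centraliser has order four has rank at most two. -/
theorem rankLE_two_of_card_four (hS : IsPGroup 2 S) {x : S} (hx : orderOf x = 2)
    (hC : Nat.card ↥(centralizer ({x} : Set S)) = 4) : Cfsg.PRankLE 2 2 S := by
  rcases Cfsg.Agent.S3224.result hS x hx hC with ⟨n, ⟨e⟩⟩ | h | h
  · exact rankLE_two_of_dihedral e
  · exact rankLE_two_of_quasiDihedral h
  · intro A _ _
    exact (Nat.le_of_dvd Nat.card_pos (card_subgroup_dvd_card A)).trans (h.trans (by norm_num)).le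

end Cfsg.Lib.StrongEmb
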