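import Cfsg.Agent.Lib.Invol.Embedded
import Cfsg.Agent.Lib.Sig.RankThree
import Cfsg.Agent.Lib.Core.Cores
import Cfsg.Agent.Lib.Coprime.Generation
import Cfsg.Agent.Lib.Kondo.Transfer
import Cfsg.Agent.S0217
import Cfsg.Agent.S0205
import Cfsg.Agent.Lib.StrongEmb.Rank

/-!
The signalizer `θ t = O(C(t))` in a simple group of 2-rank above two whose involution centralisers have normal
2-complements: it is trivial on every involution, or the group has a strongly embedded subgroup normalising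
the odd subgroup generated by it.
-/

set_option autoImplicit false
set_option linter.style.haveILetI false
set_option linter.unusedSectionVars false

namespace Cfsg.Lib.StrongEmb.Cover

open Subgroup Cfsg Cfsg.Lib.Invol
open Cfsg.Lib

universe u

variable {G : Type u} [Group G]

/-- All involution centralisers have normal 2-complements. -/
def AllNilp (G : Type u) [Group G] : Prop :=
  ∀ t : G, orderOf t = 2 → Cfsg.HasNormalPComplement 2 ↥(centralizer ({t} : Set G))

/-- Exponent two. -/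
def El (A : Subgroup G) : Prop := ∀ a ∈ A, a * a = 1

/-- The signalizer. -/
abbrev th (t : G) : Subgroup G := centralizerPPrimeCore 2 t

/-- The subgroup generated by the signalizers of the elements of `A`. -/
def Wof (A : Subgroup G) : Subgroup G := ⨆ a : {a : G // a ∈ A ∧ a ≠ 1}, th (a : G)

theorem El.orderOf_eq {A : Subgroup G} (hA : El A) {a : G} (ha : a ∈ A) (h1 : a ≠ 1) : orderOf a = 2 :=
  orderOf_eq_two_of h1 (hA a ha)

theorem El.commute {A : Subgroup G} (hA : El A) {a b : G} (ha : a ∈ A) (hb : b ∈ A) : Commute a b := by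
  have h := hA _ (mul_mem ha hb)
  have ha' : a⁻¹ = a := inv_eq_of_mul_eq_one_left (hA a ha)
  have hb' : b⁻¹ = b := inv_eq_of_mul_eq_one_left (hA b hb)
  show a * b = b * a
  rw [← inv_eq_of_mul_eq_one_left h, mul_inv_rev, ha', hb']

theorem El.isMulCommutative {A : Subgroup G} (hA : El A) : IsMulCommutative A :=
  ⟨⟨fun a b => Subtype.ext (hA.commute a.2 b.2).eq⟩⟩

theorem El.mono {A B : Subgroup G} (hA : El A) (h : B ≤ A) : El B := fun b hb => hA b (h hb)

theorem El.map {H : Type*} [Group H] {A : Subgroup G} (hA : El A) (f : G →* H) :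
    ∀ a ∈ A.map f, a * a = 1 := by
  rintro _ ⟨a, ha, rfl⟩
  rw [← map_mul, hA a ha, map_one]

/-- Adjoining a commuting involution. -/
theorem El.sup {A B : Subgroup G} (hA : El A) (hB : El B) (h : ∀ a ∈ A, ∀ b ∈ B, a * b = b * a) :
    El (A ⊔ B) := by
  intro x hx
  have hAB : ⁅A, B⁆ = ⊥ := Core.commutator_eq_bot_iff_forall.2 h
  obtain ⟨a, ha, b, hb, rfl⟩ := (Core.mem_sup_of_commute hAB).1 hx
  rw [(show Commute a b from h a ha b hb).symm.mul_mul_mul_comm, hA a ha, hB b hb, one_mul]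

variable [Finite G]

theorem El.card_le_mul {A : Subgroup G} (hA : El A) {t : G} (ht : t * t = 1) (hc : ∀ a ∈ A, a * t = t * a) :
    El (A ⊔ zpowers t) ∧ t ∈ A ⊔ zpowers t ∧ (t ∉ A → 2 * Nat.card A ≤ Nat.card ↥(A ⊔ zpowers t)) := by
  refine ⟨hA.sup ?_ ?_, (le_sup_right : zpowers t ≤ A ⊔ zpowers t) (mem_zpowers t), fun htA => ?_⟩
  · rintro _ ⟨k, rfl⟩
    show t ^ k * t ^ k = 1
    rw [← (Commute.refl t).mul_zpow, ht, one_zpow]
  · rintro a ha _ ⟨k, rfl⟩
    exact ((show Commute a t from hc a ha).zpow_right k).eq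
  · obtain ⟨m, hm⟩ : Nat.card A ∣ Nat.card ↥(A ⊔ zpowers t) := card_dvd_of_le le_sup_left
    rw [hm, mul_comm 2]
    refine Nat.mul_le_mul_left _ ?_
    by_contra hlt
    have h0 : m ≠ 0 := fun e => Nat.card_pos.ne' (hm.trans (by rw [e, mul_zero]))
    refine htA (?_ : t ∈ A)
    have e : A = A ⊔ zpowers t := eq_of_le_of_card_ge le_sup_left (by rw [hm, show m = 1 by omega, mul_one])
    rw [e]; exact (le_sup_right : zpowers t ≤ A ⊔ zpowers t) (mem_zpowers t)

section Theta

variable (hI : AllNilp G)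
include hI

theorem th_facts {t : G} (ht : orderOf t = 2) :
    th t ≤ centralizer ({t} : Set G) ∧ Odd (Nat.card (th t)) ∧
      (∀ c : G, Commute c t → Odd (orderOf c) → c ∈ th t) ∧
      (∀ T : Sylow 2 (centralizer ({t} : Set G)), centralizer ({t} : Set G) ≤
        th t ⊔ (T : Subgroup (centralizer ({t} : Set G))).map (centralizer ({t} : Set G)).subtype) := by
  haveI : Fact (Nat.Prime 2) := ⟨Nat.prime_two⟩
  set C := centralizer ({t} : Set G) with hCdef
  obtain ⟨P, N, hN, hc⟩ : Cfsg.HasNormalPComplement 2 C := hI t ht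
  have hidx : N.index = Nat.card (P : Subgroup C) := hc.symm.index_eq_card
  obtain ⟨e, he⟩ := IsPGroup.iff_card.1 P.2
  have hNodd : ¬ 2 ∣ Nat.card N := by
    rw [← hc.index_eq_card]; exact P.not_dvd_index
  have hle : N ≤ pPrimeCore 2 C :=
    Core.le_pPrimeCore' hN (Nat.Coprime.symm ((Nat.prime_two.coprime_iff_not_dvd).2 hNodd))
  have hcore : ¬ 2 ∣ Nat.card (pPrimeCore 2 C) := Core.pPrimeCore_not_dvd 2 C
  refine ⟨map_subtype_le _, ?_, fun c hct hodd => ?_, fun T => ?_⟩
  · show Odd (Nat.card ↥((pPrimeCore 2 C).map C.subtype))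
    rw [card_map_of_injective C.subtype_injective, ← Nat.not_even_iff_odd, even_iff_two_dvd]
    exact hcore
  · refine ⟨⟨c, mem_centralizer_singleton_iff.2 hct.eq⟩, hle ?_, rfl⟩
    haveI := hN
    have h1 : orderOf (QuotientGroup.mk' N ⟨c, mem_centralizer_singleton_iff.2 hct.eq⟩) ∣ 2 ^ e :=
      he ▸ hidx ▸ orderOf_dvd_natCard _
    have h2 : orderOf (QuotientGroup.mk' N ⟨c, mem_centralizer_singleton_iff.2 hct.eq⟩) ∣ orderOf c :=
      (orderOf_map_dvd _ _).trans (dvd_of_eq (Subgroup.orderOf_mk _ _))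
    have h3 := Nat.Coprime.eq_one_of_dvd ((Nat.Coprime.pow_left e (Nat.coprime_two_left.2 hodd)).coprime_dvd_left h1)
      h2
    exact (QuotientGroup.eq_one_iff _).1 (orderOf_eq_one_iff.1 h3)
  · have htop : pPrimeCore 2 C ⊔ (T : Subgroup C) = ⊤ := by
      refine eq_top_of_le_card _ ?_
      haveI : (pPrimeCore 2 C).Normal := inferInstance
      have h1 : Nat.card C ∣ Nat.card ↥(pPrimeCore 2 C ⊔ (T : Subgroup C)) := by
        rw [← hc.card_mul, show Nat.card (P : Subgroup C) = Nat.card (T : Subgroup C) from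
          (Nat.card_congr (P.equiv T).toEquiv)]
        exact Nat.Coprime.mul_dvd_of_dvd_of_dvd
          (by
            obtain ⟨j, hj⟩ := IsPGroup.iff_card.1 T.2
            rw [hj]
            exact Nat.Coprime.pow_right j (Nat.Coprime.symm ((Nat.prime_two.coprime_iff_not_dvd).2 hNodd)))
          (card_dvd_of_le (hle.trans le_sup_left)) (card_dvd_of_le le_sup_right)
      exact Nat.le_of_dvd Nat.card_pos h1
    have := congrArg (Subgroup.map C.subtype) htop
    rw [Subgroup.map_sup, ← MonoidHom.range_eq_map, range_subtype] at this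
    exact this.ge

theorem mem_th {t c : G} (ht : orderOf t = 2) : c ∈ th t ↔ Commute c t ∧ Odd (orderOf c) := by
  obtain ⟨h1, h2, h3, -⟩ := th_facts hI ht
  exact ⟨fun hc => ⟨mem_centralizer_singleton_iff.1 (h1 hc), h2.of_dvd_nat (Subgroup.orderOf_dvd_natCard _ hc)⟩,
    fun h => h3 c h.1 h.2⟩

theorem th_conj {t g c : G} (ht : orderOf t = 2) :
    g * c * g⁻¹ ∈ th (g * t * g⁻¹) ↔ c ∈ th t := by
  rw [mem_th hI (by rw [orderOf_conj_eq, ht]), mem_th hI ht, orderOf_conj_eq]
  exact and_congr_left fun _ => ⟨fun h => (MulAut.conj g).injective.eq_iff.1 (by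
    simpa only [map_mul, MulAut.conj_apply] using h.eq), fun h => h.map (MulAut.conj g).toMonoidHom⟩

/-- Along a noncyclic elementary subgroup the signalizers generate the same subgroup. -/
theorem Wof_eq {A B : Subgroup G} (hA : El A) (hBA : B ≤ A) (hB : 4 ≤ Nat.card B) : Wof A = Wof B := by
  refine le_antisymm (iSup_le fun a => ?_) (iSup_le fun b => le_iSup_of_le ⟨b.1, hBA b.2.1, b.2.2⟩ le_rfl)
  have ha := hA.orderOf_eq a.2.1 a.2.2
  haveI := (hA.mono hBA).isMulCommutative
  have hnc : ¬ IsCyclic B := by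
    intro hcyc
    obtain ⟨g, hg⟩ := IsCyclic.exists_generator (α := B)
    have h2 : Nat.card B ≤ 2 := by
      rw [← orderOf_eq_card_of_forall_mem_zpowers hg]
      exact Nat.le_of_dvd two_pos (orderOf_dvd_of_pow_eq_one (Subtype.ext (by
        rw [Subgroup.coe_pow, pow_two]; exact hA _ (hBA g.2))))
    omega
  have hn : B ≤ normalizer ((th (a : G)) : Set G) := by
    intro b hb
    refine mem_normalizer_fintype fun c hc => ?_
    have := (th_conj hI (g := b) ha).2 hc
    rwa [(hA.commute (hBA hb) a.2.1).eq, mul_inv_cancel_right] at this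
  have hcop : (Nat.card B).Coprime (Nat.card (th (a : G))) := by
    haveI : Fact (Nat.Prime 2) := ⟨Nat.prime_two⟩
    obtain ⟨j, hj⟩ := IsPGroup.iff_card.1 (show IsPGroup 2 B from fun b => ⟨1, Subtype.ext (by
      rw [pow_one, Subgroup.coe_pow, pow_two]; exact hA _ (hBA b.2))⟩)
    rw [hj]
    exact Nat.Coprime.pow_left j (Nat.coprime_two_left.2 (th_facts hI ha).2.1)
  refine (Coprime.le_iSup_centralizer_of_not_isCyclic hnc hn hcop).trans (iSup_le fun b => ?_)
  refine le_iSup_of_le b fun c hc => ?_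
  obtain ⟨hc1, hc2⟩ := Subgroup.mem_inf.1 hc
  exact (mem_th hI ((hA.mono hBA).orderOf_eq b.2.1 b.2.2)).2
    ⟨mem_centralizer_singleton_iff.1 hc2, ((mem_th hI ha).1 hc1).2⟩

/-- The signalizer functor theorem on an elementary subgroup of order at least eight. -/
theorem Wof_signalizer {A : Subgroup G} (hA : El A) (h8 : 8 ≤ Nat.card A) :
    Odd (Nat.card (Wof A)) ∧ ∀ a ∈ A, a ≠ 1 → Wof A ⊓ centralizer ({a} : Set G) = th a := by
  haveI : Fact (Nat.Prime 2) := ⟨Nat.prime_two⟩
  have ho := fun a (ha : a ∈ A) (h1 : a ≠ 1) => hA.orderOf_eq ha h1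
  obtain ⟨h1, h2⟩ := Cfsg.Agent.S0217.result (p := 2) A (fun a ha b hb => (hA.commute ha hb).eq)
    (fun a ha => by rw [pow_two]; exact hA a ha) (by simpa using h8) th
    (fun a ha h => (th_facts hI (ho a ha h)).1)
    (fun a ha h => by
      rw [← even_iff_two_dvd, Nat.not_even_iff_odd]; exact (th_facts hI (ho a ha h)).2.1)
    (fun a ha h b hb x hx => by
      have := (th_conj hI (g := b) (ho a ha h)).2 hx
      rwa [(hA.commute hb ha).eq, mul_inv_cancel_right] at this)
    (fun a ha h => Cfsg.Agent.S0205.result (th_facts hI (ho a ha h)).2.1)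
    (fun a ha h b hb hb1 x hx => (mem_th hI (ho b hb hb1)).2
      ⟨mem_centralizer_singleton_iff.1 (Subgroup.mem_inf.1 hx).2,
        ((mem_th hI (ho a ha h)).1 (Subgroup.mem_inf.1 hx).1).2⟩)
  refine ⟨?_, h2⟩
  rw [← Nat.not_even_iff_odd, even_iff_two_dvd]
  exact h1

theorem Wof_conj {A : Subgroup G} (hA : El A) (g : G) :
    (Wof A).map (MulAut.conj g).toMonoidHom ≤ Wof (A.map (MulAut.conj g).toMonoidHom) := by
  rw [Wof, Subgroup.map_iSup]
  refine iSup_le fun a => le_iSup_of_le ⟨g * a.1 * g⁻¹, ⟨a.1, a.2.1, rfl⟩, fun e => a.2.2 ?_⟩ ?_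
  · exact (MulAut.conj g).injective (e.trans (map_one (MulAut.conj g)).symm)
  · rintro _ ⟨c, hc, rfl⟩
    exact (th_conj hI (hA.orderOf_eq a.2.1 a.2.2)).2 hc

end Theta

/-- A normal four-subgroup of a Sylow 2-subgroup, and the elementary groups around it. -/
structure Base (S : Sylow 2 G) (U : Subgroup G) : Prop where
  le : U ≤ S
  el : El U
  card : Nat.card U = 4
  norm : (S : Subgroup G) ≤ normalizer (U : Set G)

theorem exists_base (S : Sylow 2 G) (hr : ¬ Cfsg.PRankLE 2 2 (S : Subgroup G)) :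
    (∃ U, Base S U) ∧ ∃ E : Subgroup G, E ≤ S ∧ El E ∧ 8 ≤ Nat.card E := by
  haveI : Fact (Nat.Prime 2) := ⟨Nat.prime_two⟩
  obtain ⟨U, hUn, hU, hUc⟩ := Sig.RankThree.exists_normal_four S.2 hr
  obtain ⟨E, hE, hEc⟩ := Sig.RankThree.exists_elementary_of_not_rankLE S.2 hr
  have hel : ∀ A : Subgroup (S : Subgroup G), Cfsg.IsElementaryAbelian 2 A →
      El (A.map (S : Subgroup G).subtype) := fun A hA => by
    rintro _ ⟨a, ha, rfl⟩
    rw [← map_mul, ← pow_two, hA.2 a ha, map_one]
  refine ⟨⟨U.map (S : Subgroup G).subtype, map_subtype_le _, hel U hU,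
    by rw [card_map_of_injective (subtype_injective _), hUc]; norm_num, ?_⟩,
    E.map (S : Subgroup G).subtype, map_subtype_le _, hel E hE,
    by rw [card_map_of_injective (subtype_injective _)]; exact hEc⟩
  intro s hs
  refine mem_normalizer_fintype ?_
  rintro _ ⟨u, hu, rfl⟩
  exact ⟨_, hUn.conj_mem u hu ⟨s, hs⟩, rfl⟩

namespace Base

variable {S : Sylow 2 G} {U : Subgroup G}

/-- Every elementary subgroup of order eight of `S` meets `C(U)` in at least four elements. -/
theorem four_le (hB : Base S U) {E : Subgroup G} (hES : E ≤ S) (h8 : 8 ≤ Nat.card E) :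
    4 ≤ Nat.card ↥(E ⊓ centralizer (U : Set G) : Subgroup G) := by
  haveI : Fact (Nat.Prime 2) := ⟨Nat.prime_two⟩
  haveI : (U.subgroupOf S).Normal := (normal_subgroupOf_iff_le_normalizer hB.le).mpr hB.norm
  have hc : Nat.card (U.subgroupOf (S : Subgroup G)) = 2 ^ 2 := by
    rw [Nat.card_congr (subgroupOfEquivOfLe hB.le).toEquiv, hB.card]; norm_num
  have h1 := Sig.RankThree.index_centralizer_le S.2 hc
  set C' := centralizer ((U.subgroupOf (S : Subgroup G)) : Set (S : Subgroup G))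
  have h2 := Sig.RankThree.card_le_card_inf_mul_index (E.subgroupOf S) C'
  rw [Nat.card_congr (subgroupOfEquivOfLe hES).toEquiv] at h2
  have h3 : Nat.card ↥(E.subgroupOf S ⊓ C' : Subgroup (S : Subgroup G)) ≤
      Nat.card ↥(E ⊓ centralizer (U : Set G) : Subgroup G) := by
    refine Nat.card_le_card_of_injective (fun x => (⟨((x : (S : Subgroup G)) : G), Subgroup.mem_inf.2
      ⟨(Subgroup.mem_inf.1 x.2).1, mem_centralizer_iff.2 fun u hu => ?_⟩⟩ :
        ↥(E ⊓ centralizer (U : Set G) : Subgroup G)))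
      fun a b e => Subtype.ext (Subtype.ext (congrArg (fun z : ↥(E ⊓ centralizer (U : Set G) : Subgroup G) => (z : G)) e))
    exact congrArg Subtype.val
      (mem_centralizer_iff.1 (Subgroup.mem_inf.1 x.2).2 ⟨u, hB.le hu⟩ (by exact hu))
  have h4 : 8 ≤ Nat.card ↥(E.subgroupOf S ⊓ C' : Subgroup (S : Subgroup G)) * 2 :=
    le_trans (h8.trans h2) (Nat.mul_le_mul_left _ h1)
  omega

/-- An elementary subgroup of order at least eight of `S` containing `U`, and sharing a four group with `E`. -/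
theorem exists_big (hB : Base S U) {E : Subgroup G} (hES : E ≤ S) (hE : El E) (h8 : 8 ≤ Nat.card E) :
    ∃ E₀ A : Subgroup G, E₀ ≤ E ∧ 4 ≤ Nat.card E₀ ∧ E₀ ≤ A ∧ U ≤ A ∧ A ≤ S ∧ El A ∧ 8 ≤ Nat.card A := by
  set E₀ := E ⊓ centralizer (U : Set G) with hE₀
  have hA : El (E₀ ⊔ U) := (hE.mono inf_le_left).sup hB.el fun a ha b hb =>
    (mem_centralizer_iff.1 (Subgroup.mem_inf.1 ha).2 b hb).symm
  refine ⟨E₀, E₀ ⊔ U, inf_le_left, hB.four_le hES h8, le_sup_left, le_sup_right,
    sup_le (inf_le_left.trans hES) hB.le, hA, ?_⟩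
  by_cases hUE : U ≤ E₀
  · rw [sup_eq_left.2 hUE]
    have hEC : E ≤ centralizer (U : Set G) := fun e he => mem_centralizer_iff.2 fun u hu =>
      (hE.commute (hUE hu |> fun h => (Subgroup.mem_inf.1 h).1) he).eq
    rwa [hE₀, inf_eq_left.2 hEC]
  obtain ⟨u, hu, huE⟩ := SetLike.not_le_iff_exists.1 hUE
  obtain ⟨-, -, h2⟩ := (hE.mono (inf_le_left : E₀ ≤ E)).card_le_mul (hB.el u hu) (fun a ha =>
    ((mem_centralizer_iff.1 (Subgroup.mem_inf.1 ha).2 u hu)).symm)
  refine le_trans ?_ (Nat.le_of_dvd Nat.card_pos (card_dvd_of_le (sup_le_sup le_rfl (zpowers_le.2 hu))))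
  have := hB.four_le hES h8
  rw [← hE₀] at this
  have h2' : 2 * Nat.card E₀ ≤ Nat.card ↥(E₀ ⊔ zpowers u) := h2 huE
  omega

variable (hI : AllNilp G)
include hI

theorem Wof_all (hB : Base S U) {E : Subgroup G} (hES : E ≤ S) (hE : El E) (h8 : 8 ≤ Nat.card E) :
    Wof E = Wof U := by
  obtain ⟨E₀, A, h0, h04, h0A, hUA, -, hA, -⟩ := hB.exists_big hES hE h8
  rw [Wof_eq hI hE h0 h04, ← Wof_eq hI hA h0A h04, Wof_eq hI hA hUA hB.card.ge]

/-- Conjugation preserves the generated subgroup when it keeps an elementary group inside `S`. -/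
theorem mem_normalizer (hB : Base S U) {E : Subgroup G} (hES : E ≤ S) (hE : El E) (h8 : 8 ≤ Nat.card E)
    {x : G} (hx : E.map (MulAut.conj x).toMonoidHom ≤ S) : x ∈ normalizer (Wof U : Set G) := by
  have h1 := Wof_conj hI hE x
  rw [hB.Wof_all hI hES hE h8, hB.Wof_all hI hx (hE.map _)
    (by rw [card_map_of_injective (f := (MulAut.conj x).toMonoidHom) (MulAut.conj x).injective]; exact h8)] at h1
  rw [mem_normalizer_iff_map_conj_eq]
  exact eq_of_le_of_card_ge h1 (card_map_of_injective (f := (MulAut.conj x).toMonoidHom) (MulAut.conj x).injective).ge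

theorem sylow_le (hB : Base S U) : (S : Subgroup G) ≤ normalizer (Wof U : Set G) := by
  intro s hs
  have h1 := Wof_conj hI hB.el s
  have hU : U.map (MulAut.conj s).toMonoidHom = U := Coprime.map_conj_eq_self (hB.norm hs)
  rw [hU] at h1
  rw [mem_normalizer_iff_map_conj_eq]
  exact eq_of_le_of_card_ge h1 (card_map_of_injective (f := (MulAut.conj s).toMonoidHom) (MulAut.conj s).injective).ge

/-- A 2-subgroup of the normaliser is conjugate there into `S`. -/
theorem exists_conj_le (hB : Base S U) {R : Subgroup G} (hR : IsPGroup 2 R)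
    (hRM : R ≤ normalizer (Wof U : Set G)) :
    ∃ m ∈ normalizer (Wof U : Set G), R.map (MulAut.conj m).toMonoidHom ≤ S := by
  haveI : Fact (Nat.Prime 2) := ⟨Nat.prime_two⟩
  set M := normalizer (Wof U : Set G)
  obtain ⟨P, hP⟩ := (hR.comap_subtype (K := M)).exists_le_sylow
  obtain ⟨m, hm⟩ := MulAction.exists_smul_eq M P (S.subtype (hB.sylow_le hI))
  refine ⟨m, m.2, ?_⟩
  rintro _ ⟨r, hr, rfl⟩
  have h1 : m * ⟨r, hRM hr⟩ * m⁻¹ ∈ ((S.subtype (hB.sylow_le hI) : Sylow 2 M) : Subgroup M) := by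
    rw [← hm, Sylow.coe_subgroup_smul]
    exact Subgroup.smul_mem_pointwise_smul _ _ _ (hP (show (⟨r, hRM hr⟩ : M) ∈ R.subgroupOf M from hr))
  exact h1

/-- A 2-subgroup of the normaliser with an elementary subgroup of order eight has its fusion there. -/
theorem fusion (hB : Base S U) {R : Subgroup G} (hR : IsPGroup 2 R) (hRM : R ≤ normalizer (Wof U : Set G))
    {E : Subgroup G} (hER : E ≤ R) (hE : El E) (h8 : 8 ≤ Nat.card E) {x : G}
    (hx : R.map (MulAut.conj x).toMonoidHom ≤ normalizer (Wof U : Set G)) :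
    x ∈ normalizer (Wof U : Set G) := by
  obtain ⟨m, hm, hmS⟩ := hB.exists_conj_le hI hR hRM
  obtain ⟨n, hn, hnS⟩ := hB.exists_conj_le hI (hR.map (MulAut.conj x).toMonoidHom) hx
  have h1 := hB.mem_normalizer hI ((map_mono hER).trans hmS) (hE.map _)
    (by rw [card_map_of_injective (f := (MulAut.conj m).toMonoidHom) (MulAut.conj m).injective]; exact h8)
    (x := n * x * m⁻¹) (by
      rintro _ ⟨_, ⟨e, he, rfl⟩, rfl⟩
      have := hnS ⟨x * e * x⁻¹, ⟨e, hER he, rfl⟩, rfl⟩
      show n * x * m⁻¹ * (m * e * m⁻¹) * (n * x * m⁻¹)⁻¹ ∈ (S : Subgroup G)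
      rw [show n * x * m⁻¹ * (m * e * m⁻¹) * (n * x * m⁻¹)⁻¹ = n * (x * e * x⁻¹) * n⁻¹ by group]
      exact this)
  have h2 := mul_mem (mul_mem (inv_mem hn) h1) hm
  rwa [show n⁻¹ * (n * x * m⁻¹) * m = x by group] at h2

/-- An involution in an elementary subgroup of order eight of `S` has its signalizer in the generated subgroup. -/
theorem th_le (hB : Base S U) {E : Subgroup G} (hES : E ≤ S) (hE : El E) (h8 : 8 ≤ Nat.card E) {t : G}
    (ht : t ∈ E) (ht1 : t ≠ 1) : th t ≤ Wof U := by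
  rw [← hB.Wof_all hI hES hE h8]
  exact le_iSup_of_le ⟨t, ht, ht1⟩ le_rfl

/-- An involution of the normaliser centralising an elementary subgroup of order eight there has its
centraliser and signalizer there. -/
theorem cent_le (hB : Base S U) {t : G} (ht : orderOf t = 2) (htM : t ∈ normalizer (Wof U : Set G))
    {E : Subgroup G} (hEM : E ≤ normalizer (Wof U : Set G) ⊓ centralizer ({t} : Set G)) (hE : El E)
    (h8 : 8 ≤ Nat.card E) :
    th t ≤ Wof U ∧ centralizer ({t} : Set G) ≤ normalizer (Wof U : Set G) := by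
  haveI : Fact (Nat.Prime 2) := ⟨Nat.prime_two⟩
  set M := normalizer (Wof U : Set G)
  set C := centralizer ({t} : Set G) with hC
  obtain ⟨hA, htA, -⟩ := hE.card_le_mul (Invol.inv_mul_self ht)
    (fun a ha => mem_centralizer_singleton_iff.1 (Subgroup.mem_inf.1 (hEM ha)).2)
  set A := E ⊔ zpowers t
  have hAM : A ≤ M ⊓ C := sup_le hEM (zpowers_le.2 ⟨htM, mem_centralizer_singleton_iff.2 rfl⟩)
  have hA2 : IsPGroup 2 A := fun a => ⟨1, Subtype.ext (by rw [pow_one, Subgroup.coe_pow, pow_two]; exact hA _ a.2)⟩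
  have h8A : 8 ≤ Nat.card A := h8.trans (Nat.le_of_dvd Nat.card_pos (card_dvd_of_le le_sup_left))
  have hth : th t ≤ Wof U := by
    obtain ⟨m, hm, hmS⟩ := hB.exists_conj_le hI hA2 (hAM.trans inf_le_left)
    have h1 := hB.th_le hI hmS (hA.map _)
      (by rw [card_map_of_injective (f := (MulAut.conj m).toMonoidHom) (MulAut.conj m).injective]; exact h8A)
      (t := m * t * m⁻¹) ⟨t, htA, rfl⟩ (fun e => Invol.ne_one ht (by simpa using e))
    intro c hc
    have h2 := h1 ((th_conj hI ht).2 hc)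
    exact (mem_normalizer_iff.1 hm c).2 h2
  refine ⟨hth, ?_⟩
  obtain ⟨R, hR⟩ := (hA2.comap_subtype (K := C)).exists_le_sylow
  -- a Sylow subgroup of `C(t)` with largest meet with the normaliser
  obtain ⟨T₀, hT₀, hT₀max⟩ := Set.exists_max_image
    {T : Sylow 2 C | A.subgroupOf C ≤ T} (fun T => Nat.card ↥(((T : Subgroup C).map C.subtype) ⊓ M : Subgroup G))
    (Set.toFinite _) ⟨R, hR⟩
  set T := (T₀ : Subgroup C).map C.subtype with hT
  have hTp : IsPGroup 2 T := T₀.2.map _
  have hTM : T ≤ M := by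
    by_contra hne
    have hlt : T ⊓ M < T := lt_of_le_of_ne inf_le_left fun e => hne (e ▸ inf_le_right)
    obtain ⟨x, hx, hx'⟩ := SetLike.exists_of_lt (Cfsg.Lib.FusionSys.lt_inf_normalizer_self hTp hlt)
    obtain ⟨hxT, hxn⟩ := Subgroup.mem_inf.1 hx
    refine hx' (Subgroup.mem_inf.2 ⟨hxT, hB.fusion hI (hTp.to_le inf_le_left) inf_le_right ?_ hA h8A ?_⟩)
    · intro a ha
      exact Subgroup.mem_inf.2 ⟨⟨⟨a, (hAM ha).2⟩, hT₀ (show (⟨a, (hAM ha).2⟩ : C) ∈ A.subgroupOf C from ha), rfl⟩,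
        (hAM ha).1⟩
    · rw [Coprime.map_conj_eq_self hxn]; exact inf_le_right
  exact (th_facts hI ht).2.2.2 T₀ |>.trans (sup_le (hth.trans le_normalizer) hTM)

end Base

variable [IsSimpleGroup G]

theorem even_card (hna : ¬ IsMulCommutative G) : Even (Nat.card G) := by
  rw [← Nat.not_odd_iff_even]
  intro hodd
  haveI := Cfsg.Agent.S0205.result hodd
  exact hna ⟨⟨IsSimpleGroup.comm_iff_isSolvable.2 inferInstance⟩⟩

theorem index_ne_two (hna : ¬ IsMulCommutative G) (H : Subgroup G) [H.Normal] : H.index ≠ 2 := by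
  intro hH
  rcases (inferInstance : H.Normal).eq_bot_or_eq_top with h | h
  · rw [h, index_bot] at hH
    haveI : IsCyclic G := isCyclic_of_prime_card hH
    exact hna inferInstance
  · rw [h, index_top] at hH; omega

namespace Base

variable {S : Sylow 2 G} {U : Subgroup G} (hB : Base S U)
include hB

/-- Every involution is conjugate to one in an elementary subgroup of order eight of `S`. -/
theorem exists_covered (hna : ¬ IsMulCommutative G) (hr : ¬ Cfsg.PRankLE 2 2 (S : Subgroup G)) {t : G}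
    (ht : orderOf t = 2) :
    ∃ g : G, ∃ E : Subgroup G, E ≤ S ∧ El E ∧ 8 ≤ Nat.card E ∧ g * t * g⁻¹ ∈ E := by
  haveI : Fact (Nat.Prime 2) := ⟨Nat.prime_two⟩
  obtain ⟨-, E₁, hE₁S, hE₁, hE₁8⟩ := exists_base S hr
  obtain ⟨-, A, -, -, -, hUA, hAS, hA, hA8⟩ := hB.exists_big hE₁S hE₁ hE₁8
  have key : ∀ s ∈ (S : Subgroup G), s * s = 1 → s ∈ centralizer (U : Set G) →
      ∃ E : Subgroup G, E ≤ S ∧ El E ∧ 8 ≤ Nat.card E ∧ s ∈ E := by
    intro s hs hs2 hsc
    by_cases hsU : s ∈ U
    · exact ⟨A, hAS, hA, hA8, hUA hsU⟩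
    obtain ⟨h1, h2, h3⟩ := hB.el.card_le_mul hs2 fun a ha => mem_centralizer_iff.1 hsc a ha
    refine ⟨_, sup_le hB.le (zpowers_le.2 hs), h1, ?_, h2⟩
    have := h3 hsU
    rw [hB.card] at this
    exact this
  obtain ⟨g, hg⟩ : ∃ g : G, g * t * g⁻¹ ∈ (S : Subgroup G) := by
    obtain ⟨P, hP⟩ := (IsPGroup.of_card (p := 2) (n := 1) (by rw [Nat.card_zpowers, ht, pow_one]) :
      IsPGroup 2 (zpowers t)).exists_le_sylow
    obtain ⟨g, hgP⟩ := MulAction.exists_smul_eq G P S
    refine ⟨g, ?_⟩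
    rw [← hgP, Sylow.coe_subgroup_smul]
    exact Subgroup.smul_mem_pointwise_smul _ _ _ (hP (mem_zpowers t))
  set s := g * t * g⁻¹ with hs
  have hs2 : s * s = 1 := Invol.inv_mul_self (by rw [hs, orderOf_conj_eq, ht])
  by_cases hsc : s ∈ centralizer (U : Set G)
  · obtain ⟨E, h1, h2, h3, h4⟩ := key s hg hs2 hsc
    exact ⟨g, E, h1, h2, h3, h4⟩
  -- transfer the involution into the centraliser of `U`
  haveI : (U.subgroupOf S).Normal := (normal_subgroupOf_iff_le_normalizer hB.le).mpr hB.norm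
  set C' := (centralizer (U : Set G)).subgroupOf (S : Subgroup G) with hC'
  have hidx : C'.index = 2 := by
    have h1 : C'.index ≤ 2 := by
      have hc : Nat.card (U.subgroupOf (S : Subgroup G)) = 2 ^ 2 := by
        rw [Nat.card_congr (subgroupOfEquivOfLe hB.le).toEquiv, hB.card]; norm_num
      refine le_trans (Nat.le_of_dvd (Nat.pos_of_ne_zero index_ne_zero_of_finite) (index_dvd_of_le ?_))
        (Sig.RankThree.index_centralizer_le S.2 hc)
      intro x hx
      refine mem_subgroupOf.2 (mem_centralizer_iff.2 fun u hu => ?_)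
      exact congrArg Subtype.val (mem_centralizer_iff.1 hx ⟨u, hB.le hu⟩ (by exact hu))
    have h2 : C'.index ≠ 1 := fun e => hsc (by
      have := index_eq_one.1 e ▸ mem_top (⟨s, hg⟩ : (S : Subgroup G))
      exact this)
    have h3 : C'.index ≠ 0 := index_ne_zero_of_finite
    omega
  classical
  let φ : (S : Subgroup G) →* ℤˣ :=
    { toFun := fun x => if x ∈ C' then 1 else -1
      map_one' := if_pos (one_mem _)
      map_mul' := fun a b => by
        have := mul_mem_iff_of_index_two hidx (a := a) (b := b)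
        by_cases ha : a ∈ C' <;> by_cases hb : b ∈ C' <;> simp_all }
  obtain ⟨a, ha, hφ, -⟩ := Cfsg.Agent.Kondo.exists_extremal_conj (fun H hH => haveI := hH; index_ne_two hna H) S φ s hs2
  have haC : a⁻¹ * s * a ∈ centralizer (U : Set G) := by
    by_contra hn
    have : φ ⟨_, ha⟩ = -1 := if_neg hn
    rw [hφ] at this
    exact absurd this (by decide)
  have hs2' : a⁻¹ * s * a * (a⁻¹ * s * a) = 1 := by
    calc a⁻¹ * s * a * (a⁻¹ * s * a) = a⁻¹ * (s * s) * a := by group
      _ = 1 := by rw [hs2]; group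
  obtain ⟨E, h1, h2, h3, h4⟩ := key _ ha hs2' haC
  exact ⟨a⁻¹ * g, E, h1, h2, h3, by
    rw [show a⁻¹ * g * t * (a⁻¹ * g)⁻¹ = a⁻¹ * s * a by rw [hs]; group]; exact h4⟩

variable (hI : AllNilp G)
include hI

/-- The centraliser of every involution of the normaliser lies there. -/
theorem exists_el (hna : ¬ IsMulCommutative G) (hr : ¬ Cfsg.PRankLE 2 2 (S : Subgroup G)) {t : G}
    (ht : orderOf t = 2) (htM : t ∈ normalizer (Wof U : Set G)) :
    ∃ E : Subgroup G, E ≤ normalizer (Wof U : Set G) ⊓ centralizer ({t} : Set G) ∧ El E ∧ 8 ≤ Nat.card E := by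
  haveI : Fact (Nat.Prime 2) := ⟨Nat.prime_two⟩
  set M := normalizer (Wof U : Set G)
  by_contra hno
  push Not at hno
  -- normalise the Sylow subgroup of the centraliser in `M`
  obtain ⟨R⟩ : Nonempty (Sylow 2 ↥(M ⊓ centralizer ({t} : Set G))) := inferInstance
  obtain ⟨m, hm, hmS⟩ := hB.exists_conj_le hI (R.2.map (M ⊓ centralizer ({t} : Set G)).subtype)
    ((map_subtype_le _).trans inf_le_left)
  set c := (MulAut.conj m).toMonoidHom
  have hcinj : Function.Injective c := (MulAut.conj m).injective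
  set v := m * t * m⁻¹ with hv
  set Cv := centralizer ({v} : Set G) with hCv
  have hv2 : orderOf v = 2 := by rw [hv, orderOf_conj_eq, ht]
  have htC : t ∈ M ⊓ centralizer ({t} : Set G) := ⟨htM, mem_centralizer_singleton_iff.2 rfl⟩
  have hcen : ∀ a : G, Commute a t ↔ Commute (c a) v := fun a =>
    ⟨fun h => h.map c, fun h => Commute.of_map (f := c) hcinj h⟩
  have hmapM : ∀ a : G, a ∈ M ↔ c a ∈ M := fun a => by
    constructor
    · exact fun h => mul_mem (mul_mem hm h) (inv_mem hm)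
    · intro h
      have := mul_mem (mul_mem (inv_mem hm) h) hm
      rwa [show m⁻¹ * c a * m = a by show m⁻¹ * (m * a * m⁻¹) * m = a; group] at this
  have hno' : ∀ E : Subgroup G, E ≤ M ⊓ Cv → El E → Nat.card E < 8 := fun E hE hEl => by
    have := hno (E.map (MulAut.conj m⁻¹).toMonoidHom) ?_ (hEl.map _)
    · rwa [card_map_of_injective (f := (MulAut.conj m⁻¹).toMonoidHom) (MulAut.conj m⁻¹).injective] at this
    rintro _ ⟨e, he, rfl⟩
    have e1 : c ((MulAut.conj m⁻¹).toMonoidHom e) = e := by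
      show m * (m⁻¹ * e * m⁻¹⁻¹) * m⁻¹ = e
      group
    refine ⟨(hmapM _).2 (by rw [e1]; exact (hE he).1), mem_centralizer_singleton_iff.2 ((hcen _).2 ?_).eq⟩
    rw [e1]; exact mem_centralizer_singleton_iff.1 (hE he).2
  have hRS : ((R : Subgroup ↥(M ⊓ centralizer ({t} : Set G))).map (M ⊓ centralizer ({t} : Set G)).subtype).map c ≤
      (S : Subgroup G) ⊓ Cv := fun y hy => ⟨hmS hy, by
    obtain ⟨_, ⟨r, -, rfl⟩, rfl⟩ := hy
    exact mem_centralizer_singleton_iff.2 ((hcen _).1 (mem_centralizer_singleton_iff.1 r.2.2)).eq⟩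
  have hvS : v ∈ (S : Subgroup G) := by
    refine hmS ⟨t, ⟨⟨t, htC⟩, ?_, rfl⟩, rfl⟩
    have : zpowers (⟨t, htC⟩ : ↥(M ⊓ centralizer ({t} : Set G))) ≤ R := by
      haveI : (zpowers (⟨t, htC⟩ : ↥(M ⊓ centralizer ({t} : Set G)))).Normal := ⟨by
        rintro _ ⟨k, rfl⟩ g
        refine ⟨k, ?_⟩
        have hg : g * ⟨t, htC⟩ * g⁻¹ = ⟨t, htC⟩ := Subtype.ext (by
          show (g : G) * t * (g : G)⁻¹ = t
          rw [mem_centralizer_singleton_iff.1 g.2.2, mul_inv_cancel_right])
        show _ = g * _ * g⁻¹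
        rw [← conj_zpow, hg]⟩
      exact IsPGroup.le_sylow_of_normal (IsPGroup.of_card (n := 1)
        (by rw [Nat.card_zpowers, Subgroup.orderOf_mk, ht, pow_one])) R
    exact this (mem_zpowers _)
  set T₀ := (S : Subgroup G) ⊓ Cv with hT₀
  have hT₀M : T₀ ≤ M ⊓ Cv := inf_le_inf (hB.sylow_le hI) le_rfl
  have hT₀card : ∀ Q : Subgroup G, IsPGroup 2 Q → Q ≤ M ⊓ Cv → Nat.card Q ≤ Nat.card T₀ := fun Q hQ hQle => by
    refine le_trans ?_ (Nat.le_of_dvd Nat.card_pos (card_dvd_of_le hRS))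
    rw [card_map_of_injective hcinj, card_map_of_injective (subtype_injective _), R.card_eq_multiplicity]
    have hQ' : (Q.map (MulAut.conj m⁻¹).toMonoidHom) ≤ M ⊓ centralizer ({t} : Set G) := by
      rintro _ ⟨q, hq, rfl⟩
      have e1 : c ((MulAut.conj m⁻¹).toMonoidHom q) = q := by
        show m * (m⁻¹ * q * m⁻¹⁻¹) * m⁻¹ = q
        group
      refine ⟨(hmapM _).2 (by rw [e1]; exact (hQle hq).1), mem_centralizer_singleton_iff.2 ((hcen _).2 ?_).eq⟩
      rw [e1]; exact mem_centralizer_singleton_iff.1 (hQle hq).2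
    obtain ⟨j, hj⟩ := IsPGroup.iff_card.1 (hQ.map (MulAut.conj m⁻¹).toMonoidHom)
    rw [← card_map_of_injective (K := Q) (f := (MulAut.conj m⁻¹).toMonoidHom) (MulAut.conj m⁻¹).injective, hj]
    refine Nat.pow_le_pow_right two_pos ((Nat.prime_two.pow_dvd_iff_le_factorization Nat.card_pos.ne').1 ?_)
    exact hj ▸ card_dvd_of_le hQ'
  -- a larger 2-subgroup of the centraliser
  obtain ⟨g, E, hES, hE, hE8, hgE⟩ := hB.exists_covered hna hr hv2
  have hEv : E.map (MulAut.conj g⁻¹).toMonoidHom ≤ Cv := by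
    rintro _ ⟨e, he, rfl⟩
    have := (hE.commute he hgE).map (MulAut.conj g⁻¹).toMonoidHom
    refine mem_centralizer_singleton_iff.2 ?_
    simpa [mul_assoc] using this.eq
  obtain ⟨T, hT⟩ := ((S.2.to_le (inf_le_left : T₀ ≤ (S : Subgroup G))).comap_subtype (K := Cv)).exists_le_sylow
  set T' := (T : Subgroup Cv).map Cv.subtype with hT'
  have hT'p : IsPGroup 2 T' := T.2.map _
  have hT₀T : T₀ ≤ T' := fun y hy => ⟨⟨y, hy.2⟩, hT (show (⟨y, hy.2⟩ : Cv) ∈ T₀.subgroupOf Cv from hy), rfl⟩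
  have hlt : T₀ < T' := by
    refine lt_of_le_of_ne hT₀T fun e => ?_
    obtain ⟨P, hP⟩ := ((show IsPGroup 2 (E.map (MulAut.conj g⁻¹).toMonoidHom) from
      fun a => ⟨1, Subtype.ext (by rw [pow_one, Subgroup.coe_pow, pow_two]; exact hE.map _ _ a.2)⟩).comap_subtype
        (K := Cv)).exists_le_sylow
    obtain ⟨d, hd⟩ := MulAction.exists_smul_eq Cv P T
    have hle : (E.map (MulAut.conj g⁻¹).toMonoidHom).map (MulAut.conj (d : G)).toMonoidHom ≤ T₀ := by
      rw [e]
      rintro _ ⟨y, hy, rfl⟩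
      refine ⟨d * ⟨y, hEv hy⟩ * d⁻¹, ?_, rfl⟩
      rw [← hd, Sylow.coe_subgroup_smul]
      exact Subgroup.smul_mem_pointwise_smul _ _ _
        (hP (show (⟨y, hEv hy⟩ : Cv) ∈ (E.map (MulAut.conj g⁻¹).toMonoidHom).subgroupOf Cv from hy))
    have := hno' _ (hle.trans hT₀M) (El.map (show El (E.map (MulAut.conj g⁻¹).toMonoidHom) from hE.map _) _)
    rw [card_map_of_injective (f := (MulAut.conj (d : G)).toMonoidHom) (MulAut.conj (d : G)).injective,
      card_map_of_injective (f := (MulAut.conj g⁻¹).toMonoidHom) (MulAut.conj g⁻¹).injective] at this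
    omega
  obtain ⟨x, hx, hx'⟩ := SetLike.exists_of_lt (Cfsg.Lib.FusionSys.lt_inf_normalizer_self hT'p hlt)
  obtain ⟨hxT, hxn⟩ := Subgroup.mem_inf.1 hx
  have hxv : Commute x v := by
    obtain ⟨y, -, rfl⟩ := hxT
    exact mem_centralizer_singleton_iff.1 y.2
  have hxM : x ∉ M := fun hxM => by
    have h1 : T₀ < T' ⊓ M := lt_of_le_of_ne (le_inf hT₀T (hT₀M.trans inf_le_left))
      fun e => hx' (e ▸ Subgroup.mem_inf.2 ⟨hxT, hxM⟩)
    have h2 := hT₀card (T' ⊓ M) (hT'p.to_le inf_le_left) (le_inf inf_le_right (inf_le_left.trans (map_subtype_le _)))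
    exact h1.ne (eq_of_le_of_card_ge h1.le h2)
  -- the structure of `S ∩ C(v)`
  obtain ⟨-, E₁, hE₁S, hE₁, hE₁8⟩ := exists_base S hr
  obtain ⟨-, A, -, -, -, hUA, hAS, hA, hA8⟩ := hB.exists_big hE₁S hE₁ hE₁8
  have hAM : A ≤ M := hAS.trans (hB.sylow_le hI)
  haveI hUn : (U.subgroupOf S).Normal := (normal_subgroupOf_iff_le_normalizer hB.le).mpr hB.norm
  obtain ⟨z, hzU, hzc, hz⟩ : ∃ z : (S : Subgroup G), z ∈ U.subgroupOf S ∧
      z ∈ center (S : Subgroup G) ∧ orderOf z = 2 := by
    refine PGroup.exists_mem_center_orderOf_eq S.2 (N := U.subgroupOf S) fun e => ?_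
    have := Nat.card_congr (subgroupOfEquivOfLe hB.le).toEquiv
    rw [e, Subgroup.card_bot, hB.card] at this
    omega
  have hzG : orderOf (z : G) = 2 := by rw [Subgroup.orderOf_coe, hz]
  have hzs : ∀ s ∈ (S : Subgroup G), Commute (z : G) s := fun s hs =>
    (congrArg Subtype.val (mem_center_iff.1 hzc ⟨s, hs⟩)).symm
  have hzC : centralizer ({(z : G)} : Set G) ≤ M := by
    refine (hB.cent_le hI hzG (hB.sylow_le hI z.2) (E := A) (fun a ha => ⟨hAM ha, ?_⟩) hA hA8).2
    exact mem_centralizer_singleton_iff.2 (hzs a (hAS ha)).symm.eq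
  have hvU : v ∉ centralizer (U : Set G) := by
    intro hvc
    by_cases hvU : v ∈ U
    · exact absurd (hno' A (le_inf hAM fun a ha => mem_centralizer_singleton_iff.2
        (hA.commute ha (hUA hvU)).eq) hA) (by omega)
    obtain ⟨h1, h2, h3⟩ := hB.el.card_le_mul (Invol.inv_mul_self hv2) fun a ha => mem_centralizer_iff.1 hvc a ha
    have h4 := h3 hvU
    rw [hB.card] at h4
    exact absurd (hno' _ (le_inf ((sup_le hB.le (zpowers_le.2 hvS)).trans (hB.sylow_le hI))
      fun a ha => mem_centralizer_singleton_iff.2 (h1.commute ha h2).eq) h1) (by omega)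
  -- squares and involutions
  have hR : ∀ y ∈ T₀, y ∈ centralizer (U : Set G) ∨ y * v ∈ centralizer (U : Set G) := by
    intro y hy
    have hidx : ((centralizer (U : Set G)).subgroupOf (S : Subgroup G)).index ≤ 2 := by
      have hc : Nat.card (U.subgroupOf (S : Subgroup G)) = 2 ^ 2 := by
        rw [Nat.card_congr (subgroupOfEquivOfLe hB.le).toEquiv, hB.card]; norm_num
      refine le_trans (Nat.le_of_dvd (Nat.pos_of_ne_zero index_ne_zero_of_finite) (index_dvd_of_le ?_))
        (Sig.RankThree.index_centralizer_le S.2 hc)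
      intro x hx
      refine mem_subgroupOf.2 (mem_centralizer_iff.2 fun u hu => ?_)
      exact congrArg Subtype.val (mem_centralizer_iff.1 hx ⟨u, hB.le hu⟩ (by exact hu))
    by_cases hyc : y ∈ centralizer (U : Set G)
    · exact Or.inl hyc
    refine Or.inr ?_
    have h2 : ((centralizer (U : Set G)).subgroupOf (S : Subgroup G)).index = 2 := by
      have h1 : ((centralizer (U : Set G)).subgroupOf (S : Subgroup G)).index ≠ 1 := fun e => hvU (by
        have := index_eq_one.1 e ▸ mem_top (⟨v, hvS⟩ : (S : Subgroup G))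
        exact this)
      have h3 : ((centralizer (U : Set G)).subgroupOf (S : Subgroup G)).index ≠ 0 := index_ne_zero_of_finite
      omega
    have := (mul_mem_iff_of_index_two h2 (a := ⟨y, hy.1⟩) (b := ⟨v, hvS⟩)).2
      ⟨fun e => absurd (mem_subgroupOf.1 e) hyc, fun e => absurd (mem_subgroupOf.1 e) hvU⟩
    exact this
  have hinv : ∀ r ∈ T₀, r ∈ centralizer (U : Set G) → r * r = 1 → r = 1 ∨ r = (z : G) := by
    intro r hr hrc hr2
    by_contra hne
    push Not at hne
    have hz1 : (z : G) ≠ 1 := Invol.ne_one hzG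
    have hZ : El (zpowers (z : G)) := by
      rintro _ ⟨k, rfl⟩
      show (z : G) ^ k * (z : G) ^ k = 1
      rw [← (Commute.refl (z : G)).mul_zpow, Invol.inv_mul_self hzG, one_zpow]
    obtain ⟨h1, h1m, h1c⟩ := hZ.card_le_mul hr2 fun a ha => by
      obtain ⟨k, rfl⟩ := ha
      exact ((hzs r hr.1).zpow_left k).eq
    have hrz : r ∉ zpowers (z : G) := by
      intro hmem
      rw [mem_zpowers_iff] at hmem
      obtain ⟨k, rfl⟩ := hmem
      rcases Int.even_or_odd k with ⟨i, rfl⟩ | ⟨i, rfl⟩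
      · exact hne.1 (by rw [zpow_add, ← (Commute.refl (z : G)).mul_zpow, Invol.inv_mul_self hzG, one_zpow])
      · exact hne.2 (by rw [zpow_add, zpow_one, two_mul, zpow_add, ← (Commute.refl (z : G)).mul_zpow,
          Invol.inv_mul_self hzG, one_zpow, one_mul])
    have h4 : 4 ≤ Nat.card ↥(zpowers (z : G) ⊔ zpowers r) := by
      have := h1c hrz
      rw [Nat.card_zpowers, hzG] at this
      exact this
    have hle : zpowers (z : G) ⊔ zpowers r ≤ centralizer (U : Set G) :=
      sup_le (zpowers_le.2 (mem_centralizer_iff.2 fun u hu => (hzs u (hB.le hu)).symm.eq)) (zpowers_le.2 hrc)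
    have hleS : zpowers (z : G) ⊔ zpowers r ≤ T₀ :=
      sup_le (zpowers_le.2 ⟨z.2, mem_centralizer_singleton_iff.2 (hzs v hvS).eq⟩) (zpowers_le.2 hr)
    obtain ⟨h5, -, h5c⟩ := h1.card_le_mul (Invol.inv_mul_self hv2)
      fun a ha => mem_centralizer_singleton_iff.1 (hleS ha).2
    have := h5c fun e => hvU (hle e)
    exact absurd (hno' _ (sup_le (hleS.trans hT₀M) (zpowers_le.2 ⟨hB.sylow_le hI hvS,
      mem_centralizer_singleton_iff.2 rfl⟩)) h5) (by omega)
  have hsq : ∀ y ∈ T₀, y * y ∈ centralizer (U : Set G) := by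
    intro y hy
    rcases hR y hy with h | h
    · exact mul_mem h h
    · have hc : Commute y v := mem_centralizer_singleton_iff.1 hy.2
      have := mul_mem h h
      rwa [hc.symm.mul_mul_mul_comm, Invol.inv_mul_self hv2, mul_one] at this
  have hzT : (z : G) ∈ T₀ := ⟨z.2, mem_centralizer_singleton_iff.2 (hzs v hvS).eq⟩
  have hvT : v ∈ T₀ := ⟨hvS, mem_centralizer_singleton_iff.2 rfl⟩
  set z' := x * (z : G) * x⁻¹ with hz'
  have hz'T : z' ∈ T₀ := (mem_normalizer_iff.1 hxn (z : G)).1 hzT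
  have hz'2 : z' * z' = 1 := Invol.inv_mul_self (by rw [hz', orderOf_conj_eq, hzG])
  have hz'eq : z' = (z : G) * v := by
    have hz'1 : z' ≠ 1 := fun e => Invol.ne_one hzG (by simpa [hz'] using e)
    have hz'z : z' ≠ (z : G) := fun e => hxM (hzC (mem_centralizer_singleton_iff.2 (by
      calc x * (z : G) = z' * x := by rw [hz']; group
        _ = (z : G) * x := by rw [e])))
    have hz'v : z' ≠ v := fun e => by
      apply hvU
      have : (z : G) = v := by
        calc (z : G) = x⁻¹ * z' * x := by rw [hz']; group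
          _ = x⁻¹ * (v * x) := by rw [e, mul_assoc]
          _ = v := by rw [← hxv.eq, inv_mul_cancel_left]
      rw [← this]
      exact mem_centralizer_iff.2 fun u hu => (hzs u (hB.le hu)).symm.eq
    rcases hR z' hz'T with h | h
    · rcases hinv z' hz'T h hz'2 with e | e
      · exact absurd e hz'1
      · exact absurd e hz'z
    · have hc : Commute z' v := mem_centralizer_singleton_iff.1 hz'T.2
      rcases hinv _ (mul_mem hz'T hvT) h
        (by rw [hc.symm.mul_mul_mul_comm, hz'2, Invol.inv_mul_self hv2, one_mul]) with e | e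
      · exact absurd (by rw [eq_inv_of_mul_eq_one_left e, Invol.inv_eq_self hv2]) hz'v
      · rw [← e, mul_assoc, Invol.inv_mul_self hv2, mul_one]
  have hexp : ∀ y ∈ T₀, y ∈ centralizer (U : Set G) → y * y = 1 := by
    intro y hy hyc
    obtain ⟨k, hk⟩ := IsPGroup.iff_orderOf.1 (S.2.to_le (inf_le_left : T₀ ≤ (S : Subgroup G))) ⟨y, hy⟩
    rw [Subgroup.orderOf_mk] at hk
    by_contra hy2
    obtain ⟨j, rfl⟩ : ∃ j, k = j + 2 := by
      refine ⟨k - 2, ?_⟩
      by_contra hk2
      refine hy2 ?_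
      rw [← pow_two, ← orderOf_dvd_iff_pow_eq_one, hk, show (2 : ℕ) = 2 ^ 1 from rfl, ← pow_mul]
      exact pow_dvd_pow 2 (by omega)
    set q := y ^ 2 ^ j
    have hq4 : orderOf q = 4 := by
      rw [orderOf_pow_of_dvd (pow_ne_zero _ two_ne_zero) (hk ▸ pow_dvd_pow 2 (by omega)), hk, pow_add,
        Nat.mul_div_cancel_left _ (pow_pos two_pos j)]
      norm_num
    have hqT : q ∈ T₀ := pow_mem hy _
    have hqq : q * q = (z : G) := by
      refine (hinv _ (mul_mem hqT hqT) (mul_mem (pow_mem hyc _) (pow_mem hyc _)) ?_).resolve_left fun e => ?_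
      · rw [← pow_two, ← pow_two, ← pow_mul, show 2 * 2 = orderOf q by rw [hq4], pow_orderOf_eq_one]
      · have := orderOf_dvd_of_pow_eq_one (show q ^ 2 = 1 by rw [pow_two]; exact e)
        rw [hq4] at this; omega
    have h1 := hsq _ ((mem_normalizer_iff.1 hxn q).1 hqT)
    rw [show x * q * x⁻¹ * (x * q * x⁻¹) = x * (q * q) * x⁻¹ by group, hqq, ← hz', hz'eq] at h1
    exact hvU (((centralizer (U : Set G)).mul_mem_cancel_left
      (mem_centralizer_iff.2 fun u hu => (hzs u (hB.le hu)).symm.eq)).1 h1)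
  -- so `C_S(v)` has order four
  have hT₀4 : ∀ y ∈ T₀, y = 1 ∨ y = (z : G) ∨ y = v ∨ y = (z : G) * v := by
    intro y hy
    rcases hR y hy with h | h
    · rcases hinv y hy h (hexp y hy h) with e | e
      exacts [Or.inl e, Or.inr (Or.inl e)]
    · rcases hinv _ (mul_mem hy hvT) h (hexp _ (mul_mem hy hvT) h) with e | e
      · exact Or.inr (Or.inr (Or.inl (by rw [eq_inv_of_mul_eq_one_left e, Invol.inv_eq_self hv2])))
      · exact Or.inr (Or.inr (Or.inr (by rw [← e, mul_assoc, Invol.inv_mul_self hv2, mul_one])))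
  have hcard4 : Nat.card ↥(centralizer ({(⟨v, hvS⟩ : (S : Subgroup G))} : Set (S : Subgroup G))) = 4 := by
    have hmem : ∀ y : (S : Subgroup G), y ∈ centralizer ({(⟨v, hvS⟩ : (S : Subgroup G))} : Set (S : Subgroup G)) ↔
        (y : G) ∈ T₀ := fun y => by
      rw [mem_centralizer_singleton_iff, hT₀, Subgroup.mem_inf, hCv, mem_centralizer_singleton_iff,
        Subtype.ext_iff]
      simp
    have h1 : Nat.card ↥(centralizer ({(⟨v, hvS⟩ : (S : Subgroup G))} : Set (S : Subgroup G))) ≤ 4 := by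
      classical
      refine le_trans (Nat.card_le_card_of_injective (fun y => (⟨((y.1 : (S : Subgroup G)) : G), by
        rcases hT₀4 _ ((hmem y.1).1 y.2) with e | e | e | e <;> simp [e]⟩ :
        ({1, (z : G), v, (z : G) * v} : Finset G))) fun a b e => Subtype.ext (Subtype.ext
          (congrArg (fun w : ({1, (z : G), v, (z : G) * v} : Finset G) => (w : G)) e))) ?_
      rw [Nat.card_eq_fintype_card, Fintype.card_coe]
      exact Finset.card_le_four
    have hzv : El (zpowers (z : G)) := by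
      rintro _ ⟨k, rfl⟩
      show (z : G) ^ k * (z : G) ^ k = 1
      rw [← (Commute.refl (z : G)).mul_zpow, Invol.inv_mul_self hzG, one_zpow]
    obtain ⟨-, -, h4⟩ := hzv.card_le_mul (Invol.inv_mul_self hv2) fun a ha => by
      obtain ⟨k, rfl⟩ := ha
      exact ((hzs v hvS).zpow_left k).eq
    have h5 := h4 fun e => hvU ((zpowers_le.2 (mem_centralizer_iff.2 fun u hu => (hzs u (hB.le hu)).symm.eq)) e)
    rw [Nat.card_zpowers, hzG] at h5
    refine le_antisymm h1 (h5.trans ?_)
    refine Nat.card_le_card_of_injective (fun a => ⟨⟨(a : G), sup_le (zpowers_le.2 z.2) (zpowers_le.2 hvS) a.2⟩,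
      (hmem _).2 (sup_le (zpowers_le.2 hzT) (zpowers_le.2 hvT) a.2)⟩) fun a b e => Subtype.ext
        (congrArg (fun w : ↥(centralizer ({(⟨v, hvS⟩ : (S : Subgroup G))} : Set (S : Subgroup G))) =>
          ((w.1 : (S : Subgroup G)) : G)) e)
  exact hr (Cfsg.Lib.StrongEmb.rankLE_two_of_card_four S.2 (by rw [Subgroup.orderOf_mk, hv2]) hcard4)

end Base

end Cfsg.Lib.StrongEmb.Cover
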