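import Cfsg.Agent.Lib.StrongEmb.RealOdd
import Cfsg.Agent.Lib.Char.Induced

/-!
# The class sum of the involutions of `H` on the fixed vectors of a transitive subgroup

Let `N` be generated by the involutions of `H`, `θ` a real irreducible character of `N` of odd
degree and `D` a subgroup of odd order of `H` transitive on the involutions of `H`. If `w` is one
of them and `E = D ⊓ D^w`, then the sum of `θ` over the involutions is divisible by the degree times
the number of elements of `E` inverted by `w`.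
-/

set_option autoImplicit false
set_option linter.style.haveILetI false
set_option linter.unusedSectionVars false

namespace Cfsg.Lib.StrongEmb

open Subgroup Cfsg Cfsg.Lib.Invol Cfsg.Lib.Char
open Cfsg.Lib.Char.RealOdd (IsReal)
open scoped ComplexConjugate

universe u

attribute [local instance 100] Fintype.ofFinite

variable {G : Type u} [Group G] [Finite G]

/-- The subgroup generated by the involutions of `H`. -/
def invClosure (H : Subgroup G) : Subgroup G := closure {t | orderOf t = 2 ∧ t ∈ H}

theorem invClosure_le (H : Subgroup G) : invClosure H ≤ H :=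
  (closure_le _).2 fun _ ht => ht.2

theorem mem_invClosure {H : Subgroup G} {t : G} (ht : orderOf t = 2) (htH : t ∈ H) :
    t ∈ invClosure H :=
  subset_closure ⟨ht, htH⟩

/-- The involutions of `H`, in the subgroup they generate. -/
noncomputable def invFinset (H : Subgroup G) : Finset ↥(invClosure H) :=
  Finset.univ.filter fun x => orderOf (x : G) = 2

theorem mem_invFinset {H : Subgroup G} {x : ↥(invClosure H)} :
    x ∈ invFinset H ↔ orderOf (x : G) = 2 := by simp [invFinset]

theorem conjClosed_invFinset (H : Subgroup G) : ConjClosed (invFinset H) := fun k x hx => by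
  rw [mem_invFinset] at hx ⊢
  simp only [Subgroup.coe_mul, InvMemClass.coe_inv]
  rw [Invol.orderOf_conj_eq, hx]

theorem card_invFinset (H : Subgroup G) : (invFinset H).card = kInv H := by
  rw [kInv, ← Fintype.card_coe, ← Nat.card_eq_fintype_card]
  exact Nat.card_congr
    { toFun := fun x => ⟨x.1, mem_invFinset.1 x.2, invClosure_le H x.1.2⟩
      invFun := fun t => ⟨⟨t.1, mem_invClosure t.2.1 t.2.2⟩, mem_invFinset.2 t.2.1⟩
      left_inv := fun x => rfl
      right_inv := fun t => rfl }

/-- The sum of `θ` over the involutions is divisible by its degree times the number of elements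
of `D ⊓ D^w` inverted by `w`. -/
theorem exists_dvd_sum {H : Subgroup G} {θ : ↥(invClosure H) → ℂ}
    (hθ : IsIrrCharacter ↥(invClosure H) θ) (hr : IsReal θ) {d : ℕ} (hd : θ 1 = d) (hodd : Odd d)
    (D : Subgroup G) (hDH : D ≤ H) (hD : Odd (Nat.card D)) {w : G} (hw : orderOf w = 2) (hwH : w ∈ H)
    (htr : ∀ t : G, orderOf t = 2 → t ∈ H → ∃ x ∈ D, x * w * x⁻¹ = t) {S : ℤ}
    (hS : ∑ u ∈ invFinset H, θ u = S) :
    ∃ m : ℤ, S = (d : ℤ) * (invSet w (D ⊓ D.map (MulAut.conj w).toMonoidHom)).ncard * m := by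
  classical
  set E := D ⊓ D.map (MulAut.conj w).toMonoidHom with hEdef
  have hww := inv_mul_self hw
  have hwE : w ∈ normalizer (E : Set G) := mem_normalizer_fintype fun y hy => by
    obtain ⟨h1, z, hz, rfl⟩ := hy
    refine ⟨?_, _, h1, rfl⟩
    show w * (w * z * w⁻¹) * w⁻¹ ∈ D
    rwa [inv_eq_self hw, show w * (w * z * w) * w = (w * w) * z * (w * w) by group, hww, one_mul,
      mul_one]
  set Θ := extendByZero (invClosure H) θ with hΘ
  set ω : ℂ := (S : ℂ) / d with hω
  have hd0 : (d : ℂ) ≠ 0 := Nat.cast_ne_zero.2 hodd.pos.ne'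
  -- the class sum acts as a scalar
  have hclass : ∀ g : G, ∑ u ∈ invFinset H, Θ (g * u) = ω * Θ g := by
    intro g
    by_cases hg : g ∈ invClosure H
    · have h1 : ∀ u : ↥(invClosure H), Θ (g * u) = θ ((⟨g, hg⟩ : ↥(invClosure H)) * u) := fun u =>
        extendByZero_coe _ θ ((⟨g, hg⟩ : ↥(invClosure H)) * u)
      rw [Finset.sum_congr rfl fun u _ => h1 u, sum_conjClosed_char (conjClosed_invFinset H) hθ,
        hS, hd, hΘ, extendByZero_of_mem _ θ hg, hω]
      ring
    · rw [hΘ, extendByZero_of_notMem _ θ hg, mul_zero]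
      refine Finset.sum_eq_zero fun u _ => extendByZero_of_notMem _ θ fun h => hg ?_
      simpa using mul_mem h (inv_mem u.2)
  set f : G → ℂ := fun g => ∑ x : D, Θ (g * x) with hf
  have hfD : ∀ g : G, ∀ y ∈ D, f (g * y) = f g := fun g y hy =>
    Fintype.sum_equiv (Equiv.mulLeft (⟨y, hy⟩ : D)) _ _ fun x => by simp [mul_assoc]
  have hf1 : f 1 ≠ 0 := by
    have h1 : f 1 = ∑ r : D.subgroupOf (invClosure H), θ r := by
      simp only [hf, one_mul]
      refine (Finset.sum_of_injOn (fun r : D.subgroupOf (invClosure H) => (⟨r.1, r.2⟩ : D))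
        (fun a _ b _ e => ?_) (fun a _ => Finset.mem_coe.2 (Finset.mem_univ _)) (fun x _ hx => ?_)
        (fun r _ => ?_)).symm
      · exact Subtype.ext (Subtype.ext (congrArg (fun x : D => (x : G)) e))
      · refine extendByZero_of_notMem _ θ fun hxN => hx ?_
        exact ⟨⟨⟨x, hxN⟩, x.2⟩, Finset.mem_coe.2 (Finset.mem_univ _), rfl⟩
      · exact (extendByZero_coe _ θ r.1).symm
    rw [h1]
    refine sum_ne_zero_of_real hθ.isCharacter hr hd hodd _ (hD.of_dvd_nat ?_)
    exact (Subgroup.card_comap_dvd_of_injective D _ (invClosure H).subtype_injective)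
  have hf0 : f ≠ 0 := fun e => hf1 (congrFun e 1)
  have hfclass : ∀ g : G, ∑ u ∈ invFinset H, f (g * u) = ω * f g := by
    intro g
    simp only [hf]
    rw [Finset.sum_comm, Finset.mul_sum]
    refine Finset.sum_congr rfl fun x _ => ?_
    rw [← hclass]
    have hmem : ∀ a : G, a ∈ H → ∀ u : ↥(invClosure H), u ∈ invFinset H →
        a * u * a⁻¹ ∈ invClosure H := fun a ha u hu => mem_invClosure
      (by rw [Invol.orderOf_conj_eq]; exact mem_invFinset.1 hu)
      (mul_mem (mul_mem ha (invClosure_le H u.2)) (inv_mem ha))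
    have hxH : (x : G)⁻¹ ∈ H := inv_mem (hDH x.2)
    refine Finset.sum_bij' (fun u hu => ⟨_, hmem _ hxH u hu⟩)
      (fun u hu => ⟨_, hmem _ (hDH x.2) u hu⟩)
      (fun u hu => mem_invFinset.2 (by rw [Invol.orderOf_conj_eq]; exact mem_invFinset.1 hu))
      (fun u hu => mem_invFinset.2 (by rw [Invol.orderOf_conj_eq]; exact mem_invFinset.1 hu))
      (fun u _ => Subtype.ext (by group)) (fun u _ => Subtype.ext (by group)) (fun u _ => ?_)
    congr 1
    group
  -- the involutions are the conjugates of `w` under `D`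
  set C := (centralizer ({w} : Set G)).subgroupOf D with hC
  have hcount : ∀ g : G, (Nat.card C : ℂ) * (ω * f g) = ∑ x : D, f (g * x * w) := by
    intro g
    set φ : D → ↥(invClosure H) := fun x => ⟨x * w * (x : G)⁻¹, mem_invClosure
      (by rw [Invol.orderOf_conj_eq, hw]) (mul_mem (mul_mem (hDH x.2) hwH) (inv_mem (hDH x.2)))⟩
      with hφ
    have hmaps : ∀ x ∈ (Finset.univ : Finset D), φ x ∈ invFinset H := fun x _ =>
      mem_invFinset.2 (by rw [hφ]; exact (Invol.orderOf_conj_eq _ _).trans hw)
    have hfib : ∀ u ∈ invFinset H, (Finset.univ.filter fun x : D => φ x = u).card = Nat.card C := by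
      intro u hu
      obtain ⟨x₀, hx₀, hx₀u⟩ := htr u (mem_invFinset.1 hu) (invClosure_le H u.2)
      have key : ∀ x : D, φ x = u ↔ (⟨x₀, hx₀⟩ : D)⁻¹ * x ∈ C := by
        intro x
        rw [hC, mem_subgroupOf, mem_centralizer_singleton_iff, Subtype.ext_iff, hφ, ← hx₀u]
        simp only [Subgroup.coe_mul, InvMemClass.coe_inv]
        constructor <;> intro h
        · calc x₀⁻¹ * (x : G) * w = x₀⁻¹ * ((x : G) * w * (x : G)⁻¹) * x := by group
            _ = w * (x₀⁻¹ * x) := by rw [h]; group
        · calc (x : G) * w * (x : G)⁻¹ = x₀ * (x₀⁻¹ * (x : G) * w) * (x : G)⁻¹ := by group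
            _ = x₀ * w * x₀⁻¹ := by rw [h]; group
      rw [← Fintype.card_coe, ← Nat.card_eq_fintype_card]
      exact Nat.card_congr
        { toFun := fun x => ⟨_, (key x.1).1 (Finset.mem_filter.1 x.2).2⟩
          invFun := fun c => ⟨⟨x₀, hx₀⟩ * c.1, Finset.mem_filter.2 ⟨Finset.mem_univ _,
            (key _).2 (by simp)⟩⟩
          left_inv := fun x => Subtype.ext (by simp)
          right_inv := fun c => Subtype.ext (by simp) }
    calc (Nat.card C : ℂ) * (ω * f g)
        = ∑ u ∈ invFinset H, ∑ x ∈ Finset.univ.filter (fun x : D => φ x = u), f (g * u) := by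
          rw [← hfclass, Finset.mul_sum]
          refine Finset.sum_congr rfl fun u hu => ?_
          rw [Finset.sum_const, hfib u hu, nsmul_eq_mul]
      _ = ∑ x : D, f (g * φ x) := by
          rw [← Finset.sum_fiberwise_of_maps_to hmaps fun x => f (g * φ x)]
          refine Finset.sum_congr rfl fun u _ => Finset.sum_congr rfl fun x hx => ?_
          rw [(Finset.mem_filter.1 hx).2]
      _ = _ := by
          refine Finset.sum_congr rfl fun x _ => ?_
          show f (g * ((x : G) * w * (x : G)⁻¹)) = _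
          rw [show g * ((x : G) * w * (x : G)⁻¹) = g * x * w * (x : G)⁻¹ by group]
          exact hfD _ _ (inv_mem x.2)
  -- grouping over the cosets of `E`
  have hED : E ≤ D := inf_le_left
  set E' := E.subgroupOf D with hE'
  have hgroup : ∀ g : G, ∑ x : D, f (g * x * w) =
      (Nat.card E : ℂ) * ∑ q : D ⧸ E', f (g * (q.out : D) * w) := by
    intro g
    rw [← Finset.sum_fiberwise Finset.univ (fun x : D => (x : D ⧸ E')) (fun x : D => f (g * x * w)),
      Finset.mul_sum]
    refine Finset.sum_congr rfl fun q _ => ?_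
    have hcard : (Finset.univ.filter fun x : D => (x : D ⧸ E') = q).card = Nat.card E := by
      rw [← Fintype.card_coe, ← Nat.card_eq_fintype_card,
        ← Nat.card_congr (subgroupOfEquivOfLe hED).toEquiv]
      exact Nat.card_congr
        { toFun := fun x => ⟨q.out⁻¹ * x.1, QuotientGroup.eq.1
            (by rw [QuotientGroup.out_eq']; exact (Finset.mem_filter.1 x.2).2.symm)⟩
          invFun := fun c => ⟨q.out * c.1, Finset.mem_filter.2 ⟨Finset.mem_univ _, by
            rw [QuotientGroup.mk_mul_of_mem _ c.2, QuotientGroup.out_eq']⟩⟩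
          left_inv := fun x => Subtype.ext (by simp)
          right_inv := fun c => Subtype.ext (by simp) }
    rw [← hcard, ← nsmul_eq_mul, ← Finset.sum_const]
    refine Finset.sum_congr rfl fun x hx => ?_
    have hx' : q.out⁻¹ * x ∈ E' := QuotientGroup.eq.1
      (by rw [QuotientGroup.out_eq']; exact (Finset.mem_filter.1 hx).2.symm)
    obtain ⟨e, he⟩ : ∃ e : E, (x : G) = ((q.out : D) : G) * e :=
      ⟨⟨_, mem_subgroupOf.1 hx'⟩, by simp⟩
    rw [he, show g * (((q.out : D) : G) * e) * w = g * ((q.out : D) : G) * w * (w⁻¹ * e * w) by group]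
    refine hfD _ _ (Subgroup.mem_inf.1 (?_ : w⁻¹ * (e : G) * w ∈ E)).1
    have := conj_mem_of_norm (inv_mem hwE) e.2
    rwa [inv_inv] at this
  set l := (invSet w E).ncard with hl
  have hcardE : Nat.card E = l * Nat.card C := by
    have h1 : (centralizer ({w} : Set G)).subgroupOf E = (centralizer ({w} : Set G)).subgroupOf E := rfl
    rw [hl, ncard_invSet hw hwE (hD.of_dvd_nat (card_dvd_of_le hED)),
      ← index_mul_card ((centralizer ({w} : Set G)).subgroupOf E)]
    congr 1
    refine Nat.card_congr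
      { toFun := fun x => ⟨⟨x.1.1, hED x.1.2⟩, mem_subgroupOf.2 (mem_subgroupOf.1 x.2)⟩
        invFun := fun y => ⟨⟨y.1.1, y.1.2, y.1.1, y.1.2, ?_⟩, mem_subgroupOf.2 (mem_subgroupOf.1 y.2)⟩
        left_inv := fun x => rfl
        right_inv := fun y => rfl }
    show w * (y.1 : G) * w⁻¹ = y.1
    rw [← mem_centralizer_singleton_iff.1 (mem_subgroupOf.1 y.2), mul_inv_cancel_right]
  have hl0 : l ≠ 0 := fun e => Nat.card_pos.ne' (by rw [hcardE, e, zero_mul] : Nat.card E = 0)
  have hC0 : (Nat.card C : ℂ) ≠ 0 := Nat.cast_ne_zero.2 Nat.card_pos.ne'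
  set M : Matrix G G ℤ := fun g h =>
    ((Finset.univ.filter fun q : D ⧸ E' => g * ((q.out : D) : G) * w = h).card : ℤ) with hM
  have heig : ∀ g : G, ∑ h, (M g h : ℂ) * f h = ω / l * f g := by
    intro g
    have h1 : ∑ h, (M g h : ℂ) * f h = ∑ q : D ⧸ E', f (g * ((q.out : D) : G) * w) := by
      rw [← Finset.sum_fiberwise Finset.univ (fun q : D ⧸ E' => g * ((q.out : D) : G) * w)
        (fun q : D ⧸ E' => f (g * ((q.out : D) : G) * w))]
      refine Finset.sum_congr rfl fun h _ => ?_
      rw [Finset.sum_congr rfl (g := fun _ => f h) fun q hq => by rw [(Finset.mem_filter.1 hq).2],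
        Finset.sum_const, nsmul_eq_mul, hM]
      push_cast
      rfl
    have h2 := hcount g
    rw [hgroup, hcardE, Nat.cast_mul] at h2
    rw [h1, div_mul_eq_mul_div, eq_div_iff (Nat.cast_ne_zero.2 hl0)]
    refine mul_left_cancel₀ hC0 ?_
    linear_combination -h2
  have hint : IsIntegral ℤ (ω / l) := isIntegral_of_eigen M _ f hf0 heig
  have hq : IsIntegral ℤ ((((S : ℚ) / ((d : ℚ) * l)) : ℚ) : ℂ) := by
    have h3 : ((((S : ℚ) / ((d : ℚ) * l)) : ℚ) : ℂ) = ω / l := by
      rw [hω, div_div]
      push_cast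
      ring
    rw [h3]
    exact hint
  obtain ⟨m, hm⟩ := exists_int_of_isIntegral_rat hq
  refine ⟨m, ?_⟩
  rw [div_eq_iff (mul_ne_zero (Nat.cast_ne_zero.2 hodd.pos.ne') (Nat.cast_ne_zero.2 hl0))] at hm
  exact_mod_cast hm.trans (mul_comm _ _)

end Cfsg.Lib.StrongEmb
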