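import Cfsg.Agent.Lib.StrongEmb.Invariant
import Cfsg.Agent.Lib.ZStar.Main
import Cfsg.Agent.Lib.Coprime.Generation

/-!
The action on the cosets of a strongly embedded subgroup: centres of involutions, swappers, and
the normalizers of odd subgroups moving a centre.
-/

set_option autoImplicit false
set_option linter.style.haveILetI false
set_option linter.unusedSectionVars false

namespace Cfsg.Lib.StrongEmb

open Subgroup Cfsg Cfsg.Lib.Invol MulAction

variable {G : Type*} [Group G] [Finite G] {H : Subgroup G}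

/-- The number of involutions of `H`. -/
noncomputable def kInv (H : Subgroup G) : ℕ := Nat.card {t : G // orderOf t = 2 ∧ t ∈ H}

variable (hH : IsStronglyEmbedded H)
include hH

theorem exists_fix {t : G} (ht : orderOf t = 2) : ∃ x : G ⧸ H, t • x = x := by
  obtain ⟨s, hs, hs2⟩ := exists_involution_of_even hH.2.1
  obtain ⟨g, hg⟩ := isConj_iff.mp (se_isConj hH hs2 ht)
  exact ⟨QuotientGroup.mk g, by rw [← hg, smul_coset_eq_iff]; simpa [mul_assoc] using hs⟩

theorem smul_eq_of_commute {t g : G} (ht : orderOf t = 2) {x : G ⧸ H} (hx : t • x = x)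
    (hg : Commute g t) : g • x = x :=
  se_fixed_unique hH ht (by rw [← mul_smul, ← hg.eq, mul_smul, hx]) hx

theorem exists_ne (x : G ⧸ H) : ∃ y : G ⧸ H, y ≠ x := by
  by_contra hc
  push Not at hc
  obtain ⟨v, hv, -⟩ := se_exists_outside hH
  exact hv (by
    have := (hc (QuotientGroup.mk v)).trans (hc (QuotientGroup.mk 1)).symm
    rwa [QuotientGroup.eq, mul_one, inv_mem_iff] at this)

theorem kInv_pos : 0 < kInv H := by
  obtain ⟨t, ht, ht2⟩ := exists_involution_of_even hH.2.1
  haveI : Nonempty {t : G // orderOf t = 2 ∧ t ∈ H} := ⟨⟨t, ht2, ht⟩⟩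
  exact Nat.card_pos

theorem exists_swapper {a b : G ⧸ H} (hab : a ≠ b) : ∃ w : G, orderOf w = 2 ∧ w • a = b := by
  obtain ⟨⟨w, hw⟩⟩ : Nonempty (SwapSet H a b) := by
    refine (Nat.card_pos_iff.mp ?_).1
    rw [(se_swap hH hab).1]; exact kInv_pos hH
  exact ⟨w, hw⟩

omit hH [Finite G] in
theorem swap_back {w : G} (hw : orderOf w = 2) {a b : G ⧸ H} (h : w • a = b) : w • b = a := by
  rw [← h, ← mul_smul, inv_mul_self hw, one_smul]

theorem odd_two {a b : G ⧸ H} (hab : a ≠ b) :
    Odd (Nat.card ↥(stabilizer G a ⊓ stabilizer G b)) := by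
  rw [← Nat.not_even_iff_odd]
  intro he
  obtain ⟨t, ⟨hta, htb⟩, ht2⟩ := exists_involution_of_even he
  exact hab (se_fixed_unique hH ht2 hta htb)

omit hH [Finite G] in
theorem swapper_norm {w : G} (hw : orderOf w = 2) {a b : G ⧸ H} (h : w • a = b) :
    w ∈ normalizer ((stabilizer G a ⊓ stabilizer G b : Subgroup G) : Set G) := by
  have key : ∀ y ∈ stabilizer G a ⊓ stabilizer G b, w * y * w⁻¹ ∈ stabilizer G a ⊓ stabilizer G b := by
    intro y hy
    obtain ⟨hya, hyb⟩ := Subgroup.mem_inf.1 hy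
    rw [mem_stabilizer_iff] at hya hyb
    rw [inv_eq_self hw]
    refine Subgroup.mem_inf.2 ⟨?_, ?_⟩ <;> rw [mem_stabilizer_iff, mul_smul, mul_smul]
    · rw [h, hyb, swap_back hw h]
    · rw [swap_back hw h, hya, h]
  refine mem_normalizer_iff.2 fun y => ⟨key y, fun hy => ?_⟩
  have := key _ hy
  rwa [show w * (w * y * w⁻¹) * w⁻¹ = (w * w) * y * (w * w)⁻¹ by group, inv_mul_self hw, inv_one,
    mul_one, one_mul] at this

/-- A swapper inverts as many elements of the two-point stabilizer as there are involutions in `H`. -/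
theorem ncard_invSet_two {a b : G ⧸ H} (hab : a ≠ b) {w : G} (hw : orderOf w = 2) (h : w • a = b) :
    (invSet w (stabilizer G a ⊓ stabilizer G b)).ncard = kInv H := by
  rw [← Nat.card_coe_set_eq, kInv, ← (se_swap hH hab).1]
  have hba := swap_back hw h
  have hww := inv_mul_self hw
  have e0 : ∀ j : G, w * j * w⁻¹ = j⁻¹ → j * w * (j * w) = 1 := fun j hj => by
    rw [inv_eq_self hw] at hj
    calc j * w * (j * w) = j * (w * j * w) := by group
      _ = 1 := by rw [hj, mul_inv_cancel]
  refine Nat.card_congr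
    { toFun := fun j => ⟨j.1 * w, ?_, ?_⟩
      invFun := fun i => ⟨i.1 * w, ⟨?_, ?_⟩, ?_⟩
      left_inv := fun j => Subtype.ext (by show j.1 * w * w = j.1; rw [mul_assoc, hww, mul_one])
      right_inv := fun i => Subtype.ext (by show i.1 * w * w = i.1; rw [mul_assoc, hww, mul_one]) }
  · refine orderOf_eq_two_of (fun e => hab ?_) (e0 _ j.2.2)
    have e' : (j.1 * w) • a = a := by rw [e, one_smul]
    rw [mul_smul, h, (j.2.1.2 : j.1 • b = b)] at e'
    exact e'.symm
  · rw [mul_smul, h]; exact j.2.1.2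
  · show (i.1 * w) • a = a
    rw [mul_smul, h]; exact swap_back i.2.1 i.2.2
  · show (i.1 * w) • b = b
    rw [mul_smul, hba]; exact i.2.2
  · rw [mul_inv_rev, inv_eq_self hw, inv_eq_self i.2.1]
    calc w * (i.1 * w) * w = w * i.1 * (w * w) := by group
      _ = w * i.1 := by rw [hww, mul_one]

/-- An odd subgroup normalised by a four-group fixes the centre of the four-group. -/
theorem le_stabilizer_of_four {u v : G} (hu : orderOf u = 2) (hv : orderOf v = 2) (huv : u ≠ v)
    (hc : Commute u v) {x : G ⧸ H} (hx : u • x = x) {T : Subgroup G} (hT : Odd (Nat.card T))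
    (hnu : u ∈ normalizer (T : Set G)) (hnv : v ∈ normalizer (T : Set G)) : T ≤ stabilizer G x := by
  set A := zpowers u ⊔ zpowers v with hA
  have hA' : A = closure ({u, v} : Set G) := by
    rw [hA, zpowers_eq_closure, zpowers_eq_closure, ← Subgroup.closure_union, Set.singleton_union]
  have hmem : ∀ a ∈ A, a = 1 ∨ a = u ∨ a = v ∨ a = u * v := by
    intro a ha
    rw [hA', mem_closure_pair hu hv] at ha
    have h2 : ∀ k : ℤ, (u * v) ^ k = 1 ∨ (u * v) ^ k = u * v := fun k => by
      have h2 : (u * v) ^ (2 : ℤ) = 1 := by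
        rw [zpow_two, hc.symm.mul_mul_mul_comm, inv_mul_self hu, inv_mul_self hv, one_mul]
      rcases Int.even_or_odd k with ⟨j, rfl⟩ | ⟨j, rfl⟩
      · left; rw [← two_mul, zpow_mul, h2, one_zpow]
      · right; rw [zpow_add, zpow_mul, h2, one_zpow, one_mul, zpow_one]
    obtain ⟨k, hk | hk⟩ := ha <;> rcases h2 k with e | e <;> rw [e] at hk
    · exact Or.inl hk
    · exact Or.inr (Or.inr (Or.inr hk))
    · exact Or.inr (Or.inl (hk.trans (mul_one u)))
    · exact Or.inr (Or.inr (Or.inl (hk.trans (by rw [← mul_assoc, inv_mul_self hu, one_mul]))))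
  have huA : u ∈ A := mem_sup_left (mem_zpowers u)
  have hvA : v ∈ A := mem_sup_right (mem_zpowers v)
  have huv2 : orderOf (u * v) = 2 := orderOf_eq_two_of
    (fun e => huv (by rw [eq_inv_of_mul_eq_one_left e, inv_eq_self hv]))
    (by rw [hc.symm.mul_mul_mul_comm, inv_mul_self hu, inv_mul_self hv, one_mul])
  have hsq : ∀ a ∈ A, a * a = 1 := by
    intro a ha
    rcases hmem a ha with rfl | rfl | rfl | rfl
    · rw [one_mul]
    · exact inv_mul_self hu
    · exact inv_mul_self hv
    · exact inv_mul_self huv2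
  haveI : IsMulCommutative A := ⟨⟨fun a b => Subtype.ext (by
    show (a : G) * b = b * a
    have h1 := inv_eq_of_mul_eq_one_left (hsq _ (mul_mem a.2 b.2))
    rw [mul_inv_rev, inv_eq_of_mul_eq_one_left (hsq _ a.2), inv_eq_of_mul_eq_one_left (hsq _ b.2)] at h1
    exact h1.symm)⟩⟩
  have hnc : ¬ IsCyclic A := by
    intro hcyc
    obtain ⟨g, hg⟩ := hcyc.exists_generator
    have key : ∀ a : A, a = 1 ∨ a = g := by
      intro a
      obtain ⟨k, rfl⟩ := mem_zpowers_iff.1 (hg a)
      have h2 : g ^ (2 : ℤ) = 1 := by rw [zpow_two]; exact Subtype.ext (hsq _ g.2)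
      rcases Int.even_or_odd k with ⟨j, rfl⟩ | ⟨j, rfl⟩
      · left; rw [← two_mul, zpow_mul, h2, one_zpow]
      · right; rw [zpow_add, zpow_mul, h2, one_zpow, one_mul, zpow_one]
    rcases key ⟨u, huA⟩ with e | e
    · exact ne_one hu (congrArg Subtype.val e)
    rcases key ⟨v, hvA⟩ with e' | e'
    · exact ne_one hv (congrArg Subtype.val e')
    exact huv (congrArg Subtype.val (e.trans e'.symm))
  have hcop : (Nat.card A).Coprime (Nat.card T) := by
    have hp : IsPGroup 2 A := fun a => ⟨1, Subtype.ext (by simpa [pow_two] using hsq _ a.2)⟩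
    haveI : Fact (Nat.Prime 2) := ⟨Nat.prime_two⟩
    obtain ⟨n, hn⟩ := IsPGroup.iff_card.1 hp
    rw [hn]; exact Nat.Coprime.pow_left _ hT.coprime_two_left
  refine (Coprime.le_iSup_centralizer_of_not_isCyclic hnc
    (sup_le (zpowers_le_norm hnu) (zpowers_le_norm hnv)) hcop).trans (iSup_le fun a => ?_)
  obtain ⟨a, ha, ha1⟩ := a
  intro y hy
  rw [mem_stabilizer_iff]
  refine smul_eq_of_commute hH (orderOf_eq_two_of ha1 (hsq _ ha)) ?_ (mem_centralizer_singleton_iff.1 hy.2)
  have hvx : v • x = x := smul_eq_of_commute hH hu hx hc.symm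
  rcases hmem a ha with rfl | rfl | rfl | rfl
  · exact absurd rfl ha1
  · exact hx
  · exact hvx
  · rw [mul_smul, hvx, hx]

section Moved

variable {w : G} (hw : orderOf w = 2) {δ : G ⧸ H} (hδ : w • δ = δ) {T : Subgroup G}
  (hT : Odd (Nat.card T)) (hn : w ∈ normalizer (T : Set G)) (hmove : ¬ T ≤ stabilizer G δ)
include hw hδ hT hn hmove

/-- No involution normalising `T` has a centre fixed by `T`. -/
theorem centre_moved {v : G} (hv : orderOf v = 2) (hvn : v ∈ normalizer (T : Set G)) {y : G ⧸ H}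
    (hy : v • y = y) : ¬ T ≤ stabilizer G y := by
  intro hTy
  have hne : y ≠ δ := fun e => hmove (e ▸ hTy)
  have hodd : Odd (orderOf (v * w)) := by
    rw [← Nat.not_even_iff_odd]
    intro he
    obtain ⟨hz, hzv, hzw⟩ := central_involution hv hw he
    set z := (v * w) ^ (orderOf (v * w) / 2)
    exact hne (se_fixed_unique hH hz (smul_eq_of_commute hH hv hy hzv)
      (smul_eq_of_commute hH hw hδ hzw))
  obtain ⟨d, hd, hdv⟩ := exists_conj_zpowers_of_odd hv hw hodd
  have hdn : d ∈ normalizer (T : Set G) := zpowers_le.2 (mul_mem hvn hn) hd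
  have hdy : d • y = δ := se_fixed_unique hH hw
    (by rw [← hdv, mul_smul, mul_smul, inv_smul_smul, hy]) hδ
  refine hmove fun t ht => ?_
  rw [mem_stabilizer_iff, ← hdy, ← mul_smul, show t * d = d * (d⁻¹ * t * d) by group, mul_smul,
    (hTy (by simpa [mul_assoc] using conj_mem_of_norm (inv_mem hdn) ht) :
      (d⁻¹ * t * d) • y = y)]

/-- The normalizer has 2-rank one, so its involution is isolated. -/
theorem isolated_normalizer :
    IsIsolatedInvolution (⟨w, hn⟩ : normalizer (T : Set G)) := by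
  refine ⟨by rw [Subgroup.orderOf_mk, hw], fun g hc => ?_⟩
  by_contra hne
  set v := (g : G) * w * (g : G)⁻¹
  have hv : orderOf v = 2 := by rw [Invol.orderOf_conj_eq, hw]
  have hc' : Commute w v := hc.map (normalizer (T : Set G)).subtype
  exact hmove (le_stabilizer_of_four hH hw hv (fun e => hne (Subtype.ext e.symm)) hc' hδ hT hn
    (mul_mem (mul_mem g.2 hn) (inv_mem g.2)))

theorem isolated_all {v : G} (hv : orderOf v = 2) (hvn : v ∈ normalizer (T : Set G)) :
    ∃ o : normalizer (T : Set G), o ∈ oddCore (normalizer (T : Set G)) ∧ v = (o : G) * w := by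
  obtain ⟨y, hy⟩ := exists_fix hH hv
  have hym : ¬ T ≤ stabilizer G y := centre_moved hH hw hδ hT hn hmove hv hvn hy
  have hodd : Odd (orderOf (w * v)) := by
    rw [← Nat.not_even_iff_odd]
    intro he
    obtain ⟨hz, hzw, hzv⟩ := central_involution hw hv he
    set z := (w * v) ^ (orderOf (w * v) / 2)
    have hzn : z ∈ normalizer (T : Set G) := pow_mem (mul_mem hn hvn) _
    by_cases e : z = w
    · refine hmove (le_stabilizer_of_four hH hw hv ?_ (e ▸ hzv) hδ hT hn hvn)
      intro e'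
      rw [e', inv_mul_self hv, orderOf_one] at he
      exact Nat.not_even_one he
    · exact hmove (le_stabilizer_of_four hH hw hz (Ne.symm e) hzw.symm hδ hT hn hzn)
  obtain ⟨d, hd, hdv⟩ := exists_conj_zpowers_of_odd hw hv hodd
  have hdn : d ∈ normalizer (T : Set G) := zpowers_le.2 (mul_mem hn hvn) hd
  have h := ZStar.zStarHolds ↥(normalizer (T : Set G)) ⟨w, hn⟩ (isolated_normalizer hH hw hδ hT hn hmove) ⟨d, hdn⟩
  refine ⟨_, inv_mem h, ?_⟩
  simp only [InvMemClass.coe_inv, Subgroup.coe_mul]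
  rw [← hdv, mul_inv_rev, mul_inv_rev, mul_inv_rev, inv_inv, inv_inv]
  group

/-- If every pair of fixed points is swapped in the normalizer there are only two. -/
theorem two_points {a : G ⧸ H} (ha : T ≤ stabilizer G a)
    (hswap : ∀ c d : G ⧸ H, T ≤ stabilizer G c → T ≤ stabilizer G d → c ≠ d →
      ∃ v, orderOf v = 2 ∧ v ∈ normalizer (T : Set G) ∧ v • c = d) :
    ∀ b : G ⧸ H, T ≤ stabilizer G b → b = a ∨ b = w • a := by
  set L := normalizer (T : Set G)
  set O := oddCore L
  have hfixL : ∀ l : L, ∀ c : G ⧸ H, T ≤ stabilizer G c → T ≤ stabilizer G ((l : G) • c) :=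
    fun l c hc t ht => by
      rw [mem_stabilizer_iff, ← mul_smul, show t * (l : G) = (l : G) * ((l : G)⁻¹ * t * l) by group,
        mul_smul, (hc (by simpa [mul_assoc] using conj_mem_of_norm (inv_mem l.2) ht) :
          ((l : G)⁻¹ * t * l) • c = c)]
  -- the odd core fixes every point fixed by `T`
  have hO : ∀ o ∈ O, ∀ c : G ⧸ H, T ≤ stabilizer G c → (o : G) • c = c := by
    intro o ho c hc
    by_contra hne
    obtain ⟨v, hv, hvn, hvc⟩ := hswap c _ hc (hfixL o c hc) (Ne.symm hne)
    set X := MulAction.orbit O c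
    haveI : Fintype X := Fintype.ofFinite _
    have hodd : ¬ 2 ∣ Fintype.card X := by
      rw [← Nat.card_eq_fintype_card, Nat.card_congr (MulAction.orbitEquivQuotientStabilizer O c)]
      exact fun h2 => Nat.not_even_iff_odd.mpr (ZStar.odd_card_oddCore (G := L))
        (even_iff_two_dvd.mpr (h2.trans (card_quotient_dvd_card _)))
    have hvX : ∀ z ∈ X, v • z ∈ X := by
      rintro _ ⟨⟨o', ho'⟩, rfl⟩
      have hn' : (⟨v, hvn⟩ : L) * o' * (⟨v, hvn⟩ : L)⁻¹ ∈ O :=
        (inferInstance : O.Normal).conj_mem _ ho' _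
      refine ⟨⟨_, mul_mem hn' ho⟩, ?_⟩
      show (v * (o' : G) * v⁻¹ * (o : G)) • c = v • ((o' : G) • c)
      rw [mul_smul, ← hvc, inv_eq_self hv, mul_smul, mul_smul, swap_back hv rfl]
    let σ : Equiv.Perm X :=
      { toFun := fun z => ⟨v • z.1, hvX _ z.2⟩
        invFun := fun z => ⟨v • z.1, hvX _ z.2⟩
        left_inv := fun z => Subtype.ext (swap_back hv rfl)
        right_inv := fun z => Subtype.ext (swap_back hv rfl) }
    obtain ⟨⟨z, hz⟩, hzf⟩ := Equiv.Perm.exists_fixed_point_of_prime (p := 2) (n := 1) hodd (σ := σ)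
      (Equiv.ext fun z => by
        rw [pow_one, pow_two]; exact Subtype.ext (swap_back hv rfl))
    obtain ⟨⟨o', ho'⟩, rfl⟩ := hz
    exact centre_moved hH hw hδ hT hn hmove hv hvn (congrArg Subtype.val hzf) (hfixL o' c hc)
  intro b hb
  by_contra hne
  rw [not_or] at hne
  obtain ⟨v, hv, hvn, hvb⟩ := hswap a b ha hb (Ne.symm hne.1)
  obtain ⟨o, ho, hvo⟩ := isolated_all hH hw hδ hT hn hmove hv hvn
  apply hne.2
  rw [← hvb, hvo, mul_smul, hO o ho _ (hfixL ⟨w, hn⟩ a ha)]

end Moved

end Cfsg.Lib.StrongEmb
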