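import Cfsg.Agent.Lib.Invol.Embedded
import Cfsg.Agent.Lib.Coprime.Action
import Cfsg.Agent.Lib.FusionSys.StronglyEmb

/-!
Subgroups invariant under an involution: inverted elements and invariant Sylow subgroups.
-/

set_option autoImplicit false
set_option linter.style.haveILetI false

namespace Cfsg.Lib.StrongEmb

open Subgroup Cfsg.Lib.Invol

variable {G : Type*} [Group G]

/-- The elements of `T` inverted by `w`. -/
def invSet (w : G) (T : Subgroup G) : Set G := {j | j ∈ T ∧ w * j * w⁻¹ = j⁻¹}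

theorem invSet_mono {w : G} {S T : Subgroup G} (h : S ≤ T) : invSet w S ⊆ invSet w T :=
  fun _ hj => ⟨h hj.1, hj.2⟩

theorem conj_mem_of_norm {w x : G} {T : Subgroup G} (hw : w ∈ normalizer (T : Set G)) (hx : x ∈ T) :
    w * x * w⁻¹ ∈ T := (mem_normalizer_iff.1 hw x).1 hx

theorem zpowers_le_norm {w : G} {T : Subgroup G} (hw : w ∈ normalizer (T : Set G)) :
    zpowers w ≤ normalizer (T : Set G) := zpowers_le.2 hw

theorem coprime_two [Finite G] {w : G} (hw : orderOf w = 2) {T : Subgroup G} (hT : Odd (Nat.card T)) :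
    (Nat.card (zpowers w)).Coprime (Nat.card T) := by
  rw [Nat.card_zpowers, hw]; exact hT.coprime_two_left

/-- The twisted commutator lands among the inverted elements. -/
theorem twist_mem {w y : G} (hw : orderOf w = 2) {T : Subgroup G}
    (hn : w ∈ normalizer (T : Set G)) (hy : y ∈ T) : y * w * y⁻¹ * w⁻¹ ∈ invSet w T := by
  refine ⟨?_, ?_⟩
  · rw [show y * w * y⁻¹ * w⁻¹ = y * (w * y⁻¹ * w⁻¹) by group]
    exact mul_mem hy (conj_mem_of_norm hn (inv_mem hy))
  · simp only [inv_eq_self hw, mul_inv_rev, inv_inv]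
    calc w * (y * w * y⁻¹ * w) * w = w * y * w * y⁻¹ * (w * w) := by group
      _ = w * (y * (w * y⁻¹)) := by rw [inv_mul_self hw]; group

theorem exists_sqrt [Finite G] {j : G} {T : Subgroup G} (hT : Odd (Nat.card T)) (hj : j ∈ T) :
    ∃ h ∈ zpowers j, h * h = j := by
  obtain ⟨t, ht⟩ := hT.of_dvd_nat (Subgroup.orderOf_dvd_natCard T hj)
  refine ⟨j ^ (t + 1), pow_mem (mem_zpowers j) _, ?_⟩
  rw [← pow_add, show t + 1 + (t + 1) = orderOf j + 1 by omega, pow_succ, pow_orderOf_eq_one, one_mul]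

/-- The inverted elements are in bijection with the cosets of the centralizer. -/
theorem ncard_invSet [Finite G] {w : G} (hw : orderOf w = 2) {T : Subgroup G}
    (hn : w ∈ normalizer (T : Set G)) (hT : Odd (Nat.card T)) :
    (invSet w T).ncard = ((centralizer ({w} : Set G)).subgroupOf T).index := by
  set C := (centralizer ({w} : Set G)).subgroupOf T
  have hC : ∀ a b : T, a⁻¹ * b ∈ C ↔
      (a : G) * w * (a : G)⁻¹ * w⁻¹ = (b : G) * w * (b : G)⁻¹ * w⁻¹ := by
    intro a b
    rw [mem_subgroupOf, mem_centralizer_singleton_iff, mul_left_inj]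
    simp only [Subgroup.coe_mul, InvMemClass.coe_inv]
    constructor <;> intro h
    · calc (a : G) * w * (a : G)⁻¹ = (a : G) * (w * ((a : G)⁻¹ * b)) * (b : G)⁻¹ := by group
        _ = (a : G) * ((a : G)⁻¹ * b * w) * (b : G)⁻¹ := by rw [h]
        _ = b * w * (b : G)⁻¹ := by group
    · calc (a : G)⁻¹ * b * w = (a : G)⁻¹ * ((b : G) * w * (b : G)⁻¹) * b := by group
        _ = (a : G)⁻¹ * ((a : G) * w * (a : G)⁻¹) * b := by rw [h]
        _ = w * ((a : G)⁻¹ * b) := by group
  let f : T ⧸ C → invSet w T := Quotient.lift (fun a : T =>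
      (⟨_, twist_mem hw hn a.2⟩ : invSet w T))
    fun a b hab => Subtype.ext ((hC a b).1 (QuotientGroup.leftRel_apply.1 hab))
  rw [← Nat.card_coe_set_eq, index]
  refine (Nat.card_eq_of_bijective f ⟨?_, ?_⟩).symm
  · intro a b
    induction a using QuotientGroup.induction_on
    induction b using QuotientGroup.induction_on
    intro e
    rw [QuotientGroup.eq]
    exact (hC _ _).2 (congrArg Subtype.val e)
  · rintro ⟨j, hj, hinv⟩
    obtain ⟨h, hh, hhj⟩ := exists_sqrt hT hj
    have hhT : h ∈ T := zpowers_le.2 hj hh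
    refine ⟨QuotientGroup.mk ⟨h, hhT⟩, Subtype.ext ?_⟩
    obtain ⟨k, hk⟩ := hh
    simp only at hk
    show h * w * h⁻¹ * w⁻¹ = j
    rw [show h * w * h⁻¹ * w⁻¹ = h * (w * h * w⁻¹)⁻¹ by group, ← hk, ← conj_zpow, hinv,
      inv_zpow, inv_inv, hk, hhj]

/-- An element of an invariant odd subgroup is an inverted element times a centralized one. -/
theorem exists_inv_mul_cent [Finite G] {w y : G} (hw : orderOf w = 2) {T : Subgroup G}
    (hn : w ∈ normalizer (T : Set G)) (hT : Odd (Nat.card T)) (hy : y ∈ T) :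
    ∃ j ∈ invSet w T, ∃ c, Commute c w ∧ y = j * c := by
  have h1 := twist_mem hw hn hy
  obtain ⟨h, hh, hhj⟩ := exists_sqrt hT h1.1
  have hhT : h ∈ T := zpowers_le.2 h1.1 hh
  obtain ⟨k, hk⟩ := hh
  simp only at hk
  have hhi : w * h * w⁻¹ = h⁻¹ := by rw [← hk, ← conj_zpow, h1.2, inv_zpow]
  refine ⟨h, ⟨hhT, hhi⟩, h⁻¹ * y, ?_, by group⟩
  have : h⁻¹ * y * w * y⁻¹ * h * w⁻¹ = 1 := by
    rw [show h⁻¹ * y * w * y⁻¹ * h * w⁻¹ = h⁻¹ * (y * w * y⁻¹ * w⁻¹) * (w * h * w⁻¹) by group, hhi,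
      ← hhj]
    group
  show h⁻¹ * y * w = w * (h⁻¹ * y)
  calc h⁻¹ * y * w = (h⁻¹ * y * w * y⁻¹ * h * w⁻¹) * (w * h⁻¹ * y) := by group
    _ = w * (h⁻¹ * y) := by rw [this]; group

/-- A Sylow `p`-subgroup of a subgroup, as a subgroup of the whole group. -/
def IsSyl (p : ℕ) (K P : Subgroup G) : Prop :=
  P ≤ K ∧ Nat.card P = p ^ (Nat.card K).factorization p

section Syl

variable [Finite G] {p : ℕ} [hp : Fact p.Prime] {K : Subgroup G}

theorem isSyl_map (P : Sylow p K) : IsSyl p K ((P : Subgroup K).map K.subtype) :=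
  ⟨map_subtype_le _, by rw [card_map_of_injective K.subtype_injective, P.card_eq_multiplicity]⟩

omit [Finite G] hp in
theorem IsSyl.isPGroup {P : Subgroup G} (h : IsSyl p K P) : IsPGroup p P := IsPGroup.of_card h.2

theorem IsSyl.exists_sylow {P : Subgroup G} (h : IsSyl p K P) :
    ∃ Q : Sylow p K, (Q : Subgroup K).map K.subtype = P :=
  ⟨Sylow.ofCard (P.subgroupOf K) (by rw [Nat.card_congr (subgroupOfEquivOfLe h.1).toEquiv, h.2]), by
    rw [Sylow.coe_ofCard, map_subgroupOf_eq_of_le h.1]⟩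

theorem card_le_of_le {Q : Subgroup G} (hQ : IsPGroup p Q) (hQK : Q ≤ K) :
    Nat.card Q ≤ p ^ (Nat.card K).factorization p := by
  obtain ⟨R, hR⟩ := (hQ.comap_subtype (K := K)).exists_le_sylow
  calc Nat.card Q = Nat.card (Q.comap K.subtype) := (Nat.card_congr (subgroupOfEquivOfLe hQK).toEquiv).symm
    _ ≤ Nat.card (R : Subgroup K) := Nat.le_of_dvd Nat.card_pos (card_dvd_of_le hR)
    _ = _ := R.card_eq_multiplicity

theorem IsSyl.eq_of_le {P R : Subgroup G} (h : IsSyl p K P) (hR : IsPGroup p R) (hRK : R ≤ K)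
    (hPR : P ≤ R) : R = P :=
  (Subgroup.eq_of_le_of_card_ge hPR ((card_le_of_le hR hRK).trans h.2.ge)).symm

theorem exists_isSyl (Q : Subgroup G) (hQ : IsPGroup p Q) (hQK : Q ≤ K) :
    ∃ P, IsSyl p K P ∧ Q ≤ P := by
  obtain ⟨R, hR⟩ := (hQ.comap_subtype (K := K)).exists_le_sylow
  exact ⟨_, isSyl_map R, fun x hx => ⟨⟨x, hQK hx⟩, hR hx, rfl⟩⟩

theorem IsSyl.exists_conj {P P' : Subgroup G} (h : IsSyl p K P) (h' : IsSyl p K P') :
    ∃ g ∈ K, P' = P.map (MulAut.conj g).toMonoidHom := by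
  obtain ⟨Q, rfl⟩ := h.exists_sylow
  obtain ⟨Q', rfl⟩ := h'.exists_sylow
  exact Coprime.exists_sylow_conj Q Q'

theorem IsSyl.conj {P : Subgroup G} (h : IsSyl p K P) {g : G} (hg : g ∈ K) :
    IsSyl p K (P.map (MulAut.conj g).toMonoidHom) := by
  refine ⟨?_, by rw [Coprime.card_map_conj]; exact h.2⟩
  rintro _ ⟨x, hx, rfl⟩
  exact mul_mem (mul_mem hg (h.1 hx)) (inv_mem hg)

/-- An invariant Sylow subgroup over an invariant subgroup. -/
theorem exists_invariant_isSyl {w : G} (hw : orderOf w = 2) (hn : w ∈ normalizer (K : Set G))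
    (hK : Odd (Nat.card K)) (Q : Subgroup G) (hQ : IsPGroup p Q) (hQK : Q ≤ K)
    (hQn : w ∈ normalizer (Q : Set G)) :
    ∃ P, IsSyl p K P ∧ Q ≤ P ∧ w ∈ normalizer (P : Set G) := by
  induction hm : p ^ (Nat.card K).factorization p - Nat.card Q using Nat.strong_induction_on generalizing Q with
  | _ m IH =>
  by_cases hs : Nat.card Q = p ^ (Nat.card K).factorization p
  · exact ⟨Q, ⟨hQK, hs⟩, le_rfl, hQn⟩
  set N := K ⊓ normalizer (Q : Set G) with hN
  have hwN : w ∈ normalizer (N : Set G) := inf_normalizer_le_normalizer_inf ⟨hn, le_normalizer hQn⟩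
  obtain ⟨R, hR⟩ := Coprime.exists_invariant_sylow (zpowers_le_norm hwN)
    (coprime_two hw (hK.of_dvd_nat (card_dvd_of_le inf_le_left))) (Or.inl inferInstance) p
  set R' := (R : Subgroup N).map N.subtype
  have hQR : Q ≤ R' := by
    haveI : (Q.comap N.subtype).Normal :=
      (normal_subgroupOf_iff_le_normalizer (le_inf hQK le_normalizer)).mpr inf_le_right
    exact fun x hx => ⟨⟨x, hQK hx, le_normalizer hx⟩,
      IsPGroup.le_sylow_of_normal (hQ.comap_subtype (K := N)) R hx, rfl⟩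
  obtain ⟨S, hS, hQS⟩ := exists_isSyl Q hQ hQK
  have hlt : Q < S := lt_of_le_of_ne hQS fun e => hs (e ▸ hS.2)
  have h1 := Cfsg.Lib.FusionSys.lt_inf_normalizer_self hS.isPGroup hlt
  have h2 : Nat.card Q < Nat.card R' := by
    refine lt_of_not_ge fun hle => h1.ne (Subgroup.eq_of_le_of_card_ge h1.le ?_)
    refine le_trans ?_ hle
    rw [(isSyl_map R).2]
    exact card_le_of_le (hS.isPGroup.to_le inf_le_left) (le_inf (inf_le_left.trans hS.1) inf_le_right)
  have h3 : Nat.card R' ≤ p ^ (Nat.card K).factorization p :=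
    card_le_of_le (K := K) (R.isPGroup'.map N.subtype) ((isSyl_map R).1.trans inf_le_left)
  obtain ⟨P, hP, hRP, hPn⟩ := IH (p ^ (Nat.card K).factorization p - Nat.card R')
    (by omega) R' (R.isPGroup'.map N.subtype) ((isSyl_map R).1.trans inf_le_left)
    (hR (mem_zpowers w)) rfl
  exact ⟨P, hP, hQR.trans hRP, hPn⟩

/-- Invariant Sylow subgroups are conjugate under the centralizer. -/
theorem exists_cent_conj {w : G} (hw : orderOf w = 2) (hn : w ∈ normalizer (K : Set G))
    (hK : Odd (Nat.card K)) {P P' : Subgroup G} (h : IsSyl p K P) (h' : IsSyl p K P')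
    (hP : w ∈ normalizer (P : Set G)) (hP' : w ∈ normalizer (P' : Set G)) :
    ∃ c ∈ K, Commute c w ∧ P' = P.map (MulAut.conj c).toMonoidHom := by
  obtain ⟨g, hg, e⟩ := h.exists_conj h'
  obtain ⟨c, hc, e'⟩ := Coprime.exists_centralizer_conj (zpowers_le_norm hn) (coprime_two hw hK)
    (Or.inl inferInstance) (zpowers_le_norm hP) (zpowers_le_norm hP') hg e
  exact ⟨c, hc.1, (mem_centralizer_iff.1 hc.2 w (mem_zpowers w)).symm, e'⟩

/-- An invariant Sylow subgroup contains the `p`-part of the inverted elements. -/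
theorem ncard_invSet_syl {w : G} (hw : orderOf w = 2) (hn : w ∈ normalizer (K : Set G))
    (hK : Odd (Nat.card K)) {P : Subgroup G} (hP : IsSyl p K P) (hPn : w ∈ normalizer (P : Set G)) :
    (invSet w P).ncard = p ^ ((invSet w K).ncard).factorization p := by
  have hPodd : Odd (Nat.card P) := hK.of_dvd_nat (card_dvd_of_le hP.1)
  set Cw := centralizer ({w} : Set G) with hCw
  -- the centralizer in `P` is Sylow in the centralizer in `K`
  have hsyl : p ^ (Nat.card ↥(Cw ⊓ K)).factorization p ≤ Nat.card ↥(Cw ⊓ P) := by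
    obtain ⟨R, hR, -⟩ := exists_isSyl (K := Cw ⊓ K) (p := p) ⊥ IsPGroup.of_bot bot_le
    have hRn : w ∈ normalizer (R : Set G) := mem_normalizer_fintype fun x hx => by
      rw [← mem_centralizer_singleton_iff.1 (hR.1 hx).1, mul_inv_cancel_right]; exact hx
    obtain ⟨P', hP', hRP', hP'n⟩ := exists_invariant_isSyl hw hn hK R hR.isPGroup
      (hR.1.trans inf_le_right) hRn
    obtain ⟨c, -, hcw, rfl⟩ := exists_cent_conj hw hn hK hP hP' hPn hP'n
    calc p ^ (Nat.card ↥(Cw ⊓ K)).factorization p = Nat.card R := hR.2.symm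
      _ ≤ Nat.card ↥((Cw ⊓ P).map (MulAut.conj c).toMonoidHom) := by
        refine Nat.le_of_dvd Nat.card_pos (card_dvd_of_le fun x hx => ?_)
        obtain ⟨y, hy, rfl⟩ := hRP' hx
        refine ⟨y, ⟨?_, hy⟩, rfl⟩
        have h1 : Commute (c * y * c⁻¹) w := mem_centralizer_singleton_iff.1 (hR.1 hx).1
        have h2 := (hcw.inv_left.mul_left h1).mul_left hcw
        rw [show c⁻¹ * (c * y * c⁻¹) * c = y by group] at h2
        exact mem_centralizer_singleton_iff.2 h2.eq
      _ = _ := Coprime.card_map_conj _ _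
  have hle : Nat.card ↥(Cw ⊓ P) = p ^ (Nat.card ↥(Cw ⊓ K)).factorization p :=
    le_antisymm (card_le_of_le (hP.isPGroup.to_le inf_le_right) (inf_le_inf le_rfl hP.1)) hsyl
  have h1 := index_mul_card (Cw.subgroupOf K)
  have h2 := index_mul_card (Cw.subgroupOf P)
  rw [show Nat.card ↥(Cw.subgroupOf K) = Nat.card ↥(Cw ⊓ K) by
      rw [← inf_subgroupOf_right]; exact Nat.card_congr (subgroupOfEquivOfLe inf_le_right).toEquiv,
    ← ncard_invSet hw hn hK] at h1
  rw [show Nat.card ↥(Cw.subgroupOf P) = Nat.card ↥(Cw ⊓ P) by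
      rw [← inf_subgroupOf_right]; exact Nat.card_congr (subgroupOfEquivOfLe inf_le_right).toEquiv,
    ← ncard_invSet hw hPn hPodd, hle, hP.2] at h2
  have hpos : (invSet w K).ncard ≠ 0 := fun e => by
    rw [e, zero_mul] at h1; exact Nat.card_pos.ne h1
  rw [← h1, Nat.factorization_mul hpos Nat.card_pos.ne', Finsupp.add_apply, pow_add] at h2
  exact Nat.eq_of_mul_eq_mul_right (pow_pos hp.out.pos _) h2

end Syl

end Cfsg.Lib.StrongEmb
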