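import Cfsg.Agent.Lib.StrongEmb.Geometry
import Cfsg.Agent.Lib.Char.RealOddDegree
import Cfsg.Agent.Lib.Char.InvolutionSetSum
import Cfsg.Agent.Lib.BSW.Phi
import Mathlib.LinearAlgebra.Matrix.Charpoly.Basic

/-!
# A real character of odd degree on the involutions of a strongly embedded subgroup

The facts about a real irreducible character of odd degree that give a good prime in Bender's
transitivity theorem: integrality of an eigenvalue of an integral matrix, nonvanishing of the sum
over a subgroup of odd order, existence, and the case of equality at an involution.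
-/

set_option autoImplicit false
set_option linter.style.haveILetI false
set_option linter.unusedSectionVars false

namespace Cfsg.Lib.StrongEmb

open Subgroup Cfsg Cfsg.Lib.Char
open Cfsg.Lib.Char.RealOdd (IsReal bar bar_bar isReal_of_bar)
open scoped ComplexConjugate

universe u

/-- An eigenvalue of an integral matrix is an algebraic integer. -/
theorem isIntegral_of_eigen {ι : Type*} [Fintype ι] [DecidableEq ι] (M : Matrix ι ι ℤ) (c : ℂ)
    (f : ι → ℂ) (hf : f ≠ 0) (h : ∀ i, ∑ j, (M i j : ℂ) * f j = c * f i) : IsIntegral ℤ c := by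
  set Mc : Matrix ι ι ℂ := M.map (Int.castRingHom ℂ) with hMc
  have hdet : (Matrix.scalar ι c - Mc).det = 0 := by
    refine Matrix.exists_mulVec_eq_zero_iff.1 ⟨f, hf, ?_⟩
    funext i
    rw [Matrix.sub_mulVec, Pi.sub_apply, Pi.zero_apply, sub_eq_zero, Matrix.scalar_apply,
      Matrix.mulVec_diagonal, ← h i]
    exact Finset.sum_congr rfl fun j _ => by simp [hMc]
  rw [← Matrix.eval_charpoly, hMc, Matrix.charpoly_map] at hdet
  exact ⟨M.charpoly, M.charpoly_monic, by rwa [Polynomial.eval_map] at hdet⟩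

variable {A : Type u} [Group A] [Finite A]

/-- A real character of odd degree does not sum to zero over a subgroup of odd order. -/
theorem sum_ne_zero_of_real {θ : A → ℂ} (hθ : IsCharacter A θ) (hr : IsReal θ) {d : ℕ}
    (hd : θ 1 = d) (hodd : Odd d) (R : Subgroup A) [Fintype R] (hR : Odd (Nat.card R)) :
    ∑ r : R, θ r ≠ 0 := by
  classical
  intro h0
  -- pair each element with its inverse
  have hinv : ∀ r : R, θ ((r⁻¹ : R) : A) = θ r := fun r => by
    rw [InvMemClass.coe_inv, hθ.apply_inv, hr]
  have hfix : ∀ r : R, r⁻¹ = r → r = 1 := fun r hr' => by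
    have h2 : r ^ 2 = 1 := by rw [pow_two]; nth_rw 1 [← hr']; exact inv_mul_cancel r
    have h1 : orderOf r ∣ 2 := orderOf_dvd_of_pow_eq_one h2
    have h3 : orderOf r ∣ Nat.card R := orderOf_dvd_natCard r
    exact orderOf_eq_one_iff.1 (Nat.dvd_one.1 ((Nat.coprime_two_left.2 hR) ▸ Nat.dvd_gcd h1 h3))
  obtain ⟨T, hT⟩ : ∃ T : Finset R, (Finset.univ.erase (1 : R)) = T ∪ T.image (·⁻¹) ∧
      Disjoint T (T.image (·⁻¹)) := by
    set e := Fintype.equivFin R
    refine ⟨(Finset.univ.erase (1 : R)).filter fun r => e r < e r⁻¹, ?_, ?_⟩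
    · ext r
      simp only [Finset.mem_union, Finset.mem_image, Finset.mem_filter, Finset.mem_erase,
        Finset.mem_univ, and_true]
      constructor
      · intro h1
        rcases lt_trichotomy (e r) (e r⁻¹) with h | h | h
        · exact Or.inl ⟨h1, h⟩
        · exact absurd (hfix r (e.injective h).symm) h1
        · exact Or.inr ⟨r⁻¹, ⟨fun e' => h1 (inv_eq_one.1 e'), by rwa [inv_inv]⟩, inv_inv r⟩
      · rintro (⟨h1, -⟩ | ⟨s, ⟨h1, -⟩, rfl⟩)
        · exact h1
        · exact fun e' => h1 (inv_eq_one.1 e')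
    · rw [Finset.disjoint_left]
      rintro r hr' hr''
      simp only [Finset.mem_image, Finset.mem_filter] at hr' hr''
      obtain ⟨s, ⟨-, hs⟩, rfl⟩ := hr''
      rw [inv_inv] at hr'
      exact lt_asymm hs hr'.2
  rw [← Finset.add_sum_erase _ _ (Finset.mem_univ (1 : R)), hT.1, Finset.sum_union hT.2,
    Finset.sum_image fun a _ b _ h => inv_injective h, Finset.sum_congr rfl fun r _ => hinv r,
    OneMemClass.coe_one, hd] at h0
  have hint : IsIntegral ℤ ((d : ℂ) / (2 : ℕ)) := by
    have : (d : ℂ) / (2 : ℕ) = -∑ r ∈ T, θ r := by push_cast; linear_combination h0 / 2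
    rw [this]
    exact (IsIntegral.sum _ fun r _ => hθ.isIntegral _).neg
  exact Nat.not_even_iff_odd.2 hodd (even_iff_two_dvd.2 (natCast_dvd_of_isIntegral two_ne_zero hint))

/-- A group of even order has a nontrivial real irreducible character of odd degree. -/
theorem exists_real_odd (hA : Even (Nat.card A)) :
    ∃ φ : IrrCharacter A, IsReal (φ : A → ℂ) ∧ Odd (charDegree (φ : A → ℂ)) ∧
      (φ : A → ℂ) ≠ fun _ => 1 := by
  classical
  haveI := Fintype.ofFinite A
  by_contra hcon
  set one : IrrCharacter A := ⟨fun _ => 1, isIrrCharacter_one⟩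
  have h1 : charDegree (one : A → ℂ) = 1 := by
    have h := RealOdd.degree_eq one
    have h' : ((1 : ℕ) : ℂ) = (charDegree (one : A → ℂ) : ℂ) := by
      rw [← h, Nat.cast_one]
    exact (Nat.cast_injective h').symm
  have hsum : (∑ φ : IrrCharacter A, ((charDegree (φ : A → ℂ) ^ 2 : ℕ) : ZMod 2)) = 0 := by
    rw [← Nat.cast_sum, ZMod.natCast_eq_zero_iff_even]
    have h := sum_sq_degree (G := A)
    simp_rw [RealOdd.degree_eq] at h
    rwa [show ∑ φ : IrrCharacter A, charDegree (φ : A → ℂ) ^ 2 = Nat.card A by exact_mod_cast h]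
  have hbar1 : bar one = one := Subtype.ext (funext fun _ => map_one _)
  have h0 : ∑ φ ∈ Finset.univ.erase one, ((charDegree (φ : A → ℂ) ^ 2 : ℕ) : ZMod 2) = 0 := by
    refine Finset.sum_involution (fun φ _ => bar φ) (fun φ _ => ?_) (fun φ hφ hne he => ?_)
      (fun φ hφ => ?_) (fun φ _ => bar_bar φ)
    · have : charDegree ((bar φ : IrrCharacter A) : A → ℂ) = charDegree (φ : A → ℂ) := by
        simp [charDegree, bar]
      rw [this]
      exact CharTwo.add_self_eq_zero _
    · refine hne ((ZMod.natCast_eq_zero_iff_even).2 ?_)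
      rw [← Nat.not_odd_iff_even]
      intro h
      refine hcon ⟨φ, isReal_of_bar he, ((Nat.odd_pow_iff two_ne_zero).1 h), fun e => ?_⟩
      exact Finset.ne_of_mem_erase hφ (Subtype.ext e)
    · refine Finset.mem_erase.2 ⟨fun e => Finset.ne_of_mem_erase hφ ?_, Finset.mem_univ _⟩
      rw [← bar_bar φ, e, hbar1]
  rw [← Finset.add_sum_erase _ _ (Finset.mem_univ one), h0, add_zero, h1] at hsum
  exact absurd hsum (by decide)

/-- A value of maximal absolute value is that of a scalar. -/
theorem mul_degree_of_norm_eq {θ : A → ℂ} (hθ : IsIrrCharacter A θ) {s : A} (t : A)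
    (h : ‖θ s‖ = (θ 1).re) : θ (s * t) * θ 1 = θ s * θ t := by
  obtain ⟨n, ρ, -, rfl⟩ := hθ
  rw [Representation.char_one] at h ⊢
  obtain ⟨c, hc⟩ := (norm_character_eq_iff ρ s).1 (by simpa using h)
  simp only [Representation.character, map_mul, hc]
  rw [smul_mul_assoc, map_smul, map_smul, LinearMap.trace_id]
  change c • LinearMap.trace ℂ _ (ρ t) * _ = _
  simp only [smul_eq_mul]
  ring

end Cfsg.Lib.StrongEmb
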